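import Groth.Agent.Lib.FibPd.DepthAlong
import Groth.Agent.Lib.FibClos.Scheme
import Groth.Agent.Lib.NoethTop.Spectral

/-!
# Generisations in a constructible set
-/

set_option autoImplicit false
set_option linter.style.haveILetI false
universe u

open TensorProduct Function IsLocalRing MvPolynomial Topology TopologicalSpace

namespace GrothLib.FibPd

attribute [local instance] MvPolynomial.algebraMvPolynomial

variable {A : Type u} [CommRing A] {n : ℕ}

theorem genIn_union (S S' : Set (PrimeSpectrum (Pol A n))) (τ : ℕ) (Q : PrimeSpectrum (Pol A n)) :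
    GenIn (S ∪ S') τ Q ↔ GenIn S τ Q ∨ GenIn S' τ Q := by
  constructor
  · rintro ⟨y, h1, h2, h3 | h3, h4⟩
    · exact Or.inl ⟨y, h1, h2, h3, h4⟩
    · exact Or.inr ⟨y, h1, h2, h3, h4⟩
  · rintro (⟨y, h1, h2, h3, h4⟩ | ⟨y, h1, h2, h3, h4⟩)
    · exact ⟨y, h1, h2, Or.inl h3, h4⟩
    · exact ⟨y, h1, h2, Or.inr h3, h4⟩

/-- Generisations in an open subset of a closed set, as a closure inside the fibre. -/
theorem setOf_genIn_inter_open {V D : Set (PrimeSpectrum (Pol A n))} (hD : IsOpen D) (τ : ℕ)
    (hc : IsConstructible (D ∩ {z | GenIn V τ z})) :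
    {Q | GenIn (V ∩ D) τ Q} =
      GrothLib.FibClos.clSet (PrimeSpectrum.comap (algebraMap A (Pol A n))) (D ∩ {z | GenIn V τ z}) := by
  ext Q
  rw [GrothLib.FibClos.mem_clSet, Set.mem_setOf_eq]
  constructor
  · rintro ⟨y, h1, h2, ⟨hyV, hyD⟩, h4⟩
    refine ((PrimeSpectrum.le_iff_specializes y Q).mp h1).mem_closed isClosed_closure (subset_closure ?_)
    exact ⟨⟨hyD, y, le_rfl, rfl, hyV, h4⟩, PrimeSpectrum.ext h2⟩
  · intro hQ
    let p := PrimeSpectrum.comap (algebraMap A (Pol A n)) Q
    let k := p.asIdeal.ResidueField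
    obtain ⟨hemb, hrange⟩ := isEmbedding_comap_fibre (n := n) p
    let j := PrimeSpectrum.comap (algebraMap (Pol A n) (Pol k n))
    obtain ⟨Q', hQ'⟩ : ∃ Q', j Q' = Q := by
      obtain ⟨Q', hQ'⟩ : ∃ Q' : PrimeSpectrum (Pol k n),
        Q'.asIdeal.comap (algebraMap (Pol A n) (Pol k n)) = Q.asIdeal := exists_point Q
      exact ⟨Q', PrimeSpectrum.ext hQ'⟩
    let E := D ∩ {z | GenIn V τ z}
    have hE : Q' ∈ closure (j ⁻¹' E) := by
      rw [hemb.isInducing.closure_eq_preimage_closure_image, Set.mem_preimage,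
        Set.image_preimage_eq_inter_range, hrange]
      show j Q' ∈ _
      rw [hQ']
      exact hQ
    obtain ⟨e, he, heQ⟩ := GrothLib.SpecSp.exists_specializes_of_mem_closure
      (GrothLib.Constr.isClosed_constructibleTopology_of_isConstructible
        (isConstructible_comap_preimage (algebraMap (Pol A n) (Pol k n)) hc)) hE
    obtain ⟨heD, y, hy1, hy2, hy3, hy4⟩ := he
    have hle : (j e).asIdeal ≤ Q.asIdeal := by
      rw [← hQ']
      exact (PrimeSpectrum.le_iff_specializes (j e) (j Q')).mpr (heQ.map hemb.continuous)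
    have hfib : (j e).asIdeal.comap (algebraMap A (Pol A n)) = Q.asIdeal.comap (algebraMap A (Pol A n)) :=
      congrArg PrimeSpectrum.asIdeal (hrange.subset ⟨e, rfl⟩ : PrimeSpectrum.comap _ (j e) = p)
    exact ⟨y, hy1.trans hle, hy2.trans hfib,
      ⟨hy3, ((PrimeSpectrum.le_iff_specializes y (j e)).mp hy1).mem_open hD heD⟩, hy4⟩

/-- Having a generisation of large dimension in a constructible set is a constructible condition. -/
theorem isConstructible_genIn' {C : Set (PrimeSpectrum (Pol A n))} (hC : IsConstructible C) (τ : ℕ) :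
    IsConstructible {Q : PrimeSpectrum (Pol A n) | GenIn C τ Q} := by
  classical
  obtain ⟨D, rfl⟩ := PrimeSpectrum.exists_constructibleSetData_iff.mpr hC
  induction D using Finset.induction_on with
  | empty =>
    convert IsConstructible.empty
    ext Q
    simp [GenIn, PrimeSpectrum.ConstructibleSetData.toSet]
  | insert d s _ ih =>
    have hu : PrimeSpectrum.ConstructibleSetData.toSet (insert d s) =
        d.toSet ∪ PrimeSpectrum.ConstructibleSetData.toSet s := by
      simp [PrimeSpectrum.ConstructibleSetData.toSet]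
    have hs : IsConstructible (PrimeSpectrum.ConstructibleSetData.toSet s) :=
      PrimeSpectrum.exists_constructibleSetData_iff.mp ⟨s, rfl⟩
    rw [show {Q : PrimeSpectrum (Pol A n) | GenIn (PrimeSpectrum.ConstructibleSetData.toSet (insert d s)) τ Q} =
      {Q | GenIn d.toSet τ Q} ∪ {Q | GenIn (PrimeSpectrum.ConstructibleSetData.toSet s) τ Q} by
        rw [hu]; exact Set.ext fun Q => genIn_union _ _ τ Q]
    refine IsConstructible.union ?_ (ih hs)
    let V : Set (PrimeSpectrum (Pol A n)) := PrimeSpectrum.zeroLocus (Set.range d.g)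
    let U : Set (PrimeSpectrum (Pol A n)) := (PrimeSpectrum.zeroLocus {d.f})ᶜ
    have hU : IsOpen U := (PrimeSpectrum.isClosed_zeroLocus _).isOpen_compl
    have hUc : IsConstructible U := by
      refine (PrimeSpectrum.isCompact_isOpen_iff.mpr ⟨{d.f}, ?_⟩).1.isConstructible hU
      simp [U]
    have hVc : IsConstructible V := by
      rw [← isConstructible_compl]
      refine (PrimeSpectrum.isCompact_isOpen_iff.mpr ⟨Finset.univ.image d.g, ?_⟩).1.isConstructible
        (PrimeSpectrum.isClosed_zeroLocus _).isOpen_compl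
      simp [V]
    have hc : IsConstructible (U ∩ {z | GenIn V τ z}) :=
      hUc.inter (isConstructible_genIn (PrimeSpectrum.isClosed_zeroLocus _) hVc τ)
    have hd : d.toSet = V ∩ U := Set.sdiff_eq_compl_inter.trans (Set.inter_comm _ _)
    rw [hd, setOf_genIn_inter_open hU τ hc]
    exact GrothLib.FibClos.isConstructible_clSet_ring hc

variable (M : Type u) [AddCommGroup M] [Module (Pol A n) M]

/-- `Q` has a generisation in its fibre lying in `N` whose fibre stalk of `M` has dimension at most `k`. -/
def SmallGen (N : Set (PrimeSpectrum (Pol A n))) (k : ℕ) (Q : PrimeSpectrum (Pol A n)) : Prop :=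
  ∃ y : PrimeSpectrum (Pol A n), y.asIdeal ≤ Q.asIdeal ∧
    y.asIdeal.comap (algebraMap A (Pol A n)) = Q.asIdeal.comap (algebraMap A (Pol A n)) ∧
      y ∈ N ∧ y ∈ Module.support (Pol A n) M ∧ fibSdim M y ≤ k

/-- The points of the support where the fibre of the support has dimension exactly `m`. -/
def dimStratum (m : ℕ) : Set (PrimeSpectrum (Pol A n)) :=
  {y | fibDimIn (PrimeSpectrum.comap (algebraMap A (Pol A n))) (Module.support (Pol A n) M) y = (m : ℕ)}

theorem setOf_smallGen [Module.Finite (Pol A n) M] (N : Set (PrimeSpectrum (Pol A n))) (k : ℕ) :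
    {Q | SmallGen M N k Q} =
      ⋃ m ∈ Set.Iic n, {Q | GenIn (N ∩ Module.support (Pol A n) M ∩ dimStratum M m) (m - k) Q} := by
  ext Q
  simp only [Set.mem_setOf_eq, Set.mem_iUnion, Set.mem_Iic, SmallGen, GenIn, exists_prop]
  constructor
  · rintro ⟨y, h1, h2, h3, h4, h5⟩
    obtain ⟨-, -, t, s, -, ht, -, -, hs, hds, -⟩ := exists_numbers y M h4
    obtain ⟨t', D, ht', hD, hDt, -⟩ := fibre_data y M
    rw [fibSdim, hs] at h5
    have hsD : s ≤ D := by
      have := Module.supportDim_le_ringKrullDim (EGA4.FibLocRing A (Pol A n) y.asIdeal)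
        (EGA4.FibLocRing A (Pol A n) y.asIdeal ⊗[Pol A n] M)
      rw [hs, hD] at this
      exact_mod_cast this
    obtain rfl : t' = t := natCast_withBot_inj (ht'.symm.trans ht)
    refine ⟨s + t', by omega, y, h1, h2, ⟨⟨h3, h4⟩, hds⟩, ?_⟩
    rw [ht]
    have : s ≤ k := by exact_mod_cast h5
    exact_mod_cast (show s + t' - k ≤ t' by omega)
  · rintro ⟨m, -, y, h1, h2, ⟨⟨h3, h4⟩, h5⟩, h6⟩
    obtain ⟨-, -, t, s, -, ht, -, -, hs, hds, -⟩ := exists_numbers y M h4
    refine ⟨y, h1, h2, h3, h4, ?_⟩
    rw [fibSdim, hs]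
    have hm : m = s + t := natCast_withBot_inj ((show _ = (m : WithBot ℕ∞) from h5).symm.trans hds)
    rw [ht] at h6
    have : m - k ≤ t := by exact_mod_cast h6
    exact_mod_cast (show s ≤ k by omega)

theorem isConstructible_dimStratum_inter_support [Module.FinitePresentation (Pol A n) M] (m : ℕ) :
    IsConstructible (Module.support (Pol A n) M ∩ dimStratum M m) := by
  cases m with
  | zero =>
    refine (congrArg IsConstructible ?_).mpr ((isConstructible_support M).inter (isConstructible_fibDimIn_le M 0))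
    ext y
    refine ⟨fun h => ⟨h.1, le_of_eq h.2⟩, fun h => ⟨h.1, ?_⟩⟩
    obtain ⟨-, -, t, s, -, -, -, -, -, hds, -⟩ := exists_numbers y M h.1
    have h2 := h.2
    rw [Set.mem_setOf_eq, hds] at h2
    show _ = ((0 : ℕ) : WithBot ℕ∞)
    rw [hds]
    have : s + t ≤ 0 := by exact_mod_cast h2
    exact_mod_cast (show s + t = 0 by omega)
  | succ m =>
    refine (congrArg IsConstructible ?_).mpr ((isConstructible_support M).inter
      ((isConstructible_fibDimIn_le M (m + 1)).sdiff (isConstructible_fibDimIn_le M m)))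
    ext y
    refine and_congr_right fun h => ?_
    obtain ⟨-, -, t, s, -, -, -, -, -, hds, -⟩ := exists_numbers y M h
    simp only [dimStratum, Set.mem_setOf_eq, Set.mem_sdiff, hds]
    constructor
    · intro h1
      have : s + t = m + 1 := natCast_withBot_inj h1
      rw [this]
      exact ⟨le_rfl, fun h2 => by have : m + 1 ≤ m := by exact_mod_cast h2
                                  omega⟩
    · rintro ⟨h1, h2⟩
      have h1' : s + t ≤ m + 1 := by exact_mod_cast h1
      have h2' : ¬ s + t ≤ m := fun h3 => h2 (by exact_mod_cast h3)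
      rw [show s + t = m + 1 by omega]

theorem isConstructible_smallGen [Module.FinitePresentation (Pol A n) M] {N : Set (PrimeSpectrum (Pol A n))}
    (hN : IsConstructible N) (k : ℕ) : IsConstructible {Q | SmallGen M N k Q} := by
  rw [setOf_smallGen]
  refine IsConstructible.biUnion (Set.finite_Iic n) fun m _ => isConstructible_genIn' ?_ _
  rw [Set.inter_assoc]
  exact hN.inter (isConstructible_dimStratum_inter_support M m)

end GrothLib.FibPd
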