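import Groth.Agent.Lib.FibPd.SkLocus
import Groth.Agent.Lib.FibPd.GenConstr
import Groth.Agent.Lib.FlatOff.FibRing
import Mathlib.AlgebraicGeometry.Pullbacks

/-!
# Serre's condition `(S_k)` and extensions of the base field
-/

set_option autoImplicit false
set_option linter.style.haveILetI false
universe u

open TensorProduct Function IsLocalRing MvPolynomial Topology TopologicalSpace

namespace GrothLib.FibPd

attribute [local instance] MvPolynomial.algebraMvPolynomial

theorem skGood_baseChange {A : Type u} [CommRing A] {n : ℕ} (M : Type u) [AddCommGroup M] [Module (Pol A n) M]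
    [Module.FinitePresentation (Pol A n) M] {A' : Type u} [CommRing A'] [Algebra A A'] (k : ℕ)
    (Q' : PrimeSpectrum (Pol A' n)) :
    SkGood (Pol A' n ⊗[Pol A n] M) k Q' ↔
      SkGood M k (PrimeSpectrum.comap (algebraMap (Pol A n) (Pol A' n)) Q') := by
  have h1 := Set.ext_iff.mp (setOf_skGood (M := Pol A' n ⊗[Pol A n] M) k) Q'
  have h2 := Set.ext_iff.mp (setOf_skGood (M := M) k) (PrimeSpectrum.comap (algebraMap (Pol A n) (Pol A' n)) Q')
  simp only [Set.mem_setOf_eq, Set.mem_iInter] at h1 h2
  rw [h1, h2]
  refine forall₂_congr fun e _ => not_congr ?_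
  rw [← zSet_baseChange M A' e]
  exact genIn_baseChange (fibClosed_zSet e) _ Q'

/-- Over a field, `(S_m)` at a prime is the condition on the generisations in affine space. -/
theorem hasSk_localization_iff {k : Type u} [Field k] {n : ℕ} {B : Type u} [CommRing B] [Algebra (Pol k n) B]
    [Algebra k B] [IsScalarTower k (Pol k n) B] (hπ : Surjective (algebraMap (Pol k n) B))
    (q : Ideal B) [q.IsPrime] (T : Type u) [CommRing T] [Algebra B T] [IsLocalization.AtPrime T q] (m : ℕ) :
    LocCoh.HasSk m T T ↔
      SkGood B m ⟨q.comap (algebraMap (Pol k n) B), inferInstance⟩ := by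
  haveI : Module.Finite (Pol k n) B := Module.Finite.of_surjective (Algebra.linearMap _ B) hπ
  haveI : IsNoetherianRing B := isNoetherianRing_of_surjective _ _ _ hπ
  haveI : IsLocalRing T := IsLocalization.AtPrime.isLocalRing T q
  haveI : IsNoetherianRing T := IsLocalization.isNoetherianRing q.primeCompl T inferInstance
  refine hasSk_iff hπ q (fun u hu => IsLocalization.map_units T (⟨u, hu⟩ : q.primeCompl)) (fun t => ?_) (fun b => ?_)
    B T (Algebra.linearMap B T) (IsBaseChange.linearMap B T) m
  · obtain ⟨⟨b, u⟩, h⟩ := IsLocalization.surj q.primeCompl t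
    exact ⟨b, u, u.2, h⟩
  · have hbot : (q.comap (algebraMap k B)).map (algebraMap k B) = ⊥ := by
      rw [(q.comap (algebraMap k B)).eq_bot_of_prime, Ideal.map_bot]
    rw [hbot, IsLocalization.map_eq_zero_iff q.primeCompl]
    exact ⟨fun ⟨c, hc⟩ => ⟨c, c.2, hc⟩, fun ⟨u, hu, hc⟩ => ⟨⟨u, hu⟩, hc⟩⟩

attribute [local instance] Algebra.TensorProduct.rightAlgebra

/-- `(S_m)` at a prime of the base change to a larger field. -/
theorem hasSk_baseChange_field {k K : Type u} [Field k] [Field K] [Algebra k K] {n : ℕ} {B : Type u} [CommRing B]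
    [Algebra (Pol k n) B] [Algebra k B] [IsScalarTower k (Pol k n) B] (hπ : Surjective (algebraMap (Pol k n) B))
    (q' : Ideal (Pol K n ⊗[Pol k n] B)) [q'.IsPrime] (T : Type u) [CommRing T] [Algebra B T]
    [IsLocalization.AtPrime T (q'.comap (algebraMap B (Pol K n ⊗[Pol k n] B)))]
    (T' : Type u) [CommRing T'] [Algebra (Pol K n ⊗[Pol k n] B) T'] [IsLocalization.AtPrime T' q'] (m : ℕ) :
    LocCoh.HasSk m T T → LocCoh.HasSk m T' T' := by
  haveI : Module.Finite (Pol k n) B := Module.Finite.of_surjective (Algebra.linearMap _ B) hπ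
  haveI : Module.FinitePresentation (Pol k n) B := Module.finitePresentation_of_finite _ _
  have hπ' : Surjective (algebraMap (Pol K n) (Pol K n ⊗[Pol k n] B)) := fun z => by
    induction z using TensorProduct.induction_on with
    | zero => exact ⟨0, map_zero _⟩
    | tmul p b =>
      obtain ⟨r, rfl⟩ := hπ b
      exact ⟨p * algebraMap _ _ r, by
        rw [Algebra.TensorProduct.algebraMap_apply, Algebra.algebraMap_self, RingHom.id_apply,
          mul_comm, ← Algebra.smul_def, TensorProduct.smul_tmul, Algebra.smul_def, mul_one]⟩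
    | add x y hx hy =>
      obtain ⟨a, ha⟩ := hx
      obtain ⟨b, hb⟩ := hy
      exact ⟨a + b, by rw [map_add, ha, hb]⟩
  intro h
  rw [hasSk_localization_iff hπ' q' T' m]
  rw [hasSk_localization_iff hπ (q'.comap (algebraMap B (Pol K n ⊗[Pol k n] B))) T m] at h
  refine (skGood_baseChange B m _).2 ?_
  convert h using 1
  refine PrimeSpectrum.ext ?_
  simp only [PrimeSpectrum.comap_asIdeal, Ideal.comap_comap]
  congr 1
  rw [← IsScalarTower.algebraMap_eq, ← IsScalarTower.algebraMap_eq]

end GrothLib.FibPd

namespace GrothLib.FibPd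

open CategoryTheory Limits AlgebraicGeometry

attribute [local instance] MvPolynomial.algebraMvPolynomial Algebra.TensorProduct.rightAlgebra

open TensorProduct in
/-- A presentation of the base change of a finitely generated algebra, with the ascent of `(S_m)`. -/
theorem exists_pushout_hasSk (k K : Type u) [Field k] [Field K] [Algebra k K] (A : Type u) [CommRing A] [Algebra k A]
    [Algebra.FiniteType k A] (m : ℕ) :
    ∃ (A' : Type u) (_ : CommRing A') (_ : Algebra A A') (_ : Algebra K A') (_ : Algebra k A')
      (_ : IsScalarTower k A A') (_ : IsScalarTower k K A'),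
      Algebra.IsPushout k A K A' ∧
      ∀ (q' : Ideal A') [q'.IsPrime] (T : Type u) [CommRing T] [Algebra A T]
        [IsLocalization.AtPrime T (q'.comap (algebraMap A A'))] (T' : Type u) [CommRing T'] [Algebra A' T']
        [IsLocalization.AtPrime T' q'], LocCoh.HasSk m T T → LocCoh.HasSk m T' T' := by
  obtain ⟨n, π, hπ⟩ := Algebra.FiniteType.iff_quotient_mvPolynomial''.mp ‹Algebra.FiniteType k A›
  letI : Algebra (Pol k n) A := π.toRingHom.toAlgebra
  haveI : IsScalarTower k (Pol k n) A := IsScalarTower.of_algebraMap_eq' π.comp_algebraMap.symm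
  haveI hkK : IsScalarTower k K (Pol K n ⊗[Pol k n] A) := inferInstance
  haveI hkA : IsScalarTower k A (Pol K n ⊗[Pol k n] A) := IsScalarTower.of_algebraMap_eq fun c => by
    rw [IsScalarTower.algebraMap_apply k (Pol k n) A, ← IsScalarTower.algebraMap_apply (Pol k n) A,
      IsScalarTower.algebraMap_apply (Pol k n) (Pol K n) (Pol K n ⊗[Pol k n] A),
      ← IsScalarTower.algebraMap_apply k (Pol k n) (Pol K n),
      ← IsScalarTower.algebraMap_apply k (Pol K n)]
  haveI : Algebra.IsPushout k (Pol k n) K (Pol K n) :=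
    (inferInstance : Algebra.IsPushout k K (Pol k n) (Pol K n)).symm
  haveI : Algebra.IsPushout (Pol k n) A (Pol K n) (Pol K n ⊗[Pol k n] A) :=
    (inferInstance : Algebra.IsPushout (Pol k n) (Pol K n) A (Pol K n ⊗[Pol k n] A)).symm
  have hpush : Algebra.IsPushout k A K (Pol K n ⊗[Pol k n] A) :=
    (Algebra.IsPushout.comp_iff (R := k) (S := Pol k n) (R' := K) (S' := Pol K n) (T := A)
      (T' := Pol K n ⊗[Pol k n] A)).mpr inferInstance
  refine ⟨Pol K n ⊗[Pol k n] A, inferInstance, inferInstance, inferInstance, inferInstance, hkA, hkK, hpush, ?_⟩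
  intro q' _ T _ _ _ T' _ _ _ h
  exact hasSk_baseChange_field hπ q' T T' m h

set_option backward.isDefEq.respectTransparency false in
/-- `(S_m)` passes to the base change to a larger field. -/
theorem hasSk_stalk_bc {k : Type u} [Field k] {W : Scheme.{u}} (q : W ⟶ Spec (CommRingCat.of k))
    [LocallyOfFiniteType q] (K : Type u) [Field K] [Algebra k K] (m : ℕ)
    (x' : ↥(pullback q (Spec.map (CommRingCat.ofHom (algebraMap k K)))))
    (h : LocCoh.HasSk m (W.presheaf.stalk (pullback.fst q (Spec.map (CommRingCat.ofHom (algebraMap k K))) x'))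
      (W.presheaf.stalk (pullback.fst q (Spec.map (CommRingCat.ofHom (algebraMap k K))) x'))) :
    LocCoh.HasSk m ((pullback q (Spec.map (CommRingCat.ofHom (algebraMap k K)))).presheaf.stalk x')
      ((pullback q (Spec.map (CommRingCat.ofHom (algebraMap k K)))).presheaf.stalk x') := by
  let g := Spec.map (CommRingCat.ofHom (algebraMap k K))
  obtain ⟨A, j, hj, p, hp⟩ : ∃ (A : CommRingCat.{u}) (j : Spec A ⟶ W) (_ : IsOpenImmersion j) (p : Spec A),
      j p = pullback.fst q g x' := by
    obtain ⟨i, p, hp⟩ := W.affineOpenCover.openCover.exists_eq (pullback.fst q g x')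
    exact ⟨_, W.affineOpenCover.f i, inferInstance, p, hp⟩
  let φ := Spec.preimage (j ≫ q)
  letI : Algebra k A := φ.hom.toAlgebra
  have hjq : j ≫ q = Spec.map (CommRingCat.ofHom (algebraMap k A)) := (Spec.map_preimage _).symm
  haveI : Algebra.FiniteType k A := by
    haveI : LocallyOfFiniteType (Spec.map (CommRingCat.ofHom (algebraMap k A))) := by rw [← hjq]; infer_instance
    exact RingHom.finiteType_algebraMap.mp
      ((HasRingHomProperty.Spec_iff (P := @LocallyOfFiniteType)).mp inferInstance)
  obtain ⟨A', _, _, _, _, _, _, hpush, hasc⟩ := exists_pushout_hasSk k K A m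
  let R' := CommRingCat.of A'
  have sq : IsPullback (Spec.map (CommRingCat.ofHom (algebraMap A A')))
      (Spec.map (CommRingCat.ofHom (algebraMap K A'))) (Spec.map (CommRingCat.ofHom (algebraMap k A))) g :=
    isPullback_SpecMap_of_isPushout _ _ _ _ (CommRingCat.isPushout_iff_isPushout.mpr hpush)
  let ι := Spec.map (CommRingCat.ofHom (algebraMap A A'))
  let mm : Spec R' ⟶ pullback q g := pullback.lift (ι ≫ j) (Spec.map (CommRingCat.ofHom (algebraMap K A'))) (by
    rw [Category.assoc, hjq]; exact sq.w)
  have hmm : IsPullback ι mm j (pullback.fst q g) :=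
    IsPullback.of_bot (by rw [pullback.lift_snd, hjq]; exact sq) (pullback.lift_fst _ _ _).symm
      (IsPullback.of_hasPullback q g)
  haveI : IsOpenImmersion mm := MorphismProperty.of_isPullback hmm inferInstance
  obtain ⟨w, hw1, hw2⟩ := Scheme.exists_preimage_of_isPullback hmm p x' hp
  let Q : PrimeSpectrum A' := w
  have hQp : Q.asIdeal.comap (algebraMap A A') = PrimeSpectrum.asIdeal p := congrArg PrimeSpectrum.asIdeal hw1
  let e₀ : W.presheaf.stalk (pullback.fst q g x') ≃+* (Spec A).presheaf.stalk p :=
    ((W.presheaf.stalkCongr (.of_eq hp)).symm ≪≫ asIso (j.stalkMap p)).commRingCatIsoToRingEquiv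
  letI : Algebra A ((Spec A).presheaf.stalk p) := StructureSheaf.stalkAlgebra (R := A) p
  haveI hloc : IsLocalization (PrimeSpectrum.asIdeal p).primeCompl ((Spec A).presheaf.stalk p) :=
    StructureSheaf.IsLocalization.to_stalk (R := A) p
  haveI : IsLocalization.AtPrime ((Spec A).presheaf.stalk p) (Q.asIdeal.comap (algebraMap A A')) := by
    convert hloc using 2
  let e₁ : (pullback q g).presheaf.stalk x' ≃+* (Spec R').presheaf.stalk w :=
    (((pullback q g).presheaf.stalkCongr (.of_eq hw2)).symm ≪≫ asIso (mm.stalkMap w)).commRingCatIsoToRingEquiv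
  letI : Algebra A' ((Spec R').presheaf.stalk w) := StructureSheaf.stalkAlgebra (R := A') w
  haveI : IsLocalization.AtPrime ((Spec R').presheaf.stalk w) Q.asIdeal :=
    StructureSheaf.IsLocalization.to_stalk (R := A') w
  haveI : IsLocallyNoetherian W := LocallyOfFiniteType.isLocallyNoetherian q
  haveI : LocallyOfFiniteType (pullback.snd q g) := MorphismProperty.pullback_snd q g inferInstance
  haveI : IsLocallyNoetherian (pullback q g) := LocallyOfFiniteType.isLocallyNoetherian (pullback.snd q g)
  haveI : IsNoetherianRing ((Spec A).presheaf.stalk p) := isNoetherianRing_of_ringEquiv _ e₀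
  haveI : IsNoetherianRing ((Spec R').presheaf.stalk w) := isNoetherianRing_of_ringEquiv _ e₁
  exact GrothLib.SnFibres.hasSk_congr e₁.symm (hasc Q.asIdeal ((Spec A).presheaf.stalk p)
    ((Spec R').presheaf.stalk w) (GrothLib.SnFibres.hasSk_congr e₀ h))

end GrothLib.FibPd
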