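import Groth.Agent.Lib.FibPd.ChartData

/-!
# Openness of fibre depth conditions for flat finitely presented modules
-/

set_option autoImplicit false
set_option linter.style.haveILetI false
universe u

open TensorProduct Function IsLocalRing CategoryTheory AlgebraicGeometry Topology TopologicalSpace

namespace GrothLib.FibPd

variable {X Y : Scheme.{u}} (f : X ⟶ Y)

theorem isQuasicoherent_of_isFP {F : X.Modules} (hF : CohB1.IsFP F) : F.IsQuasicoherent := by
  haveI := hF
  infer_instance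

/-- A condition on points of fibres, read on the source. -/
theorem asFiber_iff (P : ∀ y, ↥(f.fiber y) → Prop) (y : Y) (z : ↥(f.fiber y)) :
    P (f (f.fiberι y z)) (f.asFiber (f.fiberι y z)) ↔ P y z := by
  obtain ⟨x, hx⟩ : ∃ x, f.fiberι y z = x := ⟨_, rfl⟩
  rw [hx]
  obtain rfl : f x = y := by rw [← hx]; exact GrothLib.FibreFlat.fiberι_comp_apply f y z
  obtain rfl : z = f.asFiber x := (f.fiberι (f x)).isEmbedding.injective (hx.trans (f.fiberι_asFiber x).symm)
  exact Iff.rfl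

/-- The points of the base over which a condition with open locus holds everywhere form an open set
for a proper morphism. -/
theorem isOpen_forall_fiber [IsProper f] (P : ∀ y, ↥(f.fiber y) → Prop)
    (hP : IsOpen {x : X | P (f.base x) (f.asFiber x)}) : IsOpen {y : Y | ∀ z : ↥(f.fiber y), P y z} := by
  have h : {y : Y | ∀ z : ↥(f.fiber y), P y z} = (f '' {x : X | P (f.base x) (f.asFiber x)}ᶜ)ᶜ := by
    ext y
    constructor
    · rintro hy ⟨x, hx, rfl⟩
      exact hx (hy _)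
    · intro hy z
      by_contra hz
      exact hy ⟨f.fiberι y z, fun h => hz ((asFiber_iff f P y z).1 h), GrothLib.FibreFlat.fiberι_comp_apply f y z⟩
  rw [h]
  exact (f.isClosedMap _ hP.isClosed_compl).isOpen_compl

theorem chartPt_asFiber {V : Y.Opens} {W : X.Opens} (hW : IsAffineOpen W) {n : ℕ}
    (π : Pol Γ(Y, V) n →+* Γ(X, W)) (x : W) (hz : f.fiberι (f x.1) (f.asFiber x.1) ∈ W) :
    chartPt hW π ⟨_, hz⟩ = chartPt hW π x :=
  congrArg (chartPt hW π) (Subtype.ext (f.fiberι_asFiber x.1))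

variable [LocallyOfFinitePresentation f] (F : X.Modules)

theorem isOpen_le_rectifiedDepth_scheme (hF : CohB1.IsFP F) (hflat : FlatMod.IsFlatOver f F) (m : ℕ) :
    IsOpen {x : X | (m : WithBot ℕ∞) ≤
      ((LocCoh.depth ((f.fiber (f.base x)).presheaf.stalk (f.asFiber x)) (((Scheme.Modules.pullback (f.fiberι (f.base x))).obj F).presheaf.stalk (f.asFiber x)) : ℕ∞) : WithBot ℕ∞) +
        topologicalKrullDim ↥(closure ({f.asFiber x} : Set ↥(f.fiber (f.base x))))} := by
  haveI := isQuasicoherent_of_isFP hF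
  refine isOpen_iff_forall_mem_open.mpr fun x₀ hx₀ => ?_
  obtain ⟨V, W, hV, hW, e, hxW⟩ := exists_chart f x₀
  obtain ⟨n, π, hπ, hπfg, hπA⟩ := exists_presentation f hV hW e
  letI : Algebra (Pol Γ(Y, V) n) Γ(X, W) := π.toAlgebra
  letI := polModule π Γ(F, W)
  haveI : IsScalarTower (Pol Γ(Y, V) n) Γ(X, W) Γ(F, W) := IsScalarTower.of_algebraMap_smul fun _ _ => rfl
  haveI : Module.FinitePresentation (Pol Γ(Y, V) n) Γ(X, W) :=
    Module.finitePresentation_of_surjective (Algebra.linearMap (Pol Γ(Y, V) n) Γ(X, W)) hπ hπfg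
  haveI := GrothLib.FlatFP.finitePresentation_sections F hF hW
  haveI : Module.FinitePresentation (Pol Γ(Y, V) n) Γ(F, W) :=
    Module.FinitePresentation.trans (Pol Γ(Y, V) n) Γ(F, W) Γ(X, W)
  letI : Module Γ(Y, V) Γ(F, W) := Module.compHom _ (f.appLE V W e).hom
  haveI : IsScalarTower Γ(Y, V) (Pol Γ(Y, V) n) Γ(F, W) := IsScalarTower.of_algebraMap_smul fun a m => by
    show π (algebraMap Γ(Y, V) (Pol Γ(Y, V) n) a) • m = (f.appLE V W e).hom a • m
    rw [MvPolynomial.algebraMap_eq, ← hπA]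
    rfl
  haveI : Module.Flat Γ(Y, V) Γ(F, W) := GrothLib.BCCoh.flat_sections f F hflat hW hV e
  refine ⟨_ ∩ (W : Set X), Set.inter_subset_left,
    isOpen_inter_chart hW π (isOpen_le_rectifiedDepth Γ(F, W) m) fun x => ?_, hx₀, hxW⟩
  have hz : f.fiberι (f x.1) (f.asFiber x.1) ∈ W := by rw [f.fiberι_asFiber]; exact x.2
  obtain ⟨h1, -, -⟩ := fibre_stalk_data f hV hW e π hπ hπA F hF _ _ hz
  have h2 := dim_closure_eq_ptDimFib f hV hW e π hπ hπA _ _ hz
  rw [chartPt_asFiber f hW π x hz] at h1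
  rw [show PrimeSpectrum.comap π (hW.primeIdealOf ⟨_, hz⟩) = chartPt hW π x from chartPt_asFiber f hW π x hz] at h2
  rw [Set.mem_setOf_eq, h1, h2]
  rfl

theorem isOpen_codepth_le_scheme (hF : CohB1.IsFP F) (hflat : FlatMod.IsFlatOver f F) (k : ℕ) :
    IsOpen {x : X | Module.supportDim ((f.fiber (f.base x)).presheaf.stalk (f.asFiber x)) (((Scheme.Modules.pullback (f.fiberι (f.base x))).obj F).presheaf.stalk (f.asFiber x)) ≤
      ((LocCoh.depth ((f.fiber (f.base x)).presheaf.stalk (f.asFiber x)) (((Scheme.Modules.pullback (f.fiberι (f.base x))).obj F).presheaf.stalk (f.asFiber x)) : ℕ∞) : WithBot ℕ∞) + k} := by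
  haveI := isQuasicoherent_of_isFP hF
  refine isOpen_iff_forall_mem_open.mpr fun x₀ hx₀ => ?_
  obtain ⟨V, W, hV, hW, e, hxW⟩ := exists_chart f x₀
  obtain ⟨n, π, hπ, hπfg, hπA⟩ := exists_presentation f hV hW e
  letI : Algebra (Pol Γ(Y, V) n) Γ(X, W) := π.toAlgebra
  letI := polModule π Γ(F, W)
  haveI : IsScalarTower (Pol Γ(Y, V) n) Γ(X, W) Γ(F, W) := IsScalarTower.of_algebraMap_smul fun _ _ => rfl
  haveI : Module.FinitePresentation (Pol Γ(Y, V) n) Γ(X, W) :=
    Module.finitePresentation_of_surjective (Algebra.linearMap (Pol Γ(Y, V) n) Γ(X, W)) hπ hπfg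
  haveI := GrothLib.FlatFP.finitePresentation_sections F hF hW
  haveI : Module.FinitePresentation (Pol Γ(Y, V) n) Γ(F, W) :=
    Module.FinitePresentation.trans (Pol Γ(Y, V) n) Γ(F, W) Γ(X, W)
  letI : Module Γ(Y, V) Γ(F, W) := Module.compHom _ (f.appLE V W e).hom
  haveI : IsScalarTower Γ(Y, V) (Pol Γ(Y, V) n) Γ(F, W) := IsScalarTower.of_algebraMap_smul fun a m => by
    show π (algebraMap Γ(Y, V) (Pol Γ(Y, V) n) a) • m = (f.appLE V W e).hom a • m
    rw [MvPolynomial.algebraMap_eq, ← hπA]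
    rfl
  haveI : Module.Flat Γ(Y, V) Γ(F, W) := GrothLib.BCCoh.flat_sections f F hflat hW hV e
  refine ⟨_ ∩ (W : Set X), Set.inter_subset_left,
    isOpen_inter_chart hW π (isOpen_codepth_le Γ(F, W) k) fun x => ?_, hx₀, hxW⟩
  have hz : f.fiberι (f x.1) (f.asFiber x.1) ∈ W := by rw [f.fiberι_asFiber]; exact x.2
  obtain ⟨h1, h1', -⟩ := fibre_stalk_data f hV hW e π hπ hπA F hF _ _ hz
  rw [chartPt_asFiber f hW π x hz] at h1 h1'
  rw [Set.mem_setOf_eq, h1, h1']
  rfl

/-- A fibre stalk is zero or Cohen–Macaulay exactly when its codepth vanishes. -/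
theorem isCM_iff_codepth_le (hF : CohB1.IsFP F) (y : Y) (z : ↥(f.fiber y)) :
    (Subsingleton (((Scheme.Modules.pullback (f.fiberι y)).obj F).presheaf.stalk z) ∨
      LocCoh.IsCohenMacaulayModule ((f.fiber y).presheaf.stalk z)
        (((Scheme.Modules.pullback (f.fiberι y)).obj F).presheaf.stalk z)) ↔
    Module.supportDim ((f.fiber y).presheaf.stalk z) (((Scheme.Modules.pullback (f.fiberι y)).obj F).presheaf.stalk z) ≤
      ((LocCoh.depth ((f.fiber y).presheaf.stalk z) (((Scheme.Modules.pullback (f.fiberι y)).obj F).presheaf.stalk z) : ℕ∞) : WithBot ℕ∞) + (0 : ℕ) := by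
  haveI := isQuasicoherent_of_isFP hF
  obtain ⟨V, W, hV, hW, e, hxW⟩ := exists_chart f (f.fiberι y z)
  obtain ⟨n, π, hπ, hπfg, hπA⟩ := exists_presentation f hV hW e
  letI : Algebra (Pol Γ(Y, V) n) Γ(X, W) := π.toAlgebra
  letI := polModule π Γ(F, W)
  haveI : IsScalarTower (Pol Γ(Y, V) n) Γ(X, W) Γ(F, W) := IsScalarTower.of_algebraMap_smul fun _ _ => rfl
  haveI := GrothLib.FlatFP.finitePresentation_sections F hF hW
  haveI : Module.Finite (Pol Γ(Y, V) n) Γ(X, W) :=
    Module.Finite.of_surjective (Algebra.linearMap (Pol Γ(Y, V) n) Γ(X, W)) hπ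
  haveI : Module.Finite (Pol Γ(Y, V) n) Γ(F, W) := Module.Finite.trans Γ(X, W) _
  obtain ⟨h1, h1', h3⟩ := fibre_stalk_data f hV hW e π hπ hπA F hF y z hxW
  rw [LocCoh.IsCohenMacaulayModule, h1, h1', h3, Nat.cast_zero, add_zero]
  constructor
  · rintro (h | h)
    · rw [Module.supportDim_eq_bot_of_subsingleton]
      exact bot_le
    · exact h.le
  · intro h
    rcases subsingleton_or_nontrivial
      (EGA4.FibLocRing Γ(Y, V) (Pol Γ(Y, V) n) (chartPt hW π ⟨_, hxW⟩).asIdeal ⊗[Pol Γ(Y, V) n] Γ(F, W)) with h0 | h0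
    · exact Or.inl h0
    · exact Or.inr (le_antisymm h (GrothLib.Depth.depth_le_supportDim _ _))

end GrothLib.FibPd
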