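import Groth.Agent.Lib.FibPd.Constructible
import Mathlib.RingTheory.Flat.Basic

/-!
# The support of a flat module maps openly
-/

set_option autoImplicit false
set_option linter.style.haveILetI false
universe u

open TensorProduct Topology

namespace GrothLib.FibPd

variable {A B M : Type u} [CommRing A] [CommRing B] [Algebra A B] [AddCommGroup M] [Module A M] [Module B M]
  [IsScalarTower A B M] [Module.Finite B M]

theorem mem_smul_top_of_smul_mem [Module.Flat A M] (p : Ideal A) [p.IsPrime] {a : A} (ha : a ∉ p) {n : M}
    (h : a • n ∈ p • (⊤ : Submodule A M)) : n ∈ p • (⊤ : Submodule A M) := by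
  have hinj : Function.Injective (LinearMap.lsmul A (A ⧸ p) a) := by
    intro x y hxy
    have ha' : Ideal.Quotient.mk p a ≠ 0 := fun h => ha (Ideal.Quotient.eq_zero_iff_mem.1 h)
    simp only [LinearMap.lsmul_apply, Algebra.smul_def, Ideal.Quotient.algebraMap_eq] at hxy
    exact mul_left_cancel₀ ha' hxy
  have hinj' := Module.Flat.rTensor_preserves_injective_linearMap (M := M) _ hinj
  have hsm : ∀ t : (A ⧸ p) ⊗[A] M, (LinearMap.lsmul A (A ⧸ p) a).rTensor M t = a • t := fun t => by
    induction t using TensorProduct.induction_on with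
    | zero => simp
    | tmul x y => simp [TensorProduct.smul_tmul']
    | add x y hx hy => rw [map_add, hx, hy, smul_add]
  let e := TensorProduct.quotTensorEquivQuotSMul M p
  rw [← Submodule.Quotient.mk_eq_zero] at h ⊢
  rw [← e.apply_symm_apply (Submodule.Quotient.mk n), ← map_zero e]
  refine congrArg e (hinj' ?_)
  rw [map_zero, hsm, ← map_smul, ← Submodule.Quotient.mk_smul, h, map_zero]

/-- Generisations lift to the support of a flat module. -/
theorem exists_support_le [Module.Flat A M] (q : PrimeSpectrum B) (hq : q ∈ Module.support B M)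
    (p' : Ideal A) [p'.IsPrime] (hp' : p' ≤ q.asIdeal.comap (algebraMap A B)) :
    ∃ q' : PrimeSpectrum B, q'.asIdeal ≤ q.asIdeal ∧ q' ∈ Module.support B M ∧
      q'.asIdeal.comap (algebraMap A B) = p' := by
  let I := p'.map (algebraMap A B)
  have hann : Module.annihilator B M ≤ q.asIdeal := by
    rw [Module.support_eq_zeroLocus] at hq
    exact hq
  obtain ⟨q', hq', hle⟩ := Ideal.exists_minimalPrimes_le
    (sup_le (Ideal.map_le_iff_le_comap.2 hp') hann : I ⊔ Module.annihilator B M ≤ q.asIdeal)
  haveI := hq'.1.1
  have hq'supp : (⟨q', inferInstance⟩ : PrimeSpectrum B) ∈ Module.support B M := by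
    rw [Module.support_eq_zeroLocus]
    exact le_sup_right.trans hq'.1.2
  refine ⟨⟨q', inferInstance⟩, hle, hq'supp, le_antisymm (fun a ha => ?_)
    (Ideal.map_le_iff_le_comap.1 (le_sup_left.trans hq'.1.2))⟩
  by_contra hap
  -- `a` acts nilpotently on the localisation of `M ⧸ IM` at `q'`
  haveI hloc : IsLocalization.AtPrime (Localization.AtPrime q') q' := inferInstance
  obtain ⟨m, s, hs, hsm⟩ : ∃ (m : ℕ) (s : B), s ∉ q' ∧ s * algebraMap A B a ^ m ∈ I ⊔ Module.annihilator B M := by
    have hrad : IsLocalRing.maximalIdeal (Localization.AtPrime q') ≤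
        ((I ⊔ Module.annihilator B M).map (algebraMap B (Localization.AtPrime q'))).radical := by
      rw [Ideal.radical_eq_sInf]
      refine le_sInf fun P ⟨hP, hPp⟩ => ?_
      haveI := hPp
      have h1 : P.comap (algebraMap B (Localization.AtPrime q')) = q' := by
        refine le_antisymm ?_ (hq'.2 ⟨inferInstance, Ideal.map_le_iff_le_comap.1 hP⟩ ?_) <;>
          exact (Ideal.comap_mono (IsLocalRing.le_maximalIdeal hPp.ne_top)).trans
            (IsLocalization.AtPrime.under_maximalIdeal (Localization.AtPrime q') q').le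
      rw [← IsLocalization.map_under q'.primeCompl (Localization.AtPrime q') P, Ideal.under_def, h1,
        Localization.AtPrime.map_eq_maximalIdeal]
    have hmem : algebraMap B (Localization.AtPrime q') (algebraMap A B a) ∈
        ((I ⊔ Module.annihilator B M).map (algebraMap B (Localization.AtPrime q'))).radical := by
      refine hrad ?_
      rw [← Localization.AtPrime.map_eq_maximalIdeal]
      exact Ideal.mem_map_of_mem _ ha
    obtain ⟨m, hm⟩ := hmem
    rw [← map_pow, IsLocalization.algebraMap_mem_map_algebraMap_iff q'.primeCompl] at hm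
    obtain ⟨s, hs, hsm⟩ := hm
    exact ⟨m, s, hs, hsm⟩
  have heq : (I • (⊤ : Submodule B M)).restrictScalars A = p' • (⊤ : Submodule A M) := by
    rw [show I = p'.map (algebraMap A B) from rfl, Ideal.smul_restrictScalars, Submodule.restrictScalars_top]
  have hkill : ∀ n : M, s • n ∈ p' • (⊤ : Submodule A M) := by
    intro n
    refine mem_smul_top_of_smul_mem p' (a := a ^ m) (fun h => hap (Ideal.IsPrime.mem_of_pow_mem ‹_› m h)) ?_
    rw [← IsScalarTower.algebraMap_smul B (a ^ m) (s • n), map_pow, smul_smul, mul_comm]
    obtain ⟨i, hi, j, hj, hij⟩ := Submodule.mem_sup.1 hsm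
    rw [← hij, add_smul, Module.mem_annihilator.1 hj n, add_zero]
    have h' : i • n ∈ I • (⊤ : Submodule B M) :=
      Submodule.smul_mem_smul (hi : i ∈ I) (Submodule.mem_top : n ∈ (⊤ : Submodule B M))
    rw [← heq, Submodule.restrictScalars_mem]
    exact h'
  have hsq : (⟨q', inferInstance⟩ : PrimeSpectrum B) ∈ Module.support B (M ⧸ (I • (⊤ : Submodule B M))) := by
    rw [Module.support_quotient]
    exact ⟨hq'supp, le_sup_left.trans hq'.1.2⟩
  rw [Module.support_eq_zeroLocus] at hsq
  refine hs (hsq ?_)
  rw [SetLike.mem_coe, Module.mem_annihilator]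
  intro z
  obtain ⟨n, rfl⟩ := Submodule.Quotient.mk_surjective _ z
  rw [← Submodule.Quotient.mk_smul, Submodule.Quotient.mk_eq_zero]
  have h := hkill n
  rwa [← heq, Submodule.restrictScalars_mem] at h

attribute [local instance] MvPolynomial.algebraMvPolynomial

omit [Algebra A B] [Module B M] [IsScalarTower A B M] [Module.Finite B M] in
/-- The image in the base of an open piece of the support of a flat module is open. -/
theorem isOpen_image_support_inter {n : ℕ} [Module (Pol A n) M] [IsScalarTower A (Pol A n) M]
    [Module.FinitePresentation (Pol A n) M] [Module.Flat A M] (g : Pol A n) :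
    IsOpen (PrimeSpectrum.comap (algebraMap A (Pol A n)) ''
      (Module.support (Pol A n) M ∩ (PrimeSpectrum.basicOpen g : Set (PrimeSpectrum (Pol A n))))) := by
  refine PrimeSpectrum.isOpen_of_stableUnderGeneralization_of_isConstructible ?_ ?_
  · rintro _ p' hp ⟨q, ⟨hq, hg⟩, rfl⟩
    obtain ⟨q', hle, hsupp, hcomap⟩ := exists_support_le q hq p'.asIdeal
      ((PrimeSpectrum.le_iff_specializes p' _).2 hp)
    exact ⟨q', ⟨hsupp, fun h => hg (hle h)⟩, PrimeSpectrum.ext hcomap⟩
  · exact PrimeSpectrum.isConstructible_comap_image (RingHom.finitePresentation_algebraMap.mpr inferInstance)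
      ((isConstructible_support M).inter PrimeSpectrum.isConstructible_basicOpen)

end GrothLib.FibPd
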