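import Groth.Agent.Lib.FibPd.AssOpen
import Groth.Agent.Lib.FibPd.SuppImage
import Groth.Agent.Lib.FibPd.OpenScheme
import Groth.Agent.Lib.CMBasics.Basic
import Groth.Agent.Lib.QCoh.Support
import Groth.Agent.Lib.FittSheaf.PullbackFP
import Groth.Prelude.Def_FDesc

/-!
# Associated points of the fibres of a flat module on a scheme
-/

set_option autoImplicit false
set_option backward.isDefEq.respectTransparency false
set_option linter.style.haveILetI false
universe u

open TensorProduct Function IsLocalRing CategoryTheory AlgebraicGeometry Topology TopologicalSpace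

namespace GrothLib.FibPd

variable {X Y : Scheme.{u}} (f : X ⟶ Y)

section Chart

variable {V : Y.Opens} {W : X.Opens} (hV : IsAffineOpen V) (hW : IsAffineOpen W) (e : W ≤ f ⁻¹ᵁ V) {n : ℕ}
  (π : Pol Γ(Y, V) n →+* Γ(X, W))

include hV e in
theorem comap_chartPt (hπA : π.comp MvPolynomial.C = (f.appLE V W e).hom) (x : W) :
    PrimeSpectrum.comap (algebraMap Γ(Y, V) (Pol Γ(Y, V) n)) (chartPt hW π x) = hV.primeIdealOf ⟨f x.1, e x.2⟩ := by
  rw [chartPt, ← PrimeSpectrum.comap_comp_apply, MvPolynomial.algebraMap_eq, hπA]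
  exact IsAffineOpen.comap_primeIdealOf_appLE V hV W hW e x.2

theorem isClosedEmbedding_chartPt (hπ : Surjective π) : IsClosedEmbedding (chartPt hW π) :=
  (PrimeSpectrum.isClosedEmbedding_comap_of_surjective _ π hπ).comp (Scheme.homeoOfIso hW.isoSpec).isClosedEmbedding

include hV e in
/-- A point of the fibre above a point of the chart lies in the chart, below it. -/
theorem gen_mem (hπ : Surjective π) (hπA : π.comp MvPolynomial.C = (f.appLE V W e).hom) (x : W)
    (z : ↥(f.fiber (f x.1))) (hz : z ⤳ f.asFiber x.1) :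
    ∃ hzW : f.fiberι (f x.1) z ∈ W, (chartPt hW π ⟨_, hzW⟩).asIdeal ≤ (chartPt hW π x).asIdeal ∧
      (chartPt hW π ⟨_, hzW⟩).asIdeal.comap (algebraMap Γ(Y, V) (Pol Γ(Y, V) n)) =
        (chartPt hW π x).asIdeal.comap (algebraMap Γ(Y, V) (Pol Γ(Y, V) n)) := by
  have h : f.fiberι (f x.1) z ⤳ x.1 := by
    have := hz.map (f.fiberι (f x.1)).continuous
    rwa [f.fiberι_asFiber] at this
  have hzW : f.fiberι (f x.1) z ∈ W := h.mem_open W.2 x.2
  refine ⟨hzW, ?_, ?_⟩
  · refine (PrimeSpectrum.asIdeal_le_asIdeal _ _).2 ((PrimeSpectrum.le_iff_specializes _ _).2 ?_)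
    refine Specializes.map ?_ (continuous_chartPt hW π)
    rwa [← IsInducing.subtypeVal.specializes_iff]
  · refine congrArg PrimeSpectrum.asIdeal ((comap_chartPt f hV hW e π hπA ⟨_, hzW⟩).trans
      ((congrArg _ (Subtype.ext ?_)).trans (comap_chartPt f hV hW e π hπA x).symm))
    exact GrothLib.FibreFlat.fiberι_comp_apply f _ z

include hV e in
/-- Generisations in the fibre, in affine space, come from the fibre. -/
theorem gen_exists (hπ : Surjective π) (hπA : π.comp MvPolynomial.C = (f.appLE V W e).hom) (x : W)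
    (y : PrimeSpectrum (Pol Γ(Y, V) n)) (hy : y.asIdeal ≤ (chartPt hW π x).asIdeal)
    (hyp : y.asIdeal.comap (algebraMap Γ(Y, V) (Pol Γ(Y, V) n)) =
      (chartPt hW π x).asIdeal.comap (algebraMap Γ(Y, V) (Pol Γ(Y, V) n)))
    (hker : RingHom.ker π ≤ y.asIdeal) :
    ∃ (z : ↥(f.fiber (f x.1))) (hzW : f.fiberι (f x.1) z ∈ W), z ⤳ f.asFiber x.1 ∧ chartPt hW π ⟨_, hzW⟩ = y := by
  obtain ⟨q, rfl⟩ : y ∈ Set.range (PrimeSpectrum.comap π) := by
    rw [range_comap_of_surjective _ _ hπ]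
    exact hker
  let iso := Scheme.homeoOfIso hW.isoSpec
  obtain ⟨w, rfl⟩ := iso.surjective q
  have hw : w.1 ⤳ x.1 := by
    have h := (PrimeSpectrum.le_iff_specializes _ _).1 ((PrimeSpectrum.asIdeal_le_asIdeal _ _).1 hy)
    rw [show PrimeSpectrum.comap π (iso w) = chartPt hW π w from rfl,
      (isClosedEmbedding_chartPt hW π hπ).isInducing.specializes_iff] at h
    exact h.map continuous_subtype_val
  have hfw : f w.1 = f x.1 := by
    have h3 : hV.primeIdealOf ⟨f w.1, e w.2⟩ = hV.primeIdealOf ⟨f x.1, e x.2⟩ := by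
      rw [← comap_chartPt f hV hW e π hπA w, ← comap_chartPt f hV hW e π hπA x]
      exact PrimeSpectrum.ext hyp
    have h4 := congrArg hV.fromSpec h3
    rwa [IsAffineOpen.fromSpec_primeIdealOf, IsAffineOpen.fromSpec_primeIdealOf] at h4
  obtain ⟨z, hz⟩ : w.1 ∈ Set.range (f.fiberι (f x.1)) := by rw [f.range_fiberι]; exact hfw
  have hzW : f.fiberι (f x.1) z ∈ W := by rw [hz]; exact w.2
  refine ⟨z, hzW, ?_, ?_⟩
  · rw [← (f.fiberι (f x.1)).isEmbedding.isInducing.specializes_iff, f.fiberι_asFiber, hz]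
    exact hw
  · exact congrArg (chartPt hW π) (Subtype.ext hz)

theorem specializes_iff_chartPt (hπ : Surjective π) (y : Y) (z z' : ↥(f.fiber y)) (hz : f.fiberι y z ∈ W)
    (hz' : f.fiberι y z' ∈ W) :
    z' ⤳ z ↔ (chartPt hW π ⟨_, hz'⟩).asIdeal ≤ (chartPt hW π ⟨_, hz⟩).asIdeal := by
  rw [PrimeSpectrum.asIdeal_le_asIdeal, PrimeSpectrum.le_iff_specializes,
    (isClosedEmbedding_chartPt hW π hπ).isInducing.specializes_iff, ← IsInducing.subtypeVal.specializes_iff]
  exact ((f.fiberι y).isEmbedding.isInducing.specializes_iff).symm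

theorem eq_of_chartPt_eq (hπ : Surjective π) (y : Y) (z z' : ↥(f.fiber y)) (hz : f.fiberι y z ∈ W)
    (hz' : f.fiberι y z' ∈ W) (h : chartPt hW π ⟨_, hz'⟩ = chartPt hW π ⟨_, hz⟩) : z' = z :=
  (f.fiberι y).isEmbedding.injective (congrArg Subtype.val ((isClosedEmbedding_chartPt hW π hπ).injective h))

theorem ker_le_of_mem_support (M : Type u) [AddCommGroup M] [Module Γ(X, W) M]
    {y : PrimeSpectrum (Pol Γ(Y, V) n)} (hy : letI := polModule π M; y ∈ Module.support (Pol Γ(Y, V) n) M) :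
    RingHom.ker π ≤ y.asIdeal := by
  letI := polModule π M
  intro a ha
  refine Module.annihilator_le_of_mem_support hy ?_
  rw [Module.mem_annihilator]
  intro m
  show π a • m = 0
  rw [RingHom.mem_ker.1 ha, zero_smul]

variable (F : X.Modules) [LocallyOfFinitePresentation f] (hF : CohB1.IsFP F)

include hV e in
/-- The associated points of the restriction to a fibre, in the chart. -/
theorem mem_ass_iff [F.IsQuasicoherent] (hπ : Surjective π) (hπA : π.comp MvPolynomial.C = (f.appLE V W e).hom)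
    (hF : CohB1.IsFP F) (y : Y) (z : ↥(f.fiber y)) (hz : f.fiberι y z ∈ W) :
    letI := polModule π Γ(F, W)
    z ∈ AssSch.Ass ((Scheme.Modules.pullback (f.fiberι y)).obj F) ↔ fibDepth Γ(F, W) (chartPt hW π ⟨_, hz⟩) = 0 := by
  letI := polModule π Γ(F, W)
  obtain ⟨h1, -, -⟩ := fibre_stalk_data f hV hW e π hπ hπA F hF y z hz
  haveI := GrothLib.FlatFP.finitePresentation_sections F hF hW
  haveI : LocallyOfFiniteType (f.fiberToSpecResidueField y) := MorphismProperty.pullback_snd f _ inferInstance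
  haveI : IsLocallyNoetherian (f.fiber y) :=
    LocallyOfFiniteType.isLocallyNoetherian (f.fiberToSpecResidueField y)
  letI : Algebra Γ(X, W) ((f.fiber y).presheaf.stalk z) := (toFibStalk f y z hz).toAlgebra
  letI : Module Γ(X, W) (((Scheme.Modules.pullback (f.fiberι y)).obj F).presheaf.stalk z) :=
    Module.compHom _ (toFibStalk f y z hz)
  haveI : IsScalarTower Γ(X, W) ((f.fiber y).presheaf.stalk z)
      (((Scheme.Modules.pullback (f.fiberι y)).obj F).presheaf.stalk z) :=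
    IsScalarTower.of_algebraMap_smul fun _ _ => rfl
  obtain ⟨g, hg⟩ := exists_isBaseChange_fibStalk f hW F y z hz
  haveI : Module.Finite ((f.fiber y).presheaf.stalk z) (((Scheme.Modules.pullback (f.fiberι y)).obj F).presheaf.stalk z) :=
    Module.Finite.equiv hg.equiv
  unfold fibDepth
  rw [← h1, GrothLib.CMBasics.depth_eq_zero_iff]
  exact Iff.rfl

include hV e in
/-- The support of the restriction to a fibre, in the chart. -/
theorem nontrivial_fibStalk_chart [F.IsQuasicoherent] (hπ : Surjective π)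
    (hπA : π.comp MvPolynomial.C = (f.appLE V W e).hom) (hF : CohB1.IsFP F) (y : Y) (z : ↥(f.fiber y))
    (hz : f.fiberι y z ∈ W) :
    letI := polModule π Γ(F, W)
    Nontrivial (((Scheme.Modules.pullback (f.fiberι y)).obj F).presheaf.stalk z) ↔
      chartPt hW π ⟨_, hz⟩ ∈ Module.support (Pol Γ(Y, V) n) Γ(F, W) := by
  letI : Algebra (Pol Γ(Y, V) n) Γ(X, W) := π.toAlgebra
  letI := polModule π Γ(F, W)
  haveI : IsScalarTower (Pol Γ(Y, V) n) Γ(X, W) Γ(F, W) := IsScalarTower.of_algebraMap_smul fun _ _ => rfl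
  haveI : Module.Finite (Pol Γ(Y, V) n) Γ(X, W) :=
    Module.Finite.of_surjective (Algebra.linearMap (Pol Γ(Y, V) n) Γ(X, W)) hπ
  haveI := GrothLib.FlatFP.finitePresentation_sections F hF hW
  haveI : Module.Finite (Pol Γ(Y, V) n) Γ(F, W) := Module.Finite.trans Γ(X, W) _
  obtain ⟨-, -, h3⟩ := fibre_stalk_data f hV hW e π hπ hπA F hF y z hz
  rw [← not_subsingleton_iff_nontrivial, h3, not_subsingleton_iff_nontrivial]
  exact nontrivial_fibStalk_iff _ _

end Chart

variable [LocallyOfFinitePresentation f] (F : X.Modules)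

/-- Every associated point of the fibre specialising to `x` satisfies `P`. -/
def AssThrough (P : ∀ y, ↥(f.fiber y) → Prop) (x : X) : Prop :=
  ∀ z ∈ AssSch.Ass ((Scheme.Modules.pullback (f.fiberι (f.base x))).obj F), f.asFiber x ∈ closure {z} →
    P (f.base x) z

/-- The closure in the fibre has dimension in `Φ`. -/
def DimIn (Φ : Set ℕ) (y : Y) (z : ↥(f.fiber y)) : Prop :=
  ∃ n ∈ Φ, topologicalKrullDim ↥(closure ({z} : Set ↥(f.fiber y))) = (n : WithBot ℕ∞)

/-- Not a specialisation of another associated point. -/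
def NotEmbedded (y : Y) (z : ↥(f.fiber y)) : Prop :=
  ∀ z' ∈ AssSch.Ass ((Scheme.Modules.pullback (f.fiberι y)).obj F), z ∈ closure {z'} → z' = z

/-- The chart picture of the associated points of the fibres. -/
theorem exists_ass_chart (hF : CohB1.IsFP F) (hflat : FlatMod.IsFlatOver f F) (x₀ : X) :
    ∃ (V : Y.Opens) (W : X.Opens) (hV : IsAffineOpen V) (hW : IsAffineOpen W) (_ : W ≤ f ⁻¹ᵁ V) (n : ℕ)
      (π : Pol Γ(Y, V) n →+* Γ(X, W)) (M : Type u) (_ : AddCommGroup M) (_ : Module (Pol Γ(Y, V) n) M)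
      (_ : Module Γ(Y, V) M) (_ : IsScalarTower Γ(Y, V) (Pol Γ(Y, V) n) M),
      x₀ ∈ W ∧ Module.FinitePresentation (Pol Γ(Y, V) n) M ∧ Module.Flat Γ(Y, V) M ∧
      Module.support (Pol Γ(Y, V) n) M ⊆ Set.range (chartPt hW π) ∧
      (∀ x : W, PrimeSpectrum.comap (algebraMap Γ(Y, V) (Pol Γ(Y, V) n)) (chartPt hW π x) ∈
        ({hV.primeIdealOf v | v : V} : Set (PrimeSpectrum Γ(Y, V)))) ∧
      (∀ x : W, hV.fromSpec (PrimeSpectrum.comap (algebraMap Γ(Y, V) (Pol Γ(Y, V) n)) (chartPt hW π x)) = f x.1) ∧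
      (∀ x : W, Nontrivial (((Scheme.Modules.pullback (f.fiberι (f.base x.1))).obj F).presheaf.stalk (f.asFiber x.1)) ↔
        chartPt hW π x ∈ Module.support (Pol Γ(Y, V) n) M) ∧
      (∀ (x : W) (Φ : Set ℕ), AssThrough f F (DimIn f Φ) x.1 ↔ AssDimGood M Φ (chartPt hW π x)) ∧
      (∀ x : W, AssThrough f F (NotEmbedded f F) x.1 ↔ NoEmbGood M (chartPt hW π x)) := by
  haveI := isQuasicoherent_of_isFP hF
  obtain ⟨V, W, hV, hW, e, hxW⟩ := exists_chart f x₀
  obtain ⟨n, π, hπ, hπfg, hπA⟩ := exists_presentation f hV hW e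
  letI : Algebra (Pol Γ(Y, V) n) Γ(X, W) := π.toAlgebra
  letI := polModule π Γ(F, W)
  haveI : IsScalarTower (Pol Γ(Y, V) n) Γ(X, W) Γ(F, W) := IsScalarTower.of_algebraMap_smul fun _ _ => rfl
  haveI : Module.FinitePresentation (Pol Γ(Y, V) n) Γ(X, W) :=
    Module.finitePresentation_of_surjective (Algebra.linearMap (Pol Γ(Y, V) n) Γ(X, W)) hπ hπfg
  haveI := GrothLib.FlatFP.finitePresentation_sections F hF hW
  haveI : Module.FinitePresentation (Pol Γ(Y, V) n) Γ(F, W) :=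
    Module.FinitePresentation.trans (Pol Γ(Y, V) n) Γ(F, W) Γ(X, W)
  letI : Module Γ(Y, V) Γ(F, W) := Module.compHom _ (f.appLE V W e).hom
  haveI : IsScalarTower Γ(Y, V) (Pol Γ(Y, V) n) Γ(F, W) := IsScalarTower.of_algebraMap_smul fun a m => by
    show π (algebraMap Γ(Y, V) (Pol Γ(Y, V) n) a) • m = (f.appLE V W e).hom a • m
    rw [MvPolynomial.algebraMap_eq, ← hπA]
    rfl
  haveI : Module.Flat Γ(Y, V) Γ(F, W) := GrothLib.BCCoh.flat_sections f F hflat hW hV e
  have hker : ∀ y, fibDepth Γ(F, W) y = 0 → RingHom.ker π ≤ y.asIdeal := fun y hy =>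
    ker_le_of_mem_support π Γ(F, W) (mem_support_of_fibDepth_eq_zero hy)
  refine ⟨V, W, hV, hW, e, n, π, Γ(F, W), inferInstance, inferInstance, inferInstance, inferInstance, hxW,
    inferInstance, inferInstance, fun y hy => ?_, fun x => ⟨_, (comap_chartPt f hV hW e π hπA x).symm⟩,
    fun x => ?_, fun x => ?_, fun x Φ => ?_, fun x => ?_⟩
  · obtain ⟨q, rfl⟩ : y ∈ Set.range (PrimeSpectrum.comap π) := by
      rw [range_comap_of_surjective _ _ hπ]
      exact ker_le_of_mem_support π Γ(F, W) hy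
    exact ⟨(Scheme.homeoOfIso hW.isoSpec).symm q,
      congrArg (PrimeSpectrum.comap π) ((Scheme.homeoOfIso hW.isoSpec).apply_symm_apply q)⟩
  · rw [comap_chartPt f hV hW e π hπA x, IsAffineOpen.fromSpec_primeIdealOf]
  · have hz : f.fiberι (f x.1) (f.asFiber x.1) ∈ W := by rw [f.fiberι_asFiber]; exact x.2
    have h := nontrivial_fibStalk_chart f hV hW e π F hπ hπA hF _ _ hz
    rwa [chartPt_asFiber f hW π x hz] at h
  · constructor
    · intro h y hy hyp hy0
      obtain ⟨z, hzW, hz, rfl⟩ := gen_exists f hV hW e π hπ hπA x y hy hyp (hker y hy0)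
      obtain ⟨m, hm, hdim⟩ := h z ((mem_ass_iff f hV hW e π F hπ hπA hF _ z hzW).2 hy0)
        (specializes_iff_mem_closure.1 hz)
      exact ⟨m, hm, (dim_closure_eq_ptDimFib f hV hW e π hπ hπA _ z hzW).symm.trans hdim⟩
    · intro h z hzass hz
      obtain ⟨hzW, hle, hfib⟩ := gen_mem f hV hW e π hπ hπA x z (specializes_iff_mem_closure.2 hz)
      obtain ⟨m, hm, hdim⟩ := h _ hle hfib ((mem_ass_iff f hV hW e π F hπ hπA hF _ z hzW).1 hzass)
      exact ⟨m, hm, (dim_closure_eq_ptDimFib f hV hW e π hπ hπA _ z hzW).trans hdim⟩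
  · constructor
    · intro h y y' hy hyp hy0 hy' hyp' hy0'
      obtain ⟨z, hzW, hz, rfl⟩ := gen_exists f hV hW e π hπ hπA x y hy hyp (hker y hy0)
      obtain ⟨z', hzW', hz', rfl⟩ := gen_exists f hV hW e π hπ hπA x y' (hy'.trans hy) (hyp'.trans hyp) (hker y' hy0')
      have := h z ((mem_ass_iff f hV hW e π F hπ hπA hF _ z hzW).2 hy0) (specializes_iff_mem_closure.1 hz) z'
        ((mem_ass_iff f hV hW e π F hπ hπA hF _ z' hzW').2 hy0')
        (specializes_iff_mem_closure.1 ((specializes_iff_chartPt f hW π hπ _ z z' hzW hzW').2 hy'))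
      subst this
      rfl
    · intro h z hzass hz z' hzass' hzz'
      have hz2 := specializes_iff_mem_closure.2 hz
      have hzz'2 := specializes_iff_mem_closure.2 hzz'
      obtain ⟨hzW, hle, hfib⟩ := gen_mem f hV hW e π hπ hπA x z hz2
      obtain ⟨hzW', hle', hfib'⟩ := gen_mem f hV hW e π hπ hπA x z' (hzz'2.trans hz2)
      exact eq_of_chartPt_eq f hW π hπ _ z z' hzW hzW' (h _ _ hle hfib
        ((mem_ass_iff f hV hW e π F hπ hπA hF _ z hzW).1 hzass)
        ((specializes_iff_chartPt f hW π hπ _ z z' hzW hzW').1 hzz'2) (hfib'.trans hfib.symm)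
        ((mem_ass_iff f hV hW e π F hπ hπA hF _ z' hzW').1 hzass'))

theorem isOpen_assDims_through (hF : CohB1.IsFP F) (hflat : FlatMod.IsFlatOver f F) (Φ : Set ℕ) :
    IsOpen {x : X | AssThrough f F (DimIn f Φ) x} := by
  refine isOpen_iff_forall_mem_open.mpr fun x₀ hx₀ => ?_
  obtain ⟨V, W, hV, hW, e, n, π, M, _, _, _, _, hxW, hfp, hfl, -, -, -, -, h, -⟩ := exists_ass_chart f F hF hflat x₀
  haveI := hfp
  haveI := hfl
  exact ⟨_ ∩ (W : Set X), Set.inter_subset_left,
    isOpen_inter_chart hW π (isOpen_assDimGood (M := M) Φ) fun x => h x Φ, hx₀, hxW⟩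

theorem isOpen_noEmb_through (hF : CohB1.IsFP F) (hflat : FlatMod.IsFlatOver f F) :
    IsOpen {x : X | AssThrough f F (NotEmbedded f F) x} := by
  refine isOpen_iff_forall_mem_open.mpr fun x₀ hx₀ => ?_
  obtain ⟨V, W, hV, hW, e, n, π, M, _, _, _, _, hxW, hfp, hfl, -, -, -, -, -, h⟩ := exists_ass_chart f F hF hflat x₀
  haveI := hfp
  haveI := hfl
  exact ⟨_ ∩ (W : Set X), Set.inter_subset_left,
    isOpen_inter_chart hW π (isOpen_noEmbGood (M := M)) fun x => h x, hx₀, hxW⟩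

theorem forall_fiber_iff (P : ∀ y, ↥(f.fiber y) → Prop) (y : Y) :
    (∀ x : ↥(f.fiber y), ∀ z ∈ AssSch.Ass ((Scheme.Modules.pullback (f.fiberι y)).obj F), x ∈ closure {z} → P y z) ↔
      ∀ z ∈ AssSch.Ass ((Scheme.Modules.pullback (f.fiberι y)).obj F), P y z :=
  ⟨fun h z hz => h z z hz (subset_closure rfl), fun h _ z hz _ => h z hz⟩

theorem isOpen_forall_assDims [IsProper f] (hF : CohB1.IsFP F) (hflat : FlatMod.IsFlatOver f F) (Φ : Set ℕ) :
    IsOpen {y : Y | ∀ z ∈ AssSch.Ass ((Scheme.Modules.pullback (f.fiberι y)).obj F), DimIn f Φ y z} := by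
  simp only [← forall_fiber_iff f F (DimIn f Φ)]
  exact isOpen_forall_fiber f (fun y x => ∀ z ∈ AssSch.Ass ((Scheme.Modules.pullback (f.fiberι y)).obj F),
    x ∈ closure {z} → DimIn f Φ y z) (isOpen_assDims_through f F hF hflat Φ)

theorem isOpen_forall_noEmb [IsProper f] (hF : CohB1.IsFP F) (hflat : FlatMod.IsFlatOver f F) :
    IsOpen {y : Y | ∀ z ∈ AssSch.Ass ((Scheme.Modules.pullback (f.fiberι y)).obj F), NotEmbedded f F y z} := by
  simp only [← forall_fiber_iff f F (NotEmbedded f F)]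
  exact isOpen_forall_fiber f (fun y x => ∀ z ∈ AssSch.Ass ((Scheme.Modules.pullback (f.fiberι y)).obj F),
    x ∈ closure {z} → NotEmbedded f F y z) (isOpen_noEmb_through f F hF hflat)

/-- Some point of the support has all associated points through it of dimension `m`. -/
theorem isOpen_exists_dim (hF : CohB1.IsFP F) (hflat : FlatMod.IsFlatOver f F) (m : ℕ) :
    IsOpen (f '' {x : X | Nontrivial (((Scheme.Modules.pullback (f.fiberι (f.base x))).obj F).presheaf.stalk (f.asFiber x)) ∧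
      AssThrough f F (DimIn f {m}) x}) := by
  refine isOpen_iff_forall_mem_open.mpr ?_
  rintro _ ⟨x₀, ⟨hnt, hx₀⟩, rfl⟩
  obtain ⟨V, W, hV, hW, e, n, π, M, _, _, _, _, hxW, hfp, hfl, hrange, -, hbase, hsupp, h, -⟩ :=
    exists_ass_chart f F hF hflat x₀
  haveI := hfp
  haveI := hfl
  let O := {Q : PrimeSpectrum (Pol Γ(Y, V) n) | AssDimGood M {m} Q}
  have hQ₀ : chartPt hW π ⟨x₀, hxW⟩ ∈ O := (h ⟨x₀, hxW⟩ {m}).1 hx₀
  obtain ⟨_, ⟨g, rfl⟩, hg₀, hgO⟩ := PrimeSpectrum.isTopologicalBasis_basic_opens.exists_subset_of_mem_open hQ₀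
    (isOpen_assDimGood (M := M) {m})
  refine ⟨hV.fromSpec '' (PrimeSpectrum.comap (algebraMap Γ(Y, V) (Pol Γ(Y, V) n)) ''
    (Module.support (Pol Γ(Y, V) n) M ∩ (PrimeSpectrum.basicOpen g : Set (PrimeSpectrum (Pol Γ(Y, V) n))))), ?_,
    hV.fromSpec.isOpenEmbedding.isOpenMap _ (isOpen_image_support_inter g), ?_⟩
  · rintro _ ⟨_, ⟨Q, ⟨hQs, hQg⟩, rfl⟩, rfl⟩
    obtain ⟨w, rfl⟩ := hrange hQs
    exact ⟨w.1, ⟨(hsupp w).2 hQs, (h w {m}).2 (hgO hQg)⟩, (hbase w).symm⟩
  · exact ⟨_, ⟨chartPt hW π ⟨x₀, hxW⟩, ⟨(hsupp ⟨x₀, hxW⟩).1 hnt, hg₀⟩, rfl⟩, hbase ⟨x₀, hxW⟩⟩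

end GrothLib.FibPd
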