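import Groth.Agent.Lib.FibPd.GeomFinite
import Groth.Agent.Lib.FibPd.AssScheme

/-!
# Open loci of geometric conditions on the fibres of flat morphisms
-/

set_option autoImplicit false
set_option backward.isDefEq.respectTransparency false
set_option linter.style.haveILetI false
universe u

open TensorProduct Function IsLocalRing CategoryTheory AlgebraicGeometry Topology TopologicalSpace

namespace GrothLib.FibPd

variable {X Y : Scheme.{u}} (f : X ⟶ Y) [LocallyOfFinitePresentation f]

theorem mem_smSet_iff_of_flat (x : X) (hflat : (f.stalkMap x).hom.Flat) :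
    x ∈ GrothLib.FibClos.smSet f ↔ x ∈ f.smoothLocus := by
  refine ⟨fun hx => ?_, fun hx => ?_⟩
  · exact (GrothLib.LocProp.smooth_nhd_iff f x).mp (GrothLib.EtLocal.smooth_nhd_of_flat_of_fibre_nhd f x
      hflat (f.asFiber x) (f.fiberι_asFiber x) hx)
  · exact GrothLib.EtLocal.nhd_fibre (W := @Smooth)
      (IsPullback.of_hasPullback f (Y.fromSpecResidueField (f x))) (f.asFiber x) (f.fiberι_asFiber x)
      ((GrothLib.LocProp.smooth_nhd_iff f x).mpr hx)

section Chart

variable {V : Y.Opens} {W : X.Opens} (hV : IsAffineOpen V) (hW : IsAffineOpen W) (e : W ≤ f ⁻¹ᵁ V) {n : ℕ}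
  (π : Pol Γ(Y, V) n →+* Γ(X, W))

include hV e in
theorem smoothCodimLE_chart (hπ : Surjective π) (hπA : π.comp MvPolynomial.C = (f.appLE V W e).hom) (k : ℕ) (x : W) :
    letI := polModule π Γ(X, W)
    SmoothCodimLE f k x.1 ↔
      ¬ SmallGen Γ(X, W) (chartPt hW π '' {w : W | w.1 ∉ GrothLib.FibClos.smSet f}) k (chartPt hW π x) := by
  letI := polModule π Γ(X, W)
  haveI : Module.Finite (Pol Γ(Y, V) n) Γ(X, W) := by
    letI : Algebra (Pol Γ(Y, V) n) Γ(X, W) := π.toAlgebra
    exact Module.Finite.of_surjective (Algebra.linearMap (Pol Γ(Y, V) n) Γ(X, W)) hπ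
  have hdim : ∀ (y : Y) (z : ↥(f.fiber y)) (hz : f.fiberι y z ∈ W),
      ringKrullDim ((f.fiber y).presheaf.stalk z) = fibSdim Γ(X, W) (chartPt hW π ⟨_, hz⟩) := fun y z hz =>
    (fibre_ring_data f hV hW e π hπ hπA y z hz).2
  have hsupp : ∀ w : W, chartPt hW π w ∈ Module.support (Pol Γ(Y, V) n) Γ(X, W) := fun w => by
    rw [Module.support_eq_zeroLocus, PrimeSpectrum.mem_zeroLocus]
    intro a ha
    have h1 : π a = 0 := by
      rw [← mul_one (π a)]
      exact Module.mem_annihilator.mp ha (1 : Γ(X, W))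
    show π a ∈ (hW.primeIdealOf w).asIdeal
    rw [h1]
    exact Submodule.zero_mem _
  rw [smoothCodimLE_iff]
  constructor
  · rintro h ⟨y, hy, hyp, ⟨w, hwN, rfl⟩, -, hk⟩
    have hker : RingHom.ker π ≤ (chartPt hW π w).asIdeal := fun a ha => by
      show π a ∈ (hW.primeIdealOf w).asIdeal
      rw [RingHom.mem_ker.1 ha]
      exact Submodule.zero_mem _
    obtain ⟨z, hzW, hz, heq⟩ := gen_exists f hV hW e π hπ hπA x _ hy hyp hker
    obtain rfl := ((isClosedEmbedding_chartPt hW π hπ).injective heq).symm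
    refine hwN ((GrothLib.FibClos.mem_smSet_iff f z rfl).2 ((GrothLib.LocProp.smooth_nhd_iff _ z).2 (h z hz ?_)))
    rw [hdim _ z hzW]
    exact hk
  · intro h z hz hk
    obtain ⟨hzW, hle, hfib⟩ := gen_mem f hV hW e π hπ hπA x z hz
    by_contra hsm
    refine h ⟨_, hle, hfib, ⟨⟨_, hzW⟩, fun hmem => hsm ?_, rfl⟩, hsupp _, by rw [← hdim]; exact hk⟩
    exact (GrothLib.LocProp.smooth_nhd_iff _ z).1 ((GrothLib.FibClos.mem_smSet_iff f z rfl).1 hmem)

include hV e in
theorem fibre_ring_isEquidim (hπ : Surjective π) (hπA : π.comp MvPolynomial.C = (f.appLE V W e).hom) (y : Y)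
    (z : ↥(f.fiber y)) (hz : f.fiberι y z ∈ W) :
    letI := polModule π Γ(X, W)
    EGA4.IsEquidimModule ((f.fiber y).presheaf.stalk z) ((f.fiber y).presheaf.stalk z) ↔
      EquidimGood Γ(X, W) (chartPt hW π ⟨_, hz⟩) :=
  fibre_stalk_isEquidim f hV hW e π hπ hπA Γ(X, W) y z hz ((f.fiber y).presheaf.stalk z) (by
    letI : Algebra Γ(X, W) ((f.fiber y).presheaf.stalk z) := (toFibStalk f y z hz).toAlgebra
    exact ⟨Algebra.linearMap Γ(X, W) _, IsBaseChange.linearMap _ _⟩)

end Chart

/-- The fibre local ring is equidimensional without embedded components. -/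
def EquidimNoEmb (y : Y) (z : ↥(f.fiber y)) : Prop :=
  EGA4.IsEquidimModule ((f.fiber y).presheaf.stalk z) ((f.fiber y).presheaf.stalk z) ∧
    LocCoh.HasSk 1 ((f.fiber y).presheaf.stalk z) ((f.fiber y).presheaf.stalk z)

/-- The chart for flat morphisms. -/
theorem exists_flat_geom_chart (x₀ : X) (hflat : (f.stalkMap x₀).hom.Flat) :
    ∃ (V : Y.Opens) (W : X.Opens) (hW : IsAffineOpen W) (n : ℕ) (π : Pol Γ(Y, V) n →+* Γ(X, W)) (M : Type u)
      (_ : AddCommGroup M) (_ : Module (Pol Γ(Y, V) n) M) (_ : Module Γ(Y, V) M)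
      (_ : IsScalarTower Γ(Y, V) (Pol Γ(Y, V) n) M) (N : Set (PrimeSpectrum (Pol Γ(Y, V) n))),
      x₀ ∈ W ∧ (∀ w ∈ W, (f.stalkMap w).hom.Flat) ∧ Module.FinitePresentation (Pol Γ(Y, V) n) M ∧
      Module.Flat Γ(Y, V) M ∧ IsClosed N ∧
      ∀ (x : W) (k : ℕ),
        (SmoothCodimLE f k x.1 ↔ ¬ SmallGen M N k (chartPt hW π x)) ∧
        (LocCoh.HasSk k ((f.fiber (f x.1)).presheaf.stalk (f.asFiber x.1)) ((f.fiber (f x.1)).presheaf.stalk (f.asFiber x.1)) ↔
          SkGood M k (chartPt hW π x)) ∧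
        (EquidimNoEmb f (f x.1) (f.asFiber x.1) ↔ SkGood M 1 (chartPt hW π x) ∧ EquidimGood M (chartPt hW π x)) := by
  obtain ⟨V, W, hV, hW, e, hxW, hWflat⟩ := exists_flat_chart f x₀ hflat
  obtain ⟨n, π, hπ, hπfg, hπA⟩ := exists_presentation f hV hW e
  letI := polModule π Γ(X, W)
  letI : Module Γ(Y, V) Γ(X, W) := Module.compHom _ (f.appLE V W e).hom
  haveI : IsScalarTower Γ(Y, V) (Pol Γ(Y, V) n) Γ(X, W) := IsScalarTower.of_algebraMap_smul fun a m => by
    show π (algebraMap Γ(Y, V) (Pol Γ(Y, V) n) a) * m = (f.appLE V W e).hom a * m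
    rw [MvPolynomial.algebraMap_eq, ← hπA]
    rfl
  haveI : Module.Flat Γ(Y, V) Γ(X, W) := flat_appLE_of_stalkMap f hV hW e hWflat
  haveI : Module.FinitePresentation (Pol Γ(Y, V) n) Γ(X, W) := by
    letI : Algebra (Pol Γ(Y, V) n) Γ(X, W) := π.toAlgebra
    exact Module.finitePresentation_of_surjective (Algebra.linearMap (Pol Γ(Y, V) n) Γ(X, W)) hπ hπfg
  refine ⟨V, W, hW, n, π, Γ(X, W), inferInstance, inferInstance, inferInstance, inferInstance,
    chartPt hW π '' {w : W | w.1 ∉ GrothLib.FibClos.smSet f}, hxW, hWflat, inferInstance, inferInstance, ?_,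
    fun x k => ?_⟩
  · have heq : {w : W | w.1 ∉ GrothLib.FibClos.smSet f} = (Subtype.val ⁻¹' (f.smoothLocus : Set X))ᶜ :=
      Set.ext fun w => not_congr (mem_smSet_iff_of_flat f w.1 (hWflat w.1 w.2))
    rw [heq]
    exact (isClosedEmbedding_chartPt hW π hπ).isClosedMap _
      (f.smoothLocus.2.preimage continuous_subtype_val).isClosed_compl
  · have hz : f.fiberι (f x.1) (f.asFiber x.1) ∈ W := by rw [f.fiberι_asFiber]; exact x.2
    have hSk : ∀ j, LocCoh.HasSk j ((f.fiber (f x.1)).presheaf.stalk (f.asFiber x.1))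
        ((f.fiber (f x.1)).presheaf.stalk (f.asFiber x.1)) ↔ SkGood Γ(X, W) j (chartPt hW π x) := fun j => by
      have h := fibre_ring_hasSk f hV hW e π hπ hπA _ _ hz j
      rwa [chartPt_asFiber f hW π x hz] at h
    refine ⟨smoothCodimLE_chart f hV hW e π hπ hπA k x, hSk k, ?_⟩
    have h2 := fibre_ring_isEquidim f hV hW e π hπ hπA _ _ hz
    rw [chartPt_asFiber f hW π x hz] at h2
    rw [EquidimNoEmb, h2, hSk 1]
    exact and_comm

theorem isOpen_flat_codim_equidim (k : ℕ) :
    IsOpen {x : X | (f.stalkMap x).hom.Flat ∧ SmoothCodimLE f k x ∧ EquidimNoEmb f (f x) (f.asFiber x)} := by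
  refine isOpen_iff_forall_mem_open.mpr fun x₀ hx₀ => ?_
  obtain ⟨V, W, hW, n, π, M, _, _, _, _, N, hxW, hWflat, hfp, hfl, hN, h⟩ := exists_flat_geom_chart f x₀ hx₀.1
  haveI := hfp
  haveI := hfl
  refine ⟨_ ∩ (W : Set X), Set.inter_subset_left,
    isOpen_inter_chart hW π (isOpen_smallGen_equidim (M := M) hN k) fun x => ?_, hx₀, hxW⟩
  rw [Set.mem_setOf_eq, (h x k).1, (h x k).2.2]
  exact and_iff_right (hWflat x.1 x.2)

theorem isOpen_flat_codim_zero :
    IsOpen {x : X | (f.stalkMap x).hom.Flat ∧ SmoothCodimLE f 0 x ∧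
      LocCoh.HasSk 1 ((f.fiber (f x)).presheaf.stalk (f.asFiber x)) ((f.fiber (f x)).presheaf.stalk (f.asFiber x))} := by
  refine isOpen_iff_forall_mem_open.mpr fun x₀ hx₀ => ?_
  obtain ⟨V, W, hW, n, π, M, _, _, _, _, N, hxW, hWflat, hfp, hfl, hN, h⟩ := exists_flat_geom_chart f x₀ hx₀.1
  haveI := hfp
  haveI := hfl
  refine ⟨_ ∩ (W : Set X), Set.inter_subset_left,
    isOpen_inter_chart hW π (isOpen_smallGen_zero (M := M) hN) fun x => ?_, hx₀, hxW⟩
  rw [Set.mem_setOf_eq, (h x 0).1, (h x 1).2.1]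
  exact and_iff_right (hWflat x.1 x.2)

/-- Geometric reducedness. -/
theorem isOpen_flat_geomReduced :
    IsOpen {x : X | (f.stalkMap x).hom.Flat ∧
      FBase.IsGeomReducedAt (f.fiberToSpecResidueField (f.base x)) (f.asFiber x)} := by
  convert isOpen_flat_codim_zero f using 1
  ext x
  exact and_congr_right fun _ =>
    (isGeomReducedAt_iff (k := IsLocalRing.ResidueField (Y.presheaf.stalk (f x))) (f.fiberToSpecResidueField (f x))
      (f.asFiber x)).trans (and_congr_left fun _ => (smoothCodimLE_iff f 0 x).symm)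

/-- Geometric `(R_k)`, equidimensional, no embedded component. -/
theorem isOpen_geomRk_equidim [Flat f] (k : ℕ) :
    IsOpen {x : X | (∀ (K : Type u) [Field K] [Algebra (IsLocalRing.ResidueField (Y.presheaf.stalk (f.base x))) K],
        Module.Finite (IsLocalRing.ResidueField (Y.presheaf.stalk (f.base x))) K →
        ∀ x' : ↥(FBase.bc (f.fiberToSpecResidueField (f.base x)) K),
          (FBase.bcπ (f.fiberToSpecResidueField (f.base x)) K).base x' = f.asFiber x →
          LocCoh.HasRk k ((FBase.bc (f.fiberToSpecResidueField (f.base x)) K).presheaf.stalk x')) ∧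
      EGA4.IsEquidim ↑((f.fiber (f.base x)).presheaf.stalk (f.asFiber x)) ∧ (∀ p ∈ associatedPrimes ↑((f.fiber (f.base x)).presheaf.stalk (f.asFiber x)) ↑((f.fiber (f.base x)).presheaf.stalk (f.asFiber x)), p ∈ minimalPrimes ↑((f.fiber (f.base x)).presheaf.stalk (f.asFiber x)))} := by
  convert isOpen_flat_codim_equidim f k using 1
  ext x
  haveI : IsLocallyNoetherian (f.fiber (f x)) :=
    LocallyOfFiniteType.isLocallyNoetherian (f.fiberToSpecResidueField (f x))
  refine Iff.trans ?_ (and_iff_right (Flat.stalkMap f x)).symm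
  exact and_congr ((geom_hasRk_iff_finite (k := IsLocalRing.ResidueField (Y.presheaf.stalk (f x)))
      (f.fiberToSpecResidueField (f x)) (f.asFiber x) k).trans (smoothCodimLE_iff f k x).symm)
    (and_congr (isEquidimModule_self_iff _).symm (hasSk_one_iff _).symm)

theorem isOpen_forall_geomRk_equidim [IsProper f] [Flat f] (k : ℕ) :
    IsOpen {y : Y | ∀ x : ↥(f.fiber y), (∀ (K : Type u) [Field K] [Algebra (IsLocalRing.ResidueField (Y.presheaf.stalk y)) K],
        Module.Finite (IsLocalRing.ResidueField (Y.presheaf.stalk y)) K →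
        ∀ x' : ↥(FBase.bc (f.fiberToSpecResidueField y) K),
          (FBase.bcπ (f.fiberToSpecResidueField y) K).base x' = x →
          LocCoh.HasRk k ((FBase.bc (f.fiberToSpecResidueField y) K).presheaf.stalk x')) ∧
      EGA4.IsEquidim ↑((f.fiber y).presheaf.stalk x) ∧ (∀ p ∈ associatedPrimes ↑((f.fiber y).presheaf.stalk x) ↑((f.fiber y).presheaf.stalk x), p ∈ minimalPrimes ↑((f.fiber y).presheaf.stalk x))} :=
  isOpen_forall_fiber f _ (isOpen_geomRk_equidim f k)

theorem isOpen_flat_geomNormal :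
    IsOpen {x : X | (f.stalkMap x).hom.Flat ∧
      ∀ (K : Type u) [Field K] [Algebra (IsLocalRing.ResidueField (Y.presheaf.stalk (f.base x))) K],
        Module.Finite (IsLocalRing.ResidueField (Y.presheaf.stalk (f.base x))) K →
        ∀ x' : ↥(FBase.bc (f.fiberToSpecResidueField (f.base x)) K),
          (FBase.bcπ (f.fiberToSpecResidueField (f.base x)) K).base x' = f.asFiber x →
          IsDomain ((FBase.bc (f.fiberToSpecResidueField (f.base x)) K).presheaf.stalk x') ∧
            IsIntegrallyClosed ((FBase.bc (f.fiberToSpecResidueField (f.base x)) K).presheaf.stalk x')} := by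
  convert (isOpen_flat_codim_equidim f 1).inter (isOpen_flatAt_and_hasSk f 2) using 1
  ext x
  haveI : IsLocallyNoetherian (f.fiber (f x)) :=
    LocallyOfFiniteType.isLocallyNoetherian (f.fiberToSpecResidueField (f x))
  have hiff := geom_normal_iff_finite (k := IsLocalRing.ResidueField (Y.presheaf.stalk (f x)))
    (f.fiberToSpecResidueField (f x)) (f.asFiber x)
  constructor
  · rintro ⟨hfl, h⟩
    obtain ⟨hR, hS⟩ := hiff.1 h
    refine ⟨⟨hfl, (smoothCodimLE_iff f 1 x).2 hR, ?_⟩, hfl, hS⟩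
    -- the fibre ring is a normal domain
    have hR1 : LocCoh.HasRk 1 ((f.fiber (f x)).presheaf.stalk (f.asFiber x)) :=
      (hasRk_stalk_iff _ 1).2 fun z hz hk => Groth.Agent.Lib.AlgMisc.GeomRegAt.isRegularLocalRing_stalk_of_mem_smoothLocus
        (k := IsLocalRing.ResidueField (Y.presheaf.stalk (f x))) (f.fiberToSpecResidueField (f x)) (hR z hz hk)
    obtain ⟨hdom, -⟩ := (normal_local_iff _).2 ⟨hR1, hS⟩
    haveI := hdom
    refine ⟨(isEquidimModule_self_iff _).2 fun p hp => ?_, (hasSk_one_iff _).2 fun p hp => ?_⟩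
    · rw [IsDomain.minimalPrimes_eq_singleton_bot, Set.mem_singleton_iff] at hp
      subst hp
      exact ringKrullDim_eq_of_ringEquiv (RingEquiv.quotientBot _)
    · obtain ⟨hprime, a, ha⟩ := isAssociatedPrime_iff.mp hp
      rw [IsDomain.minimalPrimes_eq_singleton_bot, Set.mem_singleton_iff, eq_bot_iff]
      intro b hb
      rw [ha, Submodule.mem_colon_singleton, Submodule.mem_bot, smul_eq_mul] at hb
      rw [Ideal.mem_bot]
      refine (mul_eq_zero.1 hb).resolve_right fun h0 => hprime.one_notMem ?_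
      rw [ha, Submodule.mem_colon_singleton, h0, smul_zero]
      exact Submodule.zero_mem _
  · rintro ⟨⟨hfl, hR, -⟩, -, hS⟩
    exact ⟨hfl, hiff.2 ⟨(smoothCodimLE_iff f 1 x).1 hR, hS⟩⟩

theorem isOpen_forall_geomNormal [IsProper f] [Flat f] :
    IsOpen {y : Y | ∀ x : ↥(f.fiber y), (∀ (K : Type u) [Field K] [Algebra (IsLocalRing.ResidueField (Y.presheaf.stalk y)) K],
        Module.Finite (IsLocalRing.ResidueField (Y.presheaf.stalk y)) K →
        ∀ x' : ↥(FBase.bc (f.fiberToSpecResidueField y) K),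
          (FBase.bcπ (f.fiberToSpecResidueField y) K).base x' = x →
          IsDomain ((FBase.bc (f.fiberToSpecResidueField y) K).presheaf.stalk x') ∧
            IsIntegrallyClosed ((FBase.bc (f.fiberToSpecResidueField y) K).presheaf.stalk x'))} := by
  refine isOpen_forall_fiber f _ ?_
  convert isOpen_flat_geomNormal f using 1
  ext x
  exact (and_iff_right (Flat.stalkMap f x)).symm

end GrothLib.FibPd
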