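import Groth.Prelude.Def_EGA4b
import Groth.Agent.Lib.Serre.Basic
import Groth.Agent.Lib.FlatOff.FibRing
import Mathlib.RingTheory.TensorProduct.MvPolynomial
import Mathlib.RingTheory.Flat.FaithfullyFlat.Algebra
import Mathlib.RingTheory.RegularLocalRing.Polynomial
import Mathlib.RingTheory.LocalRing.ResidueField.Ideal

/-!
# Projective dimension on the fibres of a polynomial ring

For a module `M` over `A[X₁, …, Xₙ]` and a prime `Q`, the projective dimension of the fibre of `M`
at `Q` over the fibre local ring can be computed over any field lying over the image of `Q`.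
-/

set_option autoImplicit false
set_option linter.style.haveILetI false
universe u

open TensorProduct Function IsLocalRing MvPolynomial

namespace GrothLib.FibPd

attribute [local instance] MvPolynomial.algebraMvPolynomial

/-- Polynomials in `n` variables. -/
abbrev Pol (A : Type u) [CommRing A] (n : ℕ) : Type u := MvPolynomial (Fin n) A

variable {A : Type u} [CommRing A] {n : ℕ}

/-- The projective dimension of the fibre of `M` at `Q` is at most `e`. -/
def PdFib (M : Type u) [AddCommGroup M] [Module (Pol A n) M] (Q : PrimeSpectrum (Pol A n)) (e : ℕ) : Prop :=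
  GrothLib.Serre.PdLE (EGA4.FibLocRing A (Pol A n) Q.asIdeal)
    (EGA4.FibLocRing A (Pol A n) Q.asIdeal ⊗[Pol A n] M) e

/-- Projective dimension after a faithfully flat change of rings under `P`. -/
theorem pdLE_tensor_iff (P G L : Type u) [CommRing P] [CommRing G] [CommRing L] [Algebra P G] [Algebra P L]
    [Algebra G L] [IsScalarTower P G L] [IsNoetherianRing G] [Module.FaithfullyFlat G L]
    (M : Type u) [AddCommGroup M] [Module P M] [Module.Finite P M] (e : ℕ) :
    GrothLib.Serre.PdLE L (L ⊗[P] M) e ↔ GrothLib.Serre.PdLE G (G ⊗[P] M) e := by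
  rw [← GrothLib.Serre.pdLE_congr (AlgebraTensorModule.cancelBaseChange P G L L M) e]
  exact ⟨GrothLib.Serre.pdLE_of_faithfullyFlat L e, GrothLib.Serre.pdLE_baseChange L e⟩

section Field

variable (k : Type u) [Field k] [Algebra A k]

theorem comap_C_eq_ker (Q' : Ideal (Pol k n)) [Q'.IsPrime] :
    (Q'.comap (algebraMap (Pol A n) (Pol k n))).comap (C : A →+* Pol A n) = RingHom.ker (algebraMap A k) := by
  ext a
  simp only [Ideal.mem_comap, algebraMap_def, map_C, RingHom.mem_ker]
  constructor
  · intro h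
    by_contra h0
    exact Ideal.IsPrime.ne_top' (I := Q') (Ideal.eq_top_of_isUnit_mem _ h ((Ne.isUnit h0).map C))
  · intro h
    rw [h, map_zero]
    exact Q'.zero_mem

/-- Faithful flatness of the local rings of `k'[X]` over those of `k[X]`. -/
theorem faithfullyFlat_local (k' : Type u) [Field k'] [Algebra k k'] (Q'' : Ideal (Pol k' n)) [Q''.IsPrime]
    (Q' : Ideal (Pol k n)) [Q'.IsPrime] [Q''.LiesOver Q'] :
    letI := Localization.AtPrime.algebraOfLiesOver Q' Q''
    Module.FaithfullyFlat (Localization.AtPrime Q') (Localization.AtPrime Q'') := by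
  letI := Localization.AtPrime.algebraOfLiesOver Q' Q''
  haveI : Algebra.IsPushout k k' (Pol k n) (Pol k' n) := inferInstance
  haveI : Module.Flat (Pol k n) (Pol k' n) := by
    haveI h := (Algebra.IsPushout.symm ‹Algebra.IsPushout k k' (Pol k n) (Pol k' n)›).out
    exact Module.Flat.isBaseChange k (Pol k n) k' (Pol k' n) h
  haveI : Module.Flat (Pol k n) (Localization.AtPrime Q'') := Module.Flat.trans (Pol k n) (Pol k' n) _
  haveI : Module.Flat (Localization.AtPrime Q') (Localization.AtPrime Q'') :=
    (Module.flat_iff_of_isLocalization (Localization.AtPrime Q') Q'.primeCompl _).mpr inferInstance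
  exact Module.FaithfullyFlat.of_flat_of_isLocalHom

end Field

variable (Q : PrimeSpectrum (Pol A n))

/-- The point of the fibre over `Q`. -/
theorem exists_point :
    ∃ Q' : PrimeSpectrum (Pol (Q.asIdeal.comap (algebraMap A (Pol A n))).ResidueField n),
      Q'.asIdeal.comap (algebraMap (Pol A n) (Pol (Q.asIdeal.comap (algebraMap A (Pol A n))).ResidueField n)) =
        Q.asIdeal := by
  let p := Q.asIdeal.comap (algebraMap A (Pol A n))
  let θ : p.ResidueField →ₐ[A] Q.asIdeal.ResidueField :=
    Ideal.ResidueField.mapₐ p Q.asIdeal (Algebra.ofId A (Pol A n)) rfl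
  let ev : Pol p.ResidueField n →+* Q.asIdeal.ResidueField :=
    eval₂Hom θ.toRingHom fun i => algebraMap (Pol A n) Q.asIdeal.ResidueField (X i)
  refine ⟨⟨RingHom.ker ev, RingHom.ker_isPrime ev⟩, ?_⟩
  have h : ev.comp (algebraMap (Pol A n) (Pol p.ResidueField n)) = algebraMap (Pol A n) Q.asIdeal.ResidueField := by
    refine MvPolynomial.ringHom_ext (fun a => ?_) fun i => ?_
    · simp only [ev, RingHom.comp_apply, algebraMap_def, map_C, coe_eval₂Hom, eval₂_C]
      exact (θ.commutes a).trans (IsScalarTower.algebraMap_apply A (Pol A n) Q.asIdeal.ResidueField a)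
    · simp only [ev, RingHom.comp_apply, algebraMap_def, map_X, coe_eval₂Hom, eval₂_X]
  show (RingHom.ker ev).comap _ = _
  rw [RingHom.comap_ker, h, Ideal.ker_algebraMap_residueField]

/-- The fibre local ring is the local ring of the fibre polynomial ring. -/
theorem nonempty_fibEquiv (Q' : PrimeSpectrum (Pol (Q.asIdeal.comap (algebraMap A (Pol A n))).ResidueField n))
    (hQ : Q'.asIdeal.comap (algebraMap (Pol A n) (Pol (Q.asIdeal.comap (algebraMap A (Pol A n))).ResidueField n)) =
      Q.asIdeal) :
    Nonempty (EGA4.FibLocRing A (Pol A n) Q.asIdeal ≃ₐ[Pol A n] Localization.AtPrime Q'.asIdeal) := by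
  let p := Q.asIdeal.comap (algebraMap A (Pol A n))
  let π := algebraMap (Pol A n) (Pol p.ResidueField n)
  let R := Localization.AtPrime Q.asIdeal
  let L := Localization.AtPrime Q'.asIdeal
  let φ : R →+* L := Localization.localRingHom Q.asIdeal Q'.asIdeal π hQ.symm
  have hφ : ∀ x, φ (algebraMap (Pol A n) R x) = algebraMap (Pol A n) L x := fun x => by
    rw [Localization.localRingHom_to_map, ← IsScalarTower.algebraMap_apply]
  -- constants with denominators lift
  have hC : ∀ c : p.ResidueField, ∃ r : R, φ r = algebraMap (Pol p.ResidueField n) L (C c) := by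
    intro c
    obtain ⟨a, s, hs, rfl⟩ : ∃ a s : A, s ∉ p ∧ c = algebraMap A p.ResidueField a / algebraMap A p.ResidueField s := by
      obtain ⟨⟨a', s'⟩, h⟩ := IsLocalization.surj (nonZeroDivisors (A ⧸ p)) c
      obtain ⟨a, rfl⟩ := Ideal.Quotient.mk_surjective a'
      obtain ⟨s, hs⟩ := Ideal.Quotient.mk_surjective (s' : A ⧸ p)
      have hs0 : s ∉ p := fun hmem => nonZeroDivisors.coe_ne_zero s' (by rw [← hs, Ideal.Quotient.eq_zero_iff_mem]; exact hmem)
      refine ⟨a, s, hs0, eq_div_of_mul_eq ?_ ?_⟩
      · rwa [ne_eq, ← RingHom.mem_ker, Ideal.ker_algebraMap_residueField]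
      · rw [IsScalarTower.algebraMap_apply A (A ⧸ p) p.ResidueField a,
          IsScalarTower.algebraMap_apply A (A ⧸ p) p.ResidueField s, Ideal.Quotient.algebraMap_eq, hs]
        exact h
    obtain ⟨u, hu⟩ := IsLocalization.map_units R
      (⟨algebraMap A (Pol A n) s, fun h => hs h⟩ : Q.asIdeal.primeCompl)
    refine ⟨algebraMap (Pol A n) R (algebraMap A (Pol A n) a) * ((u⁻¹ : Rˣ) : R), ?_⟩
    have hsu : φ (u : R) = algebraMap (Pol p.ResidueField n) L (C (algebraMap A p.ResidueField s)) := by
      rw [hu, hφ, IsScalarTower.algebraMap_apply (Pol A n) (Pol p.ResidueField n) L]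
      simp
    refine ((u.isUnit.map φ).mul_left_inj).mp ?_
    rw [← map_mul, mul_assoc, Units.inv_mul, mul_one, hφ,
      IsScalarTower.algebraMap_apply (Pol A n) (Pol p.ResidueField n) L, hsu, ← map_mul, ← map_mul,
      div_mul_cancel₀]
    · simp
    · rwa [ne_eq, ← RingHom.mem_ker, Ideal.ker_algebraMap_residueField]
  have hpoly : ∀ y : Pol p.ResidueField n, ∃ r : R, φ r = algebraMap (Pol p.ResidueField n) L y := by
    intro y
    induction y using MvPolynomial.induction_on with
    | C c => exact hC c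
    | add y z hy hz =>
      obtain ⟨r, hr⟩ := hy
      obtain ⟨t, ht⟩ := hz
      exact ⟨r + t, by rw [map_add, map_add, hr, ht]⟩
    | mul_X y i hy =>
      obtain ⟨r, hr⟩ := hy
      refine ⟨r * algebraMap (Pol A n) R (X i), ?_⟩
      rw [map_mul, map_mul, hr, hφ, IsScalarTower.algebraMap_apply (Pol A n) (Pol p.ResidueField n) L]
      simp
  have hsurj : Surjective φ := by
    intro z
    obtain ⟨y, t, rfl⟩ := IsLocalization.exists_mk'_eq Q'.asIdeal.primeCompl z
    obtain ⟨r, hr⟩ := hpoly y
    obtain ⟨w, hw⟩ := hpoly t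
    haveI : IsLocalHom φ := Localization.isLocalHom_localRingHom _ _ _ _
    obtain ⟨v, hv⟩ := isUnit_of_map_unit φ w (hw ▸ IsLocalization.map_units L t)
    refine ⟨r * ((v⁻¹ : Rˣ) : R), ?_⟩
    rw [IsLocalization.eq_mk'_iff_mul_eq, ← hw, ← map_mul, mul_assoc, ← hv, Units.inv_mul, mul_one, hr]
  have hker : RingHom.ker φ = p.map (algebraMap A R) := by
    refine le_antisymm (fun z hz => ?_) ?_
    · obtain ⟨y, t, rfl⟩ := IsLocalization.exists_mk'_eq Q.asIdeal.primeCompl z
      have h0 : algebraMap (Pol p.ResidueField n) L (π y) = 0 := by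
        have h := congrArg φ (IsLocalization.mk'_spec R y t)
        rw [map_mul, RingHom.mem_ker.mp hz, zero_mul, hφ, IsScalarTower.algebraMap_apply (Pol A n) (Pol p.ResidueField n) L] at h
        exact h.symm
      obtain ⟨w, hw⟩ := (IsLocalization.map_eq_zero_iff Q'.asIdeal.primeCompl L _).mp h0
      obtain ⟨r, hr⟩ := hpoly w
      obtain ⟨z', s, rfl⟩ := IsLocalization.exists_mk'_eq Q.asIdeal.primeCompl r
      have hz' : z' ∉ Q.asIdeal := by
        intro hmem
        have h := congrArg φ (IsLocalization.mk'_spec R z' s)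
        rw [map_mul, hr, hφ, hφ] at h
        have hu : IsUnit (algebraMap (Pol A n) L z') := h ▸ (IsLocalization.map_units L w).mul
          (by rw [← hφ]; exact (IsLocalization.map_units R s).map φ)
        rw [IsScalarTower.algebraMap_apply (Pol A n) (Pol p.ResidueField n) L] at hu
        exact (IsLocalization.AtPrime.isUnit_to_map_iff L Q'.asIdeal _).mp hu ((SetLike.ext_iff.mp hQ z').mpr hmem)
      -- `z'` times `y` vanishes in the fibre up to a unit
      have h1 : algebraMap (Pol p.ResidueField n) L (π (z' * y)) = 0 := by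
        rw [map_mul, map_mul, h0, mul_zero]
      obtain ⟨w', hw'⟩ := (IsLocalization.map_eq_zero_iff Q'.asIdeal.primeCompl L _).mp h1
      have h2 : π (z' * y) = 0 := (mul_eq_zero.mp hw').resolve_left fun h => w'.2 (h ▸ Q'.asIdeal.zero_mem)
      have h3 : z' * y ∈ p.map (algebraMap A (Pol A n)) := by
        have : z' * y ∈ RingHom.ker (MvPolynomial.map (algebraMap A p.ResidueField) : Pol A n →+* _) := h2
        rwa [MvPolynomial.ker_map, Ideal.ker_algebraMap_residueField] at this
      rw [IsLocalization.mk'_eq_mul_mk'_one]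
      refine Ideal.mul_mem_right _ _ ?_
      rw [← Ideal.unit_mul_mem_iff_mem _ (IsLocalization.map_units R (⟨z', hz'⟩ : Q.asIdeal.primeCompl)),
        IsScalarTower.algebraMap_eq A (Pol A n) R, ← Ideal.map_map, ← map_mul]
      exact Ideal.mem_map_of_mem _ h3
    · rw [Ideal.map_le_iff_le_comap]
      intro a ha
      have h0 : algebraMap A p.ResidueField a = 0 := by
        rwa [← RingHom.mem_ker, Ideal.ker_algebraMap_residueField]
      rw [Ideal.mem_comap, RingHom.mem_ker, IsScalarTower.algebraMap_apply A (Pol A n) R, hφ,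
        IsScalarTower.algebraMap_apply (Pol A n) (Pol p.ResidueField n) L]
      simp [h0]
  let e : EGA4.FibLocRing A (Pol A n) Q.asIdeal ≃+* L :=
    (Ideal.quotEquivOfEq hker.symm).trans (RingHom.quotientKerEquivOfSurjective hsurj)
  exact ⟨AlgEquiv.ofRingEquiv (f := e) fun x => hφ x⟩

theorem isRegularLocalRing_fibLocRing_pol : IsRegularLocalRing (EGA4.FibLocRing A (Pol A n) Q.asIdeal) := by
  obtain ⟨Q', hQ⟩ := exists_point Q
  obtain ⟨e⟩ := nonempty_fibEquiv Q Q' hQ
  haveI := IsRegularRing.isRegularLocalRing_localization Q'.asIdeal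
  exact IsRegularLocalRing.of_ringEquiv (R := Localization.AtPrime Q'.asIdeal) e.symm.toRingEquiv

/-- The fibre projective dimension computed over any field. -/
theorem pdFib_iff_field (M : Type u) [AddCommGroup M] [Module (Pol A n) M] [Module.Finite (Pol A n) M]
    (k : Type u) [Field k] [Algebra A k] (Q' : PrimeSpectrum (Pol k n))
    (hQ : Q'.asIdeal.comap (algebraMap (Pol A n) (Pol k n)) = Q.asIdeal) (e : ℕ) :
    PdFib M Q e ↔ GrothLib.Serre.PdLE (Localization.AtPrime Q'.asIdeal)
      (Localization.AtPrime Q'.asIdeal ⊗[Pol A n] M) e := by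
  let p := Q.asIdeal.comap (algebraMap A (Pol A n))
  have hp : p = RingHom.ker (algebraMap A k) := by
    show Q.asIdeal.comap _ = _
    rw [← hQ, MvPolynomial.algebraMap_eq, comap_C_eq_ker]
  -- the residue field maps into `k`
  let θ : p.ResidueField →+* k := Ideal.ResidueField.lift p (algebraMap A k) hp.le (fun a ha => by
    rw [Submonoid.mem_comap, IsUnit.mem_submonoid_iff]
    exact Ne.isUnit fun h => ha ((SetLike.ext_iff.mp hp a).mpr h))
  letI : Algebra p.ResidueField k := θ.toAlgebra
  haveI : IsScalarTower A p.ResidueField k := IsScalarTower.of_algebraMap_eq fun a =>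
    (Ideal.ResidueField.lift_algebraMap ..).symm
  haveI : IsScalarTower (Pol A n) (Pol p.ResidueField n) (Pol k n) := IsScalarTower.of_algebraMap_eq' (by
    rw [algebraMap_def, algebraMap_def, algebraMap_def]
    refine RingHom.ext fun x => ?_
    rw [RingHom.comp_apply, MvPolynomial.map_map, ← IsScalarTower.algebraMap_eq])
  let Qb : PrimeSpectrum (Pol p.ResidueField n) :=
    ⟨Q'.asIdeal.comap (algebraMap (Pol p.ResidueField n) (Pol k n)), inferInstance⟩
  have hQb : Qb.asIdeal.comap (algebraMap (Pol A n) (Pol p.ResidueField n)) = Q.asIdeal := by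
    show (Q'.asIdeal.comap _).comap _ = _
    rw [Ideal.comap_comap, ← IsScalarTower.algebraMap_eq, hQ]
  obtain ⟨e₁⟩ := nonempty_fibEquiv Q Qb hQb
  let G := EGA4.FibLocRing A (Pol A n) Q.asIdeal
  let L₁ := Localization.AtPrime Qb.asIdeal
  let L₂ := Localization.AtPrime Q'.asIdeal
  haveI : Q'.asIdeal.LiesOver Qb.asIdeal := ⟨rfl⟩
  letI := Localization.AtPrime.algebraOfLiesOver Qb.asIdeal Q'.asIdeal
  haveI : Module.FaithfullyFlat L₁ L₂ := faithfullyFlat_local _ k Q'.asIdeal Qb.asIdeal
  haveI : IsScalarTower (Pol A n) L₁ L₂ := IsScalarTower.of_algebraMap_eq fun x => by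
    rw [IsScalarTower.algebraMap_apply (Pol A n) (Pol p.ResidueField n) L₁, ← IsScalarTower.algebraMap_apply (Pol p.ResidueField n) L₁ L₂,
      IsScalarTower.algebraMap_apply (Pol p.ResidueField n) (Pol k n) L₂, ← IsScalarTower.algebraMap_apply (Pol A n) (Pol p.ResidueField n) (Pol k n),
      ← IsScalarTower.algebraMap_apply]
  haveI : IsNoetherianRing L₁ := IsLocalization.isNoetherianRing Qb.asIdeal.primeCompl _ inferInstance
  haveI : IsNoetherianRing G := isNoetherianRing_of_surjective L₁ G e₁.symm.toRingEquiv.toRingHom e₁.symm.surjective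
  letI : Algebra G L₁ := e₁.toAlgHom.toRingHom.toAlgebra
  haveI : IsScalarTower (Pol A n) G L₁ := ⟨fun r g x => by
    show e₁ (r • g) * x = r • (e₁ g * x)
    rw [map_smul, smul_mul_assoc]⟩
  haveI : Module.FaithfullyFlat G L₁ := by
    let el : G ≃ₗ[G] L₁ :=
      { e₁.toRingEquiv.toAddEquiv with
        map_smul' := fun r x => by
          show e₁ (r * x) = e₁ r * e₁ x
          exact map_mul e₁ r x }
    exact Module.FaithfullyFlat.of_linearEquiv G G el.symm
  rw [pdLE_tensor_iff (Pol A n) L₁ L₂ M e, pdLE_tensor_iff (Pol A n) G L₁ M e]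
  rfl

/-- The fibre projective dimension is unchanged by base change. -/
theorem pdFib_baseChange_iff {A' : Type u} [CommRing A'] [Algebra A A'] (M : Type u) [AddCommGroup M]
    [Module (Pol A n) M] [Module.Finite (Pol A n) M] (Q' : PrimeSpectrum (Pol A' n))
    (hQ : Q'.asIdeal.comap (algebraMap (Pol A n) (Pol A' n)) = Q.asIdeal) (e : ℕ) :
    PdFib (Pol A' n ⊗[Pol A n] M) Q' e ↔ PdFib M Q e := by
  obtain ⟨Q'', hQ''⟩ := exists_point Q'
  let k := (Q'.asIdeal.comap (algebraMap A' (Pol A' n))).ResidueField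
  haveI : IsScalarTower (Pol A n) (Pol A' n) (Pol k n) := IsScalarTower.of_algebraMap_eq' (by
    rw [algebraMap_def, algebraMap_def, algebraMap_def]
    refine RingHom.ext fun x => ?_
    rw [RingHom.comp_apply, MvPolynomial.map_map, ← IsScalarTower.algebraMap_eq])
  rw [pdFib_iff_field Q' (Pol A' n ⊗[Pol A n] M) k Q'' hQ'' e,
    pdFib_iff_field Q M k Q'' (by rw [IsScalarTower.algebraMap_eq (Pol A n) (Pol A' n) (Pol k n), ← Ideal.comap_comap, hQ'', hQ]) e,
    ]
  exact GrothLib.Serre.pdLE_congr (AlgebraTensorModule.cancelBaseChange (Pol A n) (Pol A' n)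
      (Localization.AtPrime Q''.asIdeal) (Localization.AtPrime Q''.asIdeal) M) e

end GrothLib.FibPd
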