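import Groth.Prelude.Def_Flat
import Groth.Agent.Lib.FibPd.Fibre
import Groth.Agent.Lib.AusBuch.Basic
import Groth.Agent.Lib.Serre.Regular
import Groth.Agent.Lib.AffDom.LocalDim
import Groth.Agent.Lib.Depth.CM
import Groth.Agent.Lib.CMFree.FiniteFlat
import Mathlib.RingTheory.LocalRing.ResidueField.Fiber

/-!
# Depth and support dimension on the fibres of a polynomial ring
-/

set_option autoImplicit false
set_option linter.style.haveILetI false
universe u

open TensorProduct Function IsLocalRing MvPolynomial CategoryTheory AlgebraicGeometry Topology TopologicalSpace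

namespace GrothLib.FibPd

attribute [local instance] MvPolynomial.algebraMvPolynomial

/-- The local dimension at `x` of the trace of `C` on the fibre of `f` through `x`. -/
noncomputable def fibDimIn {X S : Type*} [TopologicalSpace X] (f : X → S) (C : Set X) (x : X) : WithBot ℕ∞ :=
  ⨅ U : {U : Opens X // x ∈ U}, topologicalKrullDim ↥((U.1 : Set X) ∩ (C ∩ f ⁻¹' {f x}))

theorem fibDimIn_eq_localDim {X S Z : Type*} [TopologicalSpace X] [TopologicalSpace Z] (f : X → S) (C : Set X)
    {g : Z → X} (hg : IsEmbedding g) (z : Z) (hr : Set.range g = C ∩ f ⁻¹' {f (g z)}) :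
    fibDimIn f C (g z) = FlatMor.localDim Z z := by
  have key : ∀ U : Opens X, topologicalKrullDim ↥((U : Set X) ∩ (C ∩ f ⁻¹' {f (g z)})) =
      topologicalKrullDim ↥(g ⁻¹' (U : Set X)) := by
    intro U
    rw [← hr]
    refine (GrothLib.Dim.IsEmbedding.topologicalKrullDim_eq
      (f := fun w : g ⁻¹' (U : Set X) => g w.1) (hg.comp IsEmbedding.subtypeVal) ?_).symm
    ext x
    constructor
    · rintro ⟨⟨w, hw⟩, rfl⟩
      exact ⟨hw, w, rfl⟩
    · rintro ⟨hx, w, rfl⟩
      exact ⟨⟨w, hx⟩, rfl⟩
  refine le_antisymm (le_iInf fun V => ?_) (le_iInf fun U => ?_)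
  · obtain ⟨O, hO, hOV⟩ := hg.isInducing.isOpen_iff.mp V.1.2
    refine iInf_le_of_le ⟨⟨O, hO⟩, show g z ∈ O from hOV.symm.subset V.2⟩ ?_
    rw [key]
    show topologicalKrullDim ↥(g ⁻¹' O) ≤ _
    rw [hOV]
    exact le_rfl
  · rw [key]
    exact iInf_le (fun V : {V : Opens Z // z ∈ V} => topologicalKrullDim ↥(V.1 : Set Z))
      ⟨⟨g ⁻¹' (U.1 : Set X), U.1.2.preimage hg.continuous⟩, U.2⟩

theorem topologicalKrullDim_closure_inter {X Z : Type*} [TopologicalSpace X] [TopologicalSpace Z] {g : Z → X}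
    (hg : IsEmbedding g) (z : Z) :
    topologicalKrullDim ↥(closure ({z} : Set Z)) = topologicalKrullDim ↥(closure ({g z} : Set X) ∩ Set.range g) := by
  refine GrothLib.Dim.IsEmbedding.topologicalKrullDim_eq
    (f := fun w : closure ({z} : Set Z) => g w.1) (hg.comp IsEmbedding.subtypeVal) ?_
  rw [Set.range_comp' g, Subtype.range_coe_subtype, Set.setOf_mem_eq, hg.closure_eq_preimage_closure_image,
    Set.image_singleton, Set.image_preimage_eq_inter_range]

/-- Depth and projective dimension in a regular local ring. -/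
theorem exists_depth_pd {R : Type u} [CommRing R] [IsRegularLocalRing R] (N : Type u) [AddCommGroup N] [Module R N]
    [Module.Finite R N] [Nontrivial N] :
    ∃ d e : ℕ, ringKrullDim R = ((d + e : ℕ) : WithBot ℕ∞) ∧ LocCoh.depth R N = d ∧
      ∀ e', GrothLib.Serre.PdLE R N e' ↔ e ≤ e' := by
  classical
  haveI : LocCoh.IsCohenMacaulayLocalRing R := by
    obtain ⟨rs, h1, h2, h3⟩ := GrothLib.CMFree.exists_weaklyRegular_of_isRegularLocalRing R
    exact GrothLib.CMFree.isCohenMacaulayLocalRing_of_weaklyRegular R rs h1 h2 h3.ge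
  obtain ⟨D, hD⟩ : ∃ D : ℕ, ringKrullDim R = D := ⟨_, IsRegularLocalRing.spanFinrank_maximalIdeal.symm⟩
  have hex : ∃ e, GrothLib.Serre.PdLE R N e := ⟨D, GrothLib.Serre.pdLE_of_isRegularLocalRing R D hD _⟩
  have hnlt : ¬ HasProjectiveDimensionLT (ModuleCat.of R N) (Nat.find hex) := by
    intro h
    rcases Nat.eq_zero_or_pos (Nat.find hex) with h0 | h0
    · rw [h0, hasProjectiveDimensionLT_zero_iff_isZero] at h
      exact not_subsingleton N (ModuleCat.subsingleton_of_isZero h)
    · refine Nat.find_min hex (Nat.sub_lt h0 one_pos) ?_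
      show HasProjectiveDimensionLT _ (Nat.find hex - 1 + 1)
      rwa [Nat.sub_add_cancel (Nat.one_le_iff_ne_zero.2 h0.ne')]
  obtain ⟨d, hd, hde⟩ := GrothLib.AusBuch.exists_isDepth_of_pd R (Nat.find hex) N (Nat.find_spec hex) hnlt
  obtain ⟨d', hd', hd''⟩ := GrothLib.AusBuch.isDepth_exists R (M := N)
  obtain ⟨r, hr, hr'⟩ := GrothLib.AusBuch.isDepth_exists R (M := R)
  have h1 := LocCoh.IsCohenMacaulayLocalRing.supportDim_eq_depth (R := R)
  rw [Module.supportDim_self_eq_ringKrullDim, hr, hr'.unique R hde] at h1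
  refine ⟨d, Nat.find hex, h1.trans rfl, ?_, fun e' => ⟨fun he => Nat.find_min' hex he,
    fun he => GrothLib.Serre.pdLE_mono he (Nat.find_spec hex)⟩⟩
  rw [hd', hd''.unique R hd]

/-- The support of a base change. -/
theorem mem_support_baseChange_iff {P G : Type u} [CommRing P] [CommRing G] [Algebra P G] (M : Type u)
    [AddCommGroup M] [Module P M] [Module.Finite P M] (q : PrimeSpectrum G) :
    q ∈ Module.support G (G ⊗[P] M) ↔ PrimeSpectrum.comap (algebraMap P G) q ∈ Module.support P M := by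
  rw [Module.mem_support_iff_nontrivial_residueField_tensorProduct,
    Module.mem_support_iff_nontrivial_residueField_tensorProduct]
  let r := PrimeSpectrum.comap (algebraMap P G) q
  let θ : r.asIdeal.ResidueField →ₐ[P] q.asIdeal.ResidueField :=
    Ideal.ResidueField.mapₐ r.asIdeal q.asIdeal (Algebra.ofId P G) rfl
  letI : Algebra r.asIdeal.ResidueField q.asIdeal.ResidueField := θ.toRingHom.toAlgebra
  haveI : IsScalarTower P r.asIdeal.ResidueField q.asIdeal.ResidueField :=
    IsScalarTower.of_algebraMap_eq fun x => (θ.commutes x).symm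
  let e₁ := AlgebraTensorModule.cancelBaseChange P G G q.asIdeal.ResidueField M
  let e₂ := AlgebraTensorModule.cancelBaseChange P r.asIdeal.ResidueField r.asIdeal.ResidueField
    q.asIdeal.ResidueField M
  rw [e₁.toEquiv.nontrivial_congr, ← e₂.toEquiv.nontrivial_congr]
  rw [← not_subsingleton_iff_nontrivial, ← not_subsingleton_iff_nontrivial, not_iff_not]
  refine ⟨fun h => ?_, fun h => inferInstance⟩
  exact Module.FaithfullyFlat.lTensor_reflects_triviality (R := r.asIdeal.ResidueField)
    (M := q.asIdeal.ResidueField) (r.asIdeal.ResidueField ⊗[P] M)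

variable {A : Type u} [CommRing A] {n : ℕ} (Q : PrimeSpectrum (Pol A n))

/-- The fibre of the polynomial ring as a spectrum. -/
theorem isEmbedding_comap_fibre (p : PrimeSpectrum A) :
    IsEmbedding (PrimeSpectrum.comap (algebraMap (Pol A n) (Pol p.asIdeal.ResidueField n))) ∧
      Set.range (PrimeSpectrum.comap (algebraMap (Pol A n) (Pol p.asIdeal.ResidueField n))) =
        PrimeSpectrum.comap (algebraMap A (Pol A n)) ⁻¹' {p} := by
  let T := p.asIdeal.Fiber (Pol A n)
  let e : T ≃ₐ[p.asIdeal.ResidueField] Pol p.asIdeal.ResidueField n :=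
    MvPolynomial.algebraTensorAlgEquiv A p.asIdeal.ResidueField
  let h₁ := PrimeSpectrum.homeomorphOfRingEquiv e.toRingEquiv
  let h₂ := (PrimeSpectrum.preimageHomeomorphFiber A (Pol A n) p).symm
  have hfun : PrimeSpectrum.comap (algebraMap (Pol A n) (Pol p.asIdeal.ResidueField n)) =
      fun q => (h₂ (h₁.symm q)).1 := by
    funext q
    refine PrimeSpectrum.ext (Ideal.ext fun x => ?_)
    have hx : e ((1 : p.asIdeal.ResidueField) ⊗ₜ[A] x) = algebraMap (Pol A n) (Pol p.asIdeal.ResidueField n) x := by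
      exact (MvPolynomial.algebraTensorAlgEquiv_tmul A p.asIdeal.ResidueField 1 x).trans (one_smul _ _)
    show algebraMap (Pol A n) (Pol p.asIdeal.ResidueField n) x ∈ q.asIdeal ↔ _
    rw [← hx]
    rfl
  rw [hfun]
  refine ⟨IsEmbedding.subtypeVal.comp (h₂.isEmbedding.comp h₁.symm.isEmbedding), ?_⟩
  rw [Set.range_comp' Subtype.val, Set.range_comp' h₂, h₁.symm.surjective.range_eq, Set.image_univ,
    h₂.surjective.range_eq, Set.image_univ, Subtype.range_coe]

/-- The dimension of the closure of `Q` inside its fibre. -/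
noncomputable def ptDimFib : WithBot ℕ∞ :=
  topologicalKrullDim ↥(closure ({Q} : Set (PrimeSpectrum (Pol A n))) ∩
    PrimeSpectrum.comap (algebraMap A (Pol A n)) ⁻¹' {PrimeSpectrum.comap (algebraMap A (Pol A n)) Q})

/-- Everything about the fibre of the module at `Q`. -/
theorem fibre_data (M : Type u) [AddCommGroup M] [Module (Pol A n) M] [Module.Finite (Pol A n) M] :
    haveI := GrothLib.FlatOff.isLocalRing_fibLocRing (A := A) Q.asIdeal
    ∃ t D : ℕ, ptDimFib Q = t ∧ ringKrullDim (EGA4.FibLocRing A (Pol A n) Q.asIdeal) = D ∧ D + t = n ∧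
      Module.supportDim (EGA4.FibLocRing A (Pol A n) Q.asIdeal)
          (EGA4.FibLocRing A (Pol A n) Q.asIdeal ⊗[Pol A n] M) + t =
        fibDimIn (PrimeSpectrum.comap (algebraMap A (Pol A n))) (Module.support (Pol A n) M) Q := by
  haveI := GrothLib.FlatOff.isLocalRing_fibLocRing (A := A) Q.asIdeal
  let p := PrimeSpectrum.comap (algebraMap A (Pol A n)) Q
  let k := p.asIdeal.ResidueField
  obtain ⟨Q', hQ⟩ : ∃ Q' : PrimeSpectrum (Pol k n),
      Q'.asIdeal.comap (algebraMap (Pol A n) (Pol k n)) = Q.asIdeal := exists_point Q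
  obtain ⟨e⟩ : Nonempty (EGA4.FibLocRing A (Pol A n) Q.asIdeal ≃ₐ[Pol A n] Localization.AtPrime Q'.asIdeal) :=
    nonempty_fibEquiv Q Q' hQ
  obtain ⟨hemb, hrange⟩ := isEmbedding_comap_fibre (n := n) p
  have hQ' : PrimeSpectrum.comap (algebraMap (Pol A n) (Pol k n)) Q' = Q := PrimeSpectrum.ext hQ
  -- dimensions in the fibre
  obtain ⟨t, ht, ht'⟩ := GrothLib.Dim.exists_nat_trdeg_eq_and_ringKrullDim_eq k (Pol k n ⧸ Q'.asIdeal)
  obtain ⟨D, hD⟩ := ENat.ne_top_iff_exists.1 (Ideal.height_ne_top (I := Q'.asIdeal) Ideal.IsPrime.ne_top')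
  have hclosure : topologicalKrullDim ↥(closure ({Q'} : Set (PrimeSpectrum (Pol k n)))) = t := by
    rw [← ht', PrimeSpectrum.closure_singleton, ← PrimeSpectrum.topologicalKrullDim_eq_ringKrullDim]
    refine (GrothLib.Dim.IsEmbedding.topologicalKrullDim_eq
      (PrimeSpectrum.isEmbedding_comap_of_surjective _ _ Ideal.Quotient.mk_surjective) ?_).symm
    rw [range_comap_of_surjective _ _ Ideal.Quotient.mk_surjective, Ideal.mk_ker]
  have hGdim : ringKrullDim (EGA4.FibLocRing A (Pol A n) Q.asIdeal) = (D : ℕ) := by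
    rw [ringKrullDim_eq_of_ringEquiv e.toRingEquiv, IsLocalization.AtPrime.ringKrullDim_eq_height Q'.asIdeal, ← hD]
    rfl
  refine ⟨t, D, ?_, hGdim, ?_, ?_⟩
  · rw [ptDimFib, ← hclosure, topologicalKrullDim_closure_inter hemb, hrange, hQ']
  · have h := GrothLib.AffDom.height_add_ringKrullDim_quotient (k := k) (Pol k n) Q'.asIdeal
    rw [← hD, ht', MvPolynomial.ringKrullDim_of_isNoetherianRing, ringKrullDim_eq_zero_of_field, zero_add,
      Nat.card_fin] at h
    exact_mod_cast h
  -- the support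
  let J := (Module.annihilator (Pol A n) M).map (algebraMap (Pol A n) (Pol k n))
  let R := Pol k n ⧸ J
  let L := Localization.AtPrime Q'.asIdeal
  let G := EGA4.FibLocRing A (Pol A n) Q.asIdeal
  have hsuppM : Module.support (Pol A n) M = PrimeSpectrum.zeroLocus (Module.annihilator (Pol A n) M : Set (Pol A n)) :=
    Module.support_eq_zeroLocus
  have hrangeR : Set.range (fun w : PrimeSpectrum R => PrimeSpectrum.comap (algebraMap (Pol A n) (Pol k n))
      (PrimeSpectrum.comap (Ideal.Quotient.mk J) w)) =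
      Module.support (Pol A n) M ∩ PrimeSpectrum.comap (algebraMap A (Pol A n)) ⁻¹' {p} := by
    rw [Set.range_comp', range_comap_of_surjective _ _ Ideal.Quotient.mk_surjective, Ideal.mk_ker,
      show PrimeSpectrum.zeroLocus (J : Set (Pol k n)) = PrimeSpectrum.zeroLocus (algebraMap (Pol A n) (Pol k n) ''
        (Module.annihilator (Pol A n) M : Set (Pol A n))) from PrimeSpectrum.zeroLocus_span _,
      ← PrimeSpectrum.preimage_comap_zeroLocus, Set.image_preimage_eq_inter_range, hrange, hsuppM]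
  -- the support dimension as a Krull dimension
  have hsd : Module.supportDim G (G ⊗[Pol A n] M) = ringKrullDim (L ⧸ J.map (algebraMap (Pol k n) L)) := by
    rw [ringKrullDim_quotient]
    unfold Module.supportDim
    have key : ∀ q : PrimeSpectrum G, q ∈ Module.support G (G ⊗[Pol A n] M) ↔
        PrimeSpectrum.comap e.symm.toRingEquiv.toRingHom q ∈
          PrimeSpectrum.zeroLocus (J.map (algebraMap (Pol k n) L) : Set L) := fun q => by
      rw [mem_support_baseChange_iff, hsuppM, PrimeSpectrum.mem_zeroLocus, PrimeSpectrum.mem_zeroLocus,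
        SetLike.coe_subset_coe, SetLike.coe_subset_coe, Ideal.map_map, ← IsScalarTower.algebraMap_eq,
        Ideal.map_le_iff_le_comap]
      refine iff_of_eq (congrArg _ ?_)
      ext x
      show algebraMap (Pol A n) G x ∈ q.asIdeal ↔ e.symm (algebraMap (Pol A n) L x) ∈ q.asIdeal
      rw [e.symm.commutes]
    let o := PrimeSpectrum.comapEquiv e.toRingEquiv
    refine Order.krullDim_eq_of_orderIso
      { o.toEquiv.subtypeEquiv (fun q => key q) with map_rel_iff' := fun {a b} => o.map_rel_iff (a := a.1) (b := b.1) }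
  rw [hsd]
  by_cases hmem : J ≤ Q'.asIdeal
  · let Qb : PrimeSpectrum R := ⟨Q'.asIdeal.map (Ideal.Quotient.mk J),
      Ideal.map_isPrime_of_surjective Ideal.Quotient.mk_surjective (by rwa [Ideal.mk_ker])⟩
    have hQb : PrimeSpectrum.comap (Ideal.Quotient.mk J) Qb = Q' := PrimeSpectrum.ext (by
      show (Q'.asIdeal.map _).comap _ = _
      rw [Ideal.comap_map_of_surjective _ Ideal.Quotient.mk_surjective, ← RingHom.ker_eq_comap_bot, Ideal.mk_ker,
        sup_eq_left.2 hmem])
    let g := fun w : PrimeSpectrum R => PrimeSpectrum.comap (algebraMap (Pol A n) (Pol k n))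
      (PrimeSpectrum.comap (Ideal.Quotient.mk J) w)
    have hg : IsEmbedding g :=
      hemb.comp (PrimeSpectrum.isEmbedding_comap_of_surjective _ _ Ideal.Quotient.mk_surjective)
    have hgz : g Qb = Q := (congrArg _ hQb).trans hQ'
    rw [← hgz, fibDimIn_eq_localDim _ _ hg Qb (by rw [hgz]; exact hrangeR)]
    let f₀ : Spec (CommRingCat.of R) ⟶ Spec (CommRingCat.of k) := Spec.map (CommRingCat.ofHom (algebraMap k R))
    haveI : LocallyOfFiniteType f₀ :=
      (HasRingHomProperty.Spec_iff (P := @LocallyOfFiniteType)).mpr (RingHom.finiteType_algebraMap.mpr inferInstance)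
    have hl := GrothLib.AffDom.localDim_eq f₀ (Qb : (Spec (CommRingCat.of R) : Scheme.{u}))
    have hpt : GrothLib.AffDom.ptDim (X := Spec (CommRingCat.of R)) Qb = t := by
      refine (topologicalKrullDim_closure_inter
        (PrimeSpectrum.isEmbedding_comap_of_surjective _ _ Ideal.Quotient.mk_surjective) Qb).trans ?_
      rw [hQb, ← hclosure, range_comap_of_surjective _ _ Ideal.Quotient.mk_surjective, Ideal.mk_ker,
        Set.inter_eq_left.mpr]
      exact closure_minimal (Set.singleton_subset_iff.mpr hmem) (PrimeSpectrum.isClosed_zeroLocus _)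
    have hst : ringKrullDim ((Spec (CommRingCat.of R)).presheaf.stalk Qb) =
        ringKrullDim (L ⧸ J.map (algebraMap (Pol k n) L)) := by
      haveI := Qb.isPrime
      haveI : Qb.asIdeal.LiesOver Q'.asIdeal := ⟨(congrArg PrimeSpectrum.asIdeal hQb).symm⟩
      have hsub := Ideal.algebraMapSubmonoid_primeCompl_of_liesOver_surjective Qb.asIdeal Q'.asIdeal
        (Ideal.Quotient.mk_surjective (I := J))
      haveI : IsLocalization Qb.asIdeal.primeCompl (L ⧸ J.map (algebraMap (Pol k n) L)) := by
        rw [← hsub]; infer_instance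
      haveI : IsLocalization Qb.asIdeal.primeCompl ((Spec.structureSheaf R).presheaf.stalk Qb) :=
        AlgebraicGeometry.StructureSheaf.IsLocalization.to_stalk (R := R) Qb
      exact ringKrullDim_eq_of_ringEquiv (IsLocalization.algEquiv Qb.asIdeal.primeCompl
        ((Spec.structureSheaf R).presheaf.stalk Qb) (L ⧸ J.map (algebraMap (Pol k n) L))).toRingEquiv
    rw [hpt, hst] at hl
    rw [add_comm]
    exact hl.symm
  · have h1 : Subsingleton (L ⧸ J.map (algebraMap (Pol k n) L)) := by
      rw [Ideal.Quotient.subsingleton_iff]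
      obtain ⟨x, hxJ, hxQ⟩ := SetLike.not_le_iff_exists.mp hmem
      exact Ideal.eq_top_of_isUnit_mem _ (Ideal.mem_map_of_mem _ hxJ)
        (IsLocalization.map_units L (⟨x, hxQ⟩ : Q'.asIdeal.primeCompl))
    rw [ringKrullDim_eq_bot_of_subsingleton, WithBot.bot_add]
    have hnot : Q ∉ Module.support (Pol A n) M := by
      rw [hsuppM, PrimeSpectrum.mem_zeroLocus, SetLike.coe_subset_coe]
      intro h
      exact hmem (Ideal.map_le_iff_le_comap.2 (hQ.symm ▸ h))
    let O : Opens (PrimeSpectrum (Pol A n)) :=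
      ⟨(Module.support (Pol A n) M)ᶜ, by rw [hsuppM]; exact (PrimeSpectrum.isClosed_zeroLocus _).isOpen_compl⟩
    refine (le_bot_iff.mp (iInf_le_of_le ⟨O, hnot⟩ ?_)).symm
    haveI : IsEmpty ↥((O : Set (PrimeSpectrum (Pol A n))) ∩ (Module.support (Pol A n) M ∩
        PrimeSpectrum.comap (algebraMap A (Pol A n)) ⁻¹' {PrimeSpectrum.comap (algebraMap A (Pol A n)) Q})) :=
      ⟨fun x => x.2.1 x.2.2.1⟩
    exact le_of_eq (Order.krullDim_eq_bot_iff.mpr ⟨fun Z => IsEmpty.false Z.isIrreducible.nonempty.some⟩)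

end GrothLib.FibPd
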