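import Groth.Agent.Lib.FibPd.FibInv
import Groth.Agent.Lib.GenFree.Presentation
import Groth.Agent.Lib.FlatModel.Descent
import Groth.Agent.Lib.NoethTop.Constructible
import Groth.Agent.Lib.GenFree.Generic
import Mathlib.RingTheory.Spectrum.Prime.Chevalley
import Mathlib.AlgebraicGeometry.Morphisms.FinitePresentation

/-!
# Constructibility of fibre depth loci
-/

set_option autoImplicit false
set_option linter.style.haveILetI false
universe u

open TensorProduct Function IsLocalRing MvPolynomial Topology TopologicalSpace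

namespace GrothLib.FibPd

attribute [local instance] MvPolynomial.algebraMvPolynomial

/-- Points above a point of the smaller base lift to the larger one. -/
theorem exists_lift {A A' : Type u} [CommRing A] [CommRing A'] [Algebra A A'] {n : ℕ} (Q : PrimeSpectrum (Pol A n))
    (θ : A' →+* (Q.asIdeal.comap (algebraMap A (Pol A n))).ResidueField)
    (hθ : θ.comp (algebraMap A A') = algebraMap A _) :
    ∃ Q' : PrimeSpectrum (Pol A' n), Q'.asIdeal.comap (algebraMap (Pol A n) (Pol A' n)) = Q.asIdeal := by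
  obtain ⟨Q', hQ'⟩ := exists_point Q
  refine ⟨⟨Q'.asIdeal.comap (MvPolynomial.map θ), inferInstance⟩, ?_⟩
  rw [Ideal.comap_comap]
  refine Eq.trans (congrArg (fun φ => Q'.asIdeal.comap φ) ?_) hQ'
  refine RingHom.ext fun x => ?_
  rw [RingHom.comp_apply, algebraMap_def, algebraMap_def, MvPolynomial.map_map, hθ]

variable {A : Type u} [CommRing A] {n : ℕ}

theorem isConstructible_comap_preimage {R S : Type u} [CommRing R] [CommRing S] (φ : R →+* S)
    {s : Set (PrimeSpectrum R)} (hs : IsConstructible s) : IsConstructible (PrimeSpectrum.comap φ ⁻¹' s) :=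
  AlgebraicGeometry.Scheme.Hom.isConstructible_preimage (AlgebraicGeometry.Spec.map (CommRingCat.ofHom φ)) hs

theorem isConstructible_of_noetherian {X : Type u} [TopologicalSpace X] [NoetherianSpace X] {U : Set X} (hU : IsOpen U) :
    IsConstructible U :=
  IsRetrocompact.isConstructible hU (fun V _ _ => NoetherianSpace.isCompact _)

/-- Over a Noetherian ring the fibre projective dimension loci are constructible. -/
theorem isConstructible_pdFib_noetherian [IsNoetherianRing A] (M : Type u) [AddCommGroup M] [Module (Pol A n) M]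
    [Module.Finite (Pol A n) M] (e : ℕ) : IsConstructible {Q : PrimeSpectrum (Pol A n) | PdFib M Q e} := by
  let π := PrimeSpectrum.comap (algebraMap A (Pol A n))
  suffices H : ∀ T : Set (PrimeSpectrum A), IsClosed T →
      IsConstructible ({Q : PrimeSpectrum (Pol A n) | PdFib M Q e} ∩ π ⁻¹' T) by
    simpa using H Set.univ isClosed_univ
  intro T hT
  refine GrothLib.NoethTop.closed_induction ?_ (fun Z₁ Z₂ _ _ h₁ h₂ => ?_) (fun Z hZ hi ih => ?_) hT
  · simp [IsConstructible.empty]
  · rw [Set.preimage_union, Set.inter_union_distrib_left]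
    exact h₁.union h₂
  obtain ⟨p, hp, rfl⟩ : ∃ p : Ideal A, p.IsPrime ∧ PrimeSpectrum.zeroLocus (p : Set A) = Z :=
    ⟨PrimeSpectrum.vanishingIdeal Z, PrimeSpectrum.isIrreducible_iff_vanishingIdeal_isPrime.mp hi,
      (PrimeSpectrum.zeroLocus_vanishingIdeal_eq_closure Z).trans hZ.closure_eq⟩
  let A₁ := A ⧸ p
  let M₁ := Pol A₁ n ⊗[Pol A n] M
  obtain ⟨g, -, hg0, hfree⟩ := GrothLib.GenFree.gf_of_finiteType (R := A₁) (Pol A₁ n) M₁ 1 one_ne_zero
  obtain ⟨a, rfl⟩ := Ideal.Quotient.mk_surjective g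
  let A₂ := Localization.Away (Ideal.Quotient.mk p a : A₁)
  haveI : Module.Free A₂ (A₂ ⊗[A₁] M₁) := hfree.free_tensor A₂
  haveI : Module.Flat A₂ (A₂ ⊗[A₁] M₁) := inferInstance
  let M₂ := Pol A₂ n ⊗[Pol A₁ n] M₁
  haveI : Module.Flat A₂ M₂ := by
    let E := Algebra.IsPushout.cancelBaseChange A₁ A₂ (Pol A₁ n) (Pol A₂ n) M₁
    refine Module.Flat.of_linearEquiv (M := A₂ ⊗[A₁] M₁) ?_
    exact
      { E.toAddEquiv with
        map_smul' := fun c x => by
          show E (c • x) = c • E x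
          rw [← E.map_smul] }
  haveI : IsNoetherianRing A₂ := IsLocalization.isNoetherianRing (Submonoid.powers (Ideal.Quotient.mk p a : A₁)) _ inferInstance
  haveI : IsNoetherianRing A₁ := inferInstance
  haveI : Module.FinitePresentation (Pol A₂ n) M₂ := Module.finitePresentation_of_finite _ _
  haveI : IsScalarTower A A₁ A₂ := inferInstance
  haveI : IsScalarTower (Pol A n) (Pol A₁ n) (Pol A₂ n) := IsScalarTower.of_algebraMap_eq' (by
    rw [algebraMap_def, algebraMap_def, algebraMap_def]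
    refine RingHom.ext fun x => ?_
    rw [RingHom.comp_apply, MvPolynomial.map_map, ← IsScalarTower.algebraMap_eq])
  let j := PrimeSpectrum.comap (algebraMap (Pol A n) (Pol A₂ n))
  -- the trace on the open piece
  have himg : {Q : PrimeSpectrum (Pol A n) | PdFib M Q e} ∩
      π ⁻¹' (PrimeSpectrum.zeroLocus (p : Set A) ∩ PrimeSpectrum.basicOpen a) =
      j '' {Q₂ : PrimeSpectrum (Pol A₂ n) | PdFib M₂ Q₂ e} := by
    have hinv : ∀ Q₂ : PrimeSpectrum (Pol A₂ n), PdFib M₂ Q₂ e ↔ PdFib M (j Q₂) e := fun Q₂ => by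
      let Q₁ : PrimeSpectrum (Pol A₁ n) := PrimeSpectrum.comap (algebraMap (Pol A₁ n) (Pol A₂ n)) Q₂
      have hj : Q₁.asIdeal.comap (algebraMap (Pol A n) (Pol A₁ n)) = (j Q₂).asIdeal := by
        show (Q₂.asIdeal.comap _).comap _ = Q₂.asIdeal.comap _
        rw [Ideal.comap_comap, ← IsScalarTower.algebraMap_eq]
      exact (pdFib_baseChange_iff Q₁ M₁ Q₂ rfl e).trans (pdFib_baseChange_iff (j Q₂) M Q₁ hj e)
    have hbase : ∀ Q₂, π (j Q₂) = PrimeSpectrum.comap (algebraMap A A₂) (PrimeSpectrum.comap (algebraMap A₂ (Pol A₂ n)) Q₂) := by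
      intro Q₂
      refine PrimeSpectrum.ext ?_
      show (Q₂.asIdeal.comap _).comap _ = (Q₂.asIdeal.comap _).comap _
      rw [Ideal.comap_comap, Ideal.comap_comap]
      congr 1
      refine RingHom.ext fun x => ?_
      rw [RingHom.comp_apply, RingHom.comp_apply, MvPolynomial.algebraMap_eq, MvPolynomial.algebraMap_eq, algebraMap_def,
        MvPolynomial.map_C]
    ext Q
    constructor
    · rintro ⟨hQ, hQp, hQa⟩
      let p' := Q.asIdeal.comap (algebraMap A (Pol A n))
      let κ := p'.ResidueField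
      have hker : ∀ x ∈ p, algebraMap A κ x = 0 := fun x hx => by
        rw [← RingHom.mem_ker, Ideal.ker_algebraMap_residueField]
        exact hQp hx
      let θ₁ : A₁ →+* κ := Ideal.Quotient.lift p (algebraMap A κ) hker
      have hu : IsUnit (θ₁ (Ideal.Quotient.mk p a)) := by
        refine Ne.isUnit fun h => hQa ?_
        rw [Ideal.Quotient.lift_mk, ← RingHom.mem_ker, Ideal.ker_algebraMap_residueField] at h
        exact h
      obtain ⟨Q₂, hQ₂⟩ := exists_lift (A' := A₂) Q (IsLocalization.Away.lift _ hu) (RingHom.ext fun x => by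
        rw [RingHom.comp_apply, IsScalarTower.algebraMap_apply A A₁ A₂, IsLocalization.Away.lift_eq]
        rfl)
      obtain rfl : j Q₂ = Q := PrimeSpectrum.ext hQ₂
      exact ⟨Q₂, (hinv Q₂).2 hQ, rfl⟩
    · rintro ⟨Q₂, hQ₂, rfl⟩
      refine ⟨(hinv Q₂).1 hQ₂, ?_, ?_⟩
      · show π (j Q₂) ∈ PrimeSpectrum.zeroLocus _
        rw [PrimeSpectrum.mem_zeroLocus]
        intro x hx
        rw [hbase, SetLike.mem_coe, PrimeSpectrum.comap_asIdeal, Ideal.mem_comap,
          IsScalarTower.algebraMap_apply A A₁ A₂, Ideal.Quotient.algebraMap_eq, Ideal.Quotient.eq_zero_iff_mem.mpr hx,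
          map_zero]
        exact Submodule.zero_mem _
      · show a ∉ _
        rw [hbase, PrimeSpectrum.comap_asIdeal, Ideal.mem_comap, IsScalarTower.algebraMap_apply A A₁ A₂,
          Ideal.Quotient.algebraMap_eq]
        exact fun h => (PrimeSpectrum.comap (algebraMap A₂ (Pol A₂ n)) Q₂).isPrime.ne_top
          (Ideal.eq_top_of_isUnit_mem _ h (IsLocalization.Away.algebraMap_isUnit _))
  have hfp : (algebraMap (Pol A n) (Pol A₂ n)).FinitePresentation := by
    haveI : Algebra.FiniteType A A₂ := Algebra.FiniteType.trans (S := A₁) inferInstance inferInstance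
    haveI : Algebra.FiniteType (Pol A n) (Pol A₂ n) := by
      haveI : Algebra.IsPushout A A₂ (Pol A n) (Pol A₂ n) := inferInstance
      haveI := ‹Algebra.IsPushout A A₂ (Pol A n) (Pol A₂ n)›.symm
      exact Algebra.FiniteType.equiv (inferInstance : Algebra.FiniteType (Pol A n) (Pol A n ⊗[A] A₂))
        (Algebra.IsPushout.equiv A (Pol A n) A₂ (Pol A₂ n))
    exact RingHom.finitePresentation_algebraMap.mpr (Algebra.FinitePresentation.of_finiteType.mp inferInstance)
  have hc : IsConstructible ({Q : PrimeSpectrum (Pol A n) | PdFib M Q e} ∩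
      π ⁻¹' (PrimeSpectrum.zeroLocus (p : Set A) ∩ PrimeSpectrum.basicOpen a)) := by
    rw [himg]
    exact PrimeSpectrum.isConstructible_comap_image hfp (isConstructible_of_noetherian (isOpen_pdFib M₂ e))
  have hne : ((PrimeSpectrum.basicOpen a : Set (PrimeSpectrum A)) ∩ PrimeSpectrum.zeroLocus (p : Set A)).Nonempty :=
    ⟨⟨p, hp⟩, fun h => hg0 (Ideal.Quotient.eq_zero_iff_mem.mpr h), (PrimeSpectrum.mem_zeroLocus _ _).mpr Set.Subset.rfl⟩
  have hdec : {Q : PrimeSpectrum (Pol A n) | PdFib M Q e} ∩ π ⁻¹' PrimeSpectrum.zeroLocus (p : Set A) =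
      ({Q : PrimeSpectrum (Pol A n) | PdFib M Q e} ∩
        π ⁻¹' (PrimeSpectrum.zeroLocus (p : Set A) ∩ PrimeSpectrum.basicOpen a)) ∪
      ({Q : PrimeSpectrum (Pol A n) | PdFib M Q e} ∩
        π ⁻¹' (PrimeSpectrum.zeroLocus (p : Set A) \ PrimeSpectrum.basicOpen a)) := by
    rw [← Set.inter_union_distrib_left, ← Set.preimage_union, Set.inter_union_sdiff]
  rw [hdec]
  exact hc.union (ih _ (hZ.sdiff (PrimeSpectrum.basicOpen a).2) (GrothLib.NoethTop.sdiff_ssubset hne))

variable (M : Type u) [AddCommGroup M] [Module (Pol A n) M] [Module.FinitePresentation (Pol A n) M]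

/-- A finitely presented module comes from a Noetherian base. -/
theorem exists_noetherian_model : ∃ (A₀ : Type u) (_ : CommRing A₀) (_ : Algebra A₀ A) (M₀ : Type u)
    (_ : AddCommGroup M₀) (_ : Module (Pol A₀ n) M₀), IsNoetherianRing A₀ ∧ Module.Finite (Pol A₀ n) M₀ ∧
      Nonempty (Pol A n ⊗[Pol A₀ n] M₀ ≃ₗ[Pol A n] M) := by
  obtain ⟨T, hT⟩ := GrothLib.FlatModel.exists_model' (R := A) (m := n) M (q := 0) Fin.elim0 (fun j => j.elim0)
  let A₀ := Algebra.adjoin ℤ (T : Set A)
  haveI : Algebra.FiniteType ℤ A₀ := ⟨(Subalgebra.fg_top _).mpr ⟨T, rfl⟩⟩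
  obtain ⟨r, N₀, -, he⟩ := hT A₀ fun x hx => ⟨⟨x, Algebra.subset_adjoin hx⟩, rfl⟩
  exact ⟨A₀, inferInstance, inferInstance, _, inferInstance, inferInstance, Algebra.FiniteType.isNoetherianRing ℤ _,
    inferInstance, he⟩

theorem pdFib_congr {N : Type u} [AddCommGroup N] [Module (Pol A n) N] (E : N ≃ₗ[Pol A n] M) (Q : PrimeSpectrum (Pol A n))
    (e : ℕ) : PdFib M Q e ↔ PdFib N Q e :=
  (GrothLib.Serre.pdLE_congr (E.baseChange (Pol A n) (EGA4.FibLocRing A (Pol A n) Q.asIdeal) N M) e).symm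

/-- The fibre projective dimension loci are constructible. -/
theorem isConstructible_pdFib (e : ℕ) : IsConstructible {Q : PrimeSpectrum (Pol A n) | PdFib M Q e} := by
  obtain ⟨A₀, _, _, M₀, _, _, _, _, ⟨E⟩⟩ := exists_noetherian_model (A := A) (n := n) M
  have : {Q : PrimeSpectrum (Pol A n) | PdFib M Q e} =
      PrimeSpectrum.comap (algebraMap (Pol A₀ n) (Pol A n)) ⁻¹' {Q₀ | PdFib M₀ Q₀ e} :=
    Set.ext fun Q => (pdFib_congr M E Q e).trans (pdFib_baseChange_iff _ M₀ Q rfl e)
  rw [this]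
  exact isConstructible_comap_preimage (algebraMap (Pol A₀ n) (Pol A n))
    (isConstructible_pdFib_noetherian M₀ e)

/-- The loci of bounded fibre dimension of the support are constructible. -/
theorem isConstructible_fibDimIn_le (m : ℕ) : IsConstructible {Q : PrimeSpectrum (Pol A n) |
    fibDimIn (PrimeSpectrum.comap (algebraMap A (Pol A n))) (Module.support (Pol A n) M) Q ≤ m} := by
  obtain ⟨A₀, _, _, M₀, _, _, _, _, ⟨E⟩⟩ := exists_noetherian_model (A := A) (n := n) M
  have : {Q : PrimeSpectrum (Pol A n) |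
      fibDimIn (PrimeSpectrum.comap (algebraMap A (Pol A n))) (Module.support (Pol A n) M) Q ≤ m} =
      PrimeSpectrum.comap (algebraMap (Pol A₀ n) (Pol A n)) ⁻¹' {Q₀ |
        fibDimIn (PrimeSpectrum.comap (algebraMap A₀ (Pol A₀ n))) (Module.support (Pol A₀ n) M₀) Q₀ ≤ m} := by
    ext Q
    have h := fibDimIn_baseChange (PrimeSpectrum.comap (algebraMap (Pol A₀ n) (Pol A n)) Q) M₀ Q rfl
    rw [E.support_eq] at h
    rw [Set.mem_setOf_eq, Set.mem_preimage, Set.mem_setOf_eq, h]
  rw [this]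
  refine isConstructible_comap_preimage (algebraMap (Pol A₀ n) (Pol A n)) (isConstructible_of_noetherian ?_)
  rw [Module.support_eq_zeroLocus]
  exact isOpen_fibDimIn_le _ m

theorem isConstructible_support : IsConstructible (Module.support (Pol A n) M) := by
  obtain ⟨A₀, _, _, M₀, _, _, _, _, ⟨E⟩⟩ := exists_noetherian_model (A := A) (n := n) M
  have : Module.support (Pol A n) M =
      PrimeSpectrum.comap (algebraMap (Pol A₀ n) (Pol A n)) ⁻¹' Module.support (Pol A₀ n) M₀ := by
    rw [← E.support_eq]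
    exact Set.ext fun Q => mem_support_baseChange_iff M₀ Q
  rw [this, Module.support_eq_zeroLocus]
  refine isConstructible_comap_preimage (algebraMap (Pol A₀ n) (Pol A n)) ?_
  rw [← isConstructible_compl]
  exact isConstructible_of_noetherian (PrimeSpectrum.isClosed_zeroLocus _).isOpen_compl

theorem isConstructible_codepth_le (k : ℕ) : IsConstructible {Q : PrimeSpectrum (Pol A n) |
    Module.supportDim (EGA4.FibLocRing A (Pol A n) Q.asIdeal) (EGA4.FibLocRing A (Pol A n) Q.asIdeal ⊗[Pol A n] M) ≤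
      ((LocCoh.depth (EGA4.FibLocRing A (Pol A n) Q.asIdeal)
        (EGA4.FibLocRing A (Pol A n) Q.asIdeal ⊗[Pol A n] M) : ℕ∞) : WithBot ℕ∞) + k} := by
  have hset : {Q : PrimeSpectrum (Pol A n) |
      Module.supportDim (EGA4.FibLocRing A (Pol A n) Q.asIdeal) (EGA4.FibLocRing A (Pol A n) Q.asIdeal ⊗[Pol A n] M) ≤
        ((LocCoh.depth (EGA4.FibLocRing A (Pol A n) Q.asIdeal)
          (EGA4.FibLocRing A (Pol A n) Q.asIdeal ⊗[Pol A n] M) : ℕ∞) : WithBot ℕ∞) + k} =
      ⋃ e ∈ Set.Iic (n + k), {Q | PdFib M Q e} ∩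
        {Q | fibDimIn (PrimeSpectrum.comap (algebraMap A (Pol A n))) (Module.support (Pol A n) M) Q ≤
          ((n + k - e : ℕ) : ℕ)} := by
    ext Q
    simp only [Set.mem_setOf_eq, Set.mem_iUnion, Set.mem_inter_iff, Set.mem_Iic, exists_prop]
    rw [codepth_le_iff]
    constructor
    · rintro ⟨e, he, hle⟩
      by_cases hQ : Q ∈ Module.support (Pol A n) M
      · obtain ⟨d, e', t, s, -, -, -, -, -, hf, -⟩ := exists_numbers Q M hQ
        rw [hf] at hle ⊢
        have : s + t + e ≤ n + k := by exact_mod_cast hle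
        exact ⟨e, by omega, he, by exact_mod_cast (show s + t ≤ n + k - e by omega)⟩
      · refine ⟨0, Nat.zero_le _, GrothLib.Serre.pdLE_zero_iff.mpr ?_, ?_⟩
        · haveI : Subsingleton (EGA4.FibLocRing A (Pol A n) Q.asIdeal ⊗[Pol A n] M) :=
            not_nontrivial_iff_subsingleton.mp fun h => hQ ((nontrivial_fibStalk_iff Q M).mp h)
          infer_instance
        · rw [fibDimIn_of_not_mem Q M hQ]; exact bot_le
    · rintro ⟨e, he, hpd, hle⟩
      refine ⟨e, hpd, (add_le_add_left hle _).trans ?_⟩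
      exact_mod_cast (show n + k - e + e ≤ n + k by omega)
  rw [hset]
  exact IsConstructible.biUnion (Set.finite_Iic _) fun e _ =>
    (isConstructible_pdFib M e).inter (isConstructible_fibDimIn_le M _)

theorem isConstructible_le_rectifiedDepth (m : ℕ) : IsConstructible {Q : PrimeSpectrum (Pol A n) |
    (m : WithBot ℕ∞) ≤ ((LocCoh.depth (EGA4.FibLocRing A (Pol A n) Q.asIdeal)
        (EGA4.FibLocRing A (Pol A n) Q.asIdeal ⊗[Pol A n] M) : ℕ∞) : WithBot ℕ∞) + ptDimFib Q} := by
  have hset : {Q : PrimeSpectrum (Pol A n) |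
      (m : WithBot ℕ∞) ≤ ((LocCoh.depth (EGA4.FibLocRing A (Pol A n) Q.asIdeal)
          (EGA4.FibLocRing A (Pol A n) Q.asIdeal ⊗[Pol A n] M) : ℕ∞) : WithBot ℕ∞) + ptDimFib Q} =
      (Module.support (Pol A n) M)ᶜ ∪ ⋃ e ∈ Set.Iic n, {Q | PdFib M Q e ∧ m + e ≤ n} := by
    ext Q
    simp only [Set.mem_setOf_eq, Set.mem_union, Set.mem_compl_iff, Set.mem_iUnion, Set.mem_Iic, exists_prop]
    rw [le_rectifiedDepth_iff]
    exact or_congr Iff.rfl ⟨fun ⟨e, h1, h2⟩ => ⟨e, by omega, h1, h2⟩, fun ⟨e, _, h1, h2⟩ => ⟨e, h1, h2⟩⟩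
  rw [hset]
  refine (isConstructible_support M).compl.union (IsConstructible.biUnion (Set.finite_Iic _) fun e _ => ?_)
  by_cases h : m + e ≤ n
  · simpa [h] using isConstructible_pdFib M e
  · simp [h, IsConstructible.empty]

end GrothLib.FibPd
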