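import Groth.Agent.Lib.FibPd.OpenScheme
import Groth.Agent.Lib.FibPd.Constructible

/-!
# Local constructibility of fibre depth loci
-/

set_option autoImplicit false
set_option linter.style.haveILetI false
universe u

open TensorProduct Function IsLocalRing CategoryTheory AlgebraicGeometry Topology TopologicalSpace

namespace GrothLib.FibPd

variable {X Y : Scheme.{u}} (f : X ⟶ Y)

theorem isLocallyConstructible_compl {Z : Type u} [TopologicalSpace Z] {S : Set Z} (hS : IsLocallyConstructible S) :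
    IsLocallyConstructible Sᶜ := by
  intro x
  obtain ⟨U, hU, hUo, hc⟩ := hS x
  exact ⟨U, hU, hUo, hc.compl⟩

theorem isConstructible_chartPt_preimage {V : Y.Opens} {W : X.Opens} (hW : IsAffineOpen W) {n : ℕ}
    (π : Pol Γ(Y, V) n →+* Γ(X, W)) {C : Set (PrimeSpectrum (Pol Γ(Y, V) n))} (hC : IsConstructible C)
    {S : Set X} (h : ∀ x : W, x.1 ∈ S ↔ chartPt hW π x ∈ C) :
    IsConstructible (Subtype.val ⁻¹' S : Set (W : Set X)) := by
  have hs : (Subtype.val ⁻¹' S : Set (W : Set X)) = (fun x : W => hW.primeIdealOf x) ⁻¹' (PrimeSpectrum.comap π ⁻¹' C) :=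
    Set.ext h
  rw [hs]
  exact IsConstructible.preimage_of_isOpenEmbedding (Scheme.homeoOfIso hW.isoSpec).isOpenEmbedding
    (isConstructible_comap_preimage π hC)

variable [LocallyOfFinitePresentation f]

theorem isLocallyConstructible_rectifiedDepth_eq (F : X.Modules) (hF : CohB1.IsFP F) (m : ℕ∞) :
    IsLocallyConstructible {x : X |
      ((LocCoh.depth ((f.fiber (f.base x)).presheaf.stalk (f.asFiber x)) (((Scheme.Modules.pullback (f.fiberι (f.base x))).obj F).presheaf.stalk (f.asFiber x)) : ℕ∞) : WithBot ℕ∞) +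
          topologicalKrullDim ↥(closure ({f.asFiber x} : Set ↥(f.fiber (f.base x)))) = ((m : ℕ∞) : WithBot ℕ∞)} := by
  haveI := isQuasicoherent_of_isFP hF
  intro x₀
  obtain ⟨V, W, hV, hW, e, hxW⟩ := exists_chart f x₀
  obtain ⟨n, π, hπ, hπfg, hπA⟩ := exists_presentation f hV hW e
  letI : Algebra (Pol Γ(Y, V) n) Γ(X, W) := π.toAlgebra
  letI := polModule π Γ(F, W)
  haveI : IsScalarTower (Pol Γ(Y, V) n) Γ(X, W) Γ(F, W) := IsScalarTower.of_algebraMap_smul fun _ _ => rfl
  haveI : Module.FinitePresentation (Pol Γ(Y, V) n) Γ(X, W) :=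
    Module.finitePresentation_of_surjective (Algebra.linearMap (Pol Γ(Y, V) n) Γ(X, W)) hπ hπfg
  haveI := GrothLib.FlatFP.finitePresentation_sections F hF hW
  haveI : Module.FinitePresentation (Pol Γ(Y, V) n) Γ(F, W) :=
    Module.FinitePresentation.trans (Pol Γ(Y, V) n) Γ(F, W) Γ(X, W)
  refine ⟨(W : Set X), W.2.mem_nhds hxW, W.2, ?_⟩
  let rd : PrimeSpectrum (Pol Γ(Y, V) n) → WithBot ℕ∞ := fun Q =>
    ((LocCoh.depth (EGA4.FibLocRing Γ(Y, V) (Pol Γ(Y, V) n) Q.asIdeal)
      (EGA4.FibLocRing Γ(Y, V) (Pol Γ(Y, V) n) Q.asIdeal ⊗[Pol Γ(Y, V) n] Γ(F, W)) : ℕ∞) : WithBot ℕ∞) + ptDimFib Q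
  have hC : IsConstructible {Q | rd Q = ((m : ℕ∞) : WithBot ℕ∞)} := by
    induction m with
    | top =>
      have hset : {Q | rd Q = ((⊤ : ℕ∞) : WithBot ℕ∞)} = {Q | ((n + 1 : ℕ) : WithBot ℕ∞) ≤ rd Q} := by
        ext Q
        simp only [Set.mem_setOf_eq]
        constructor
        · intro h
          rw [h]
          exact WithBot.coe_le_coe.2 le_top
        · intro h
          by_cases hQ : Q ∈ Module.support (Pol Γ(Y, V) n) Γ(F, W)
          · rcases (le_rectifiedDepth_iff Q Γ(F, W) (n + 1)).1 h with h' | ⟨e, -, h'⟩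
            · exact absurd hQ h'
            · omega
          · haveI : Subsingleton (EGA4.FibLocRing Γ(Y, V) (Pol Γ(Y, V) n) Q.asIdeal ⊗[Pol Γ(Y, V) n] Γ(F, W)) :=
              not_nontrivial_iff_subsingleton.mp fun h => hQ ((nontrivial_fibStalk_iff Q _).mp h)
            obtain ⟨t, -, ht, -⟩ := fibre_data Q Γ(F, W)
            show _ + ptDimFib Q = _
            rw [GrothLib.Depth.depth_eq_top_of_subsingleton, ht]
            exact congrArg WithBot.some (top_add (a := (t : ℕ∞)))
      rw [hset]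
      exact isConstructible_le_rectifiedDepth Γ(F, W) (n + 1)
    | coe k =>
      have hset : {Q | rd Q = ((k : ℕ∞) : WithBot ℕ∞)} =
          {Q | (k : WithBot ℕ∞) ≤ rd Q} \ {Q | ((k + 1 : ℕ) : WithBot ℕ∞) ≤ rd Q} := by
        ext Q
        simp only [Set.mem_setOf_eq, Set.mem_sdiff]
        obtain ⟨t, -, ht, -⟩ := fibre_data Q Γ(F, W)
        show _ + ptDimFib Q = _ ↔ _ ≤ _ + ptDimFib Q ∧ ¬ _ ≤ _ + ptDimFib Q
        rw [ht]
        cases LocCoh.depth (EGA4.FibLocRing Γ(Y, V) (Pol Γ(Y, V) n) Q.asIdeal)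
          (EGA4.FibLocRing Γ(Y, V) (Pol Γ(Y, V) n) Q.asIdeal ⊗[Pol Γ(Y, V) n] Γ(F, W)) with
        | top =>
          refine iff_of_false (fun h => ?_) (fun h => h.2 ?_)
          · have h' : (⊤ : ℕ∞) + (t : ℕ∞) = (k : ℕ∞) := by exact_mod_cast h
            rw [top_add] at h'
            exact ENat.natCast_ne_top k h'.symm
          · have h' : ((k + 1 : ℕ) : ℕ∞) ≤ (⊤ : ℕ∞) + (t : ℕ∞) := by rw [top_add]; exact le_top
            exact_mod_cast h'
        | coe d => norm_cast; omega
      rw [hset]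
      exact (isConstructible_le_rectifiedDepth Γ(F, W) k).sdiff (isConstructible_le_rectifiedDepth Γ(F, W) (k + 1))
  refine isConstructible_chartPt_preimage hW π hC fun x => ?_
  have hz : f.fiberι (f x.1) (f.asFiber x.1) ∈ W := by rw [f.fiberι_asFiber]; exact x.2
  obtain ⟨h1, -, -⟩ := fibre_stalk_data f hV hW e π hπ hπA F hF _ _ hz
  have h2 := dim_closure_eq_ptDimFib f hV hW e π hπ hπA _ _ hz
  rw [chartPt_asFiber f hW π x hz] at h1
  rw [show PrimeSpectrum.comap π (hW.primeIdealOf ⟨_, hz⟩) = chartPt hW π x from chartPt_asFiber f hW π x hz] at h2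
  rw [Set.mem_setOf_eq, h1, h2]
  rfl

theorem isLocallyConstructible_codepth_le (k : ℕ) :
    IsLocallyConstructible {x : X |
      ringKrullDim ((f.fiber (f.base x)).presheaf.stalk (f.asFiber x)) ≤
        ((LocCoh.depth ((f.fiber (f.base x)).presheaf.stalk (f.asFiber x)) ((f.fiber (f.base x)).presheaf.stalk (f.asFiber x)) : ℕ∞) : WithBot ℕ∞) + k} := by
  intro x₀
  obtain ⟨V, W, hV, hW, e, hxW⟩ := exists_chart f x₀
  obtain ⟨n, π, hπ, hπfg, hπA⟩ := exists_presentation f hV hW e
  letI := polModule π Γ(X, W)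
  haveI : Module.FinitePresentation (Pol Γ(Y, V) n) Γ(X, W) := by
    letI : Algebra (Pol Γ(Y, V) n) Γ(X, W) := π.toAlgebra
    exact Module.finitePresentation_of_surjective (Algebra.linearMap (Pol Γ(Y, V) n) Γ(X, W)) hπ hπfg
  refine ⟨(W : Set X), W.2.mem_nhds hxW, W.2, ?_⟩
  refine isConstructible_chartPt_preimage hW π (isConstructible_codepth_le Γ(X, W) k) fun x => ?_
  have hz : f.fiberι (f x.1) (f.asFiber x.1) ∈ W := by rw [f.fiberι_asFiber]; exact x.2
  obtain ⟨h1, h1'⟩ := fibre_ring_data f hV hW e π hπ hπA _ _ hz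
  rw [chartPt_asFiber f hW π x hz] at h1 h1'
  rw [Set.mem_setOf_eq, h1, h1']
  rfl

/-- Finitely many points decide the exact codepth. -/
theorem isLocallyConstructible_codepth_eq (k : ℕ) :
    IsLocallyConstructible {x : X |
      ringKrullDim ((f.fiber (f.base x)).presheaf.stalk (f.asFiber x)) =
        ((LocCoh.depth ((f.fiber (f.base x)).presheaf.stalk (f.asFiber x)) ((f.fiber (f.base x)).presheaf.stalk (f.asFiber x)) : ℕ∞) : WithBot ℕ∞) + k} := by
  haveI : ∀ x : X, IsNoetherianRing ((f.fiber (f.base x)).presheaf.stalk (f.asFiber x)) := fun x => by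
    haveI : LocallyOfFiniteType (f.fiberToSpecResidueField (f.base x)) := MorphismProperty.pullback_snd f _ inferInstance
    haveI := LocallyOfFiniteType.isLocallyNoetherian (f.fiberToSpecResidueField (f.base x))
    infer_instance
  cases k with
  | zero =>
    convert isLocallyConstructible_codepth_le f 0 using 1
    ext x
    simp only [Set.mem_setOf_eq, Nat.cast_zero, add_zero]
    refine ⟨fun h => h.le, fun h => le_antisymm h ?_⟩
    rw [← Module.supportDim_self_eq_ringKrullDim]
    exact GrothLib.Depth.depth_le_supportDim _ _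
  | succ k =>
    convert (isLocallyConstructible_codepth_le f (k + 1)).inter (isLocallyConstructible_compl (isLocallyConstructible_codepth_le f k)) using 1
    ext x
    simp only [Set.mem_setOf_eq, Set.mem_inter_iff, Set.mem_compl_iff]
    obtain ⟨D, hD⟩ : ∃ D : ℕ, ringKrullDim ((f.fiber (f.base x)).presheaf.stalk (f.asFiber x)) = D := by
      obtain ⟨D, hD⟩ := ENat.ne_top_iff_exists.1 (Ideal.height_ne_top
        (I := maximalIdeal ((f.fiber (f.base x)).presheaf.stalk (f.asFiber x))) Ideal.IsPrime.ne_top')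
      exact ⟨D, by rw [← maximalIdeal_height_eq_ringKrullDim, ← hD]; rfl⟩
    rw [hD]
    cases LocCoh.depth ((f.fiber (f.base x)).presheaf.stalk (f.asFiber x)) ((f.fiber (f.base x)).presheaf.stalk (f.asFiber x)) with
    | top =>
      refine iff_of_false (fun h => ?_) (fun h => h.2 ?_)
      · have h' : (D : ℕ∞) = (⊤ : ℕ∞) + ((k + 1 : ℕ) : ℕ∞) := by exact_mod_cast h
        rw [top_add] at h'
        exact ENat.natCast_ne_top D h'
      · have h' : (D : ℕ∞) ≤ (⊤ : ℕ∞) + (k : ℕ∞) := by rw [top_add]; exact le_top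
        exact_mod_cast h'
    | coe d => norm_cast; omega

theorem isLocallyConstructible_isCM :
    IsLocallyConstructible {x : X |
      LocCoh.IsCohenMacaulayLocalRing ((f.fiber (f.base x)).presheaf.stalk (f.asFiber x))} := by
  convert isLocallyConstructible_codepth_eq f 0 using 1
  ext x
  simp only [Set.mem_setOf_eq, Nat.cast_zero, add_zero]
  haveI : IsNoetherianRing ((f.fiber (f.base x)).presheaf.stalk (f.asFiber x)) := by
    haveI : LocallyOfFiniteType (f.fiberToSpecResidueField (f.base x)) := MorphismProperty.pullback_snd f _ inferInstance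
    haveI := LocallyOfFiniteType.isLocallyNoetherian (f.fiberToSpecResidueField (f.base x))
    infer_instance
  constructor
  · intro h
    rw [← Module.supportDim_self_eq_ringKrullDim]
    exact h.supportDim_eq_depth
  · intro h
    exact { supportDim_eq_depth := by rwa [Module.supportDim_self_eq_ringKrullDim] }

theorem isLocallyConstructible_forall_isCM [QuasiCompact f] :
    IsLocallyConstructible {s : Y | ∀ z : ↥(f.fiber s), LocCoh.IsCohenMacaulayLocalRing ((f.fiber s).presheaf.stalk z)} := by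
  have h := isLocallyConstructible_compl (f.isLocallyConstructible_image (isLocallyConstructible_compl (isLocallyConstructible_isCM f)))
  convert h using 1
  ext s
  constructor
  · rintro hs ⟨x, hx, rfl⟩
    exact hx (hs _)
  · intro hs z
    by_contra hz
    exact hs ⟨f.fiberι s z, fun h' => hz ((asFiber_iff f
      (fun y w => LocCoh.IsCohenMacaulayLocalRing ((f.fiber y).presheaf.stalk w)) s z).1 h'),
      GrothLib.FibreFlat.fiberι_comp_apply f s z⟩

end GrothLib.FibPd
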