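import Groth.Agent.Lib.FibPd.OpenScheme
import Groth.Agent.Lib.FibreFlat.OpenScheme
import Mathlib.RingTheory.Flat.Localization

/-!
# Openness of fibre depth conditions for the local rings of fibres
-/

set_option autoImplicit false
set_option linter.style.haveILetI false
universe u

open TensorProduct Function IsLocalRing CategoryTheory AlgebraicGeometry Topology TopologicalSpace

namespace GrothLib.FibPd

variable {X Y : Scheme.{u}} (f : X ⟶ Y)

set_option backward.isDefEq.respectTransparency false in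
/-- Flat stalks on an affine chart give flat sections. -/
theorem flat_appLE_of_stalkMap {V : Y.Opens} (hV : IsAffineOpen V) {W : X.Opens} (hW : IsAffineOpen W)
    (e : W ≤ f ⁻¹ᵁ V) (h : ∀ x ∈ W, (f.stalkMap x).hom.Flat) :
    letI : Module Γ(Y, V) Γ(X, W) := Module.compHom _ (f.appLE V W e).hom
    Module.Flat Γ(Y, V) Γ(X, W) := by
  letI : Algebra Γ(Y, V) Γ(X, W) := (f.appLE V W e).hom.toAlgebra
  have hflat : Module.Flat Γ(Y, V) Γ(X, W) := by
    refine Module.flat_of_isLocalized_maximal Γ(X, W) Γ(X, W)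
      (fun P _ => LocalizedModule P.primeCompl Γ(X, W)) (fun P _ => LocalizedModule.mkLinearMap _ _) fun P hP => ?_
    obtain ⟨w, hw⟩ : ∃ w : W, (hW.primeIdealOf w).asIdeal = P :=
      ⟨(Scheme.homeoOfIso hW.isoSpec).symm ⟨P, hP.isPrime⟩,
        congrArg PrimeSpectrum.asIdeal ((Scheme.homeoOfIso hW.isoSpec).apply_symm_apply ⟨P, hP.isPrime⟩)⟩
    subst hw
    let q := (hW.primeIdealOf w).asIdeal
    let p := (hV.primeIdealOf ⟨f w.1, e w.2⟩).asIdeal
    have : q.LiesOver p :=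
      ⟨congr($(IsAffineOpen.comap_primeIdealOf_appLE V hV W hW e w.2).1).symm⟩
    letI := Localization.AtPrime.algebraOfLiesOver p q
    rw [← GrothLib.FibreFlat.flat_localRingHom_iff q p, ← RingHom.flat_algebraMap_iff]
    exact (RingHom.Flat.respectsIso.arrow_mk_iso_iff
      (IsAffineOpen.arrowStalkMapIso f V hV W hW e w.2)).mp (h w.1 w.2)
  exact hflat

variable [LocallyOfFinitePresentation f]

/-- The chart around a point of the flat locus. -/
theorem exists_flat_chart (x : X) (hx : (f.stalkMap x).hom.Flat) :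
    ∃ (V : Y.Opens) (W : X.Opens), IsAffineOpen V ∧ IsAffineOpen W ∧ W ≤ f ⁻¹ᵁ V ∧ x ∈ W ∧
      ∀ w ∈ W, (f.stalkMap w).hom.Flat := by
  obtain ⟨V, hV, hxV, -⟩ := exists_isAffineOpen_mem_and_subset (show f x ∈ (⊤ : Y.Opens) from trivial)
  let U : X.Opens := ⟨{x : X | (f.stalkMap x).hom.Flat}, GrothLib.FibreFlat.isOpen_flat_stalkMap f⟩
  obtain ⟨W, hW, hxW, e⟩ := exists_isAffineOpen_mem_and_subset (show x ∈ U ⊓ f ⁻¹ᵁ V from ⟨hx, hxV⟩)
  exact ⟨V, W, hV, hW, fun w hw => (e hw).2, hxW, fun w hw => (e hw).1⟩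

theorem isOpen_flatAt_and_codepth_le (k : ℕ) :
    IsOpen {x : X | (f.stalkMap x).hom.Flat ∧
      ringKrullDim ((f.fiber (f.base x)).presheaf.stalk (f.asFiber x)) ≤
        ((LocCoh.depth ((f.fiber (f.base x)).presheaf.stalk (f.asFiber x)) ((f.fiber (f.base x)).presheaf.stalk (f.asFiber x)) : ℕ∞) : WithBot ℕ∞) + k} := by
  refine isOpen_iff_forall_mem_open.mpr fun x₀ hx₀ => ?_
  obtain ⟨V, W, hV, hW, e, hxW, hWflat⟩ := exists_flat_chart f x₀ hx₀.1
  obtain ⟨n, π, hπ, hπfg, hπA⟩ := exists_presentation f hV hW e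
  letI := polModule π Γ(X, W)
  letI : Module Γ(Y, V) Γ(X, W) := Module.compHom _ (f.appLE V W e).hom
  haveI : IsScalarTower Γ(Y, V) (Pol Γ(Y, V) n) Γ(X, W) := IsScalarTower.of_algebraMap_smul fun a m => by
    show π (algebraMap Γ(Y, V) (Pol Γ(Y, V) n) a) * m = (f.appLE V W e).hom a * m
    rw [MvPolynomial.algebraMap_eq, ← hπA]
    rfl
  haveI : Module.Flat Γ(Y, V) Γ(X, W) := flat_appLE_of_stalkMap f hV hW e hWflat
  haveI : Module.FinitePresentation (Pol Γ(Y, V) n) Γ(X, W) := by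
    letI : Algebra (Pol Γ(Y, V) n) Γ(X, W) := π.toAlgebra
    exact Module.finitePresentation_of_surjective (Algebra.linearMap (Pol Γ(Y, V) n) Γ(X, W)) hπ hπfg
  refine ⟨_ ∩ (W : Set X), Set.inter_subset_left,
    isOpen_inter_chart hW π (isOpen_codepth_le Γ(X, W) k) fun x => ?_, hx₀, hxW⟩
  have hz : f.fiberι (f x.1) (f.asFiber x.1) ∈ W := by rw [f.fiberι_asFiber]; exact x.2
  obtain ⟨h1, h1'⟩ := fibre_ring_data f hV hW e π hπ hπA _ _ hz
  rw [chartPt_asFiber f hW π x hz] at h1 h1'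
  rw [Set.mem_setOf_eq, h1, h1']
  exact and_iff_right (hWflat x.1 x.2)

end GrothLib.FibPd
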