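import Groth.Agent.Lib.FibPd.SkLocus
import Groth.Agent.Lib.FibPd.OpenRing
import Groth.Agent.Lib.FibPd.ConstrScheme

/-!
# Serre's conditions on the fibres of a morphism
-/

set_option autoImplicit false
set_option linter.style.haveILetI false
universe u

open TensorProduct Function IsLocalRing CategoryTheory AlgebraicGeometry Topology TopologicalSpace

namespace GrothLib.FibPd

variable {X Y : Scheme.{u}} (f : X ⟶ Y) {V : Y.Opens} {W : X.Opens} (hV : IsAffineOpen V) (hW : IsAffineOpen W)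
  (e : W ≤ f ⁻¹ᵁ V) {n : ℕ} (π : Pol Γ(Y, V) n →+* Γ(X, W))

set_option backward.isDefEq.respectTransparency false in
include hV e in
/-- Serre's condition on a fibre stalk, in the chart. -/
theorem fibre_stalk_hasSk [LocallyOfFiniteType f] (hπ : Surjective π)
    (hπA : π.comp MvPolynomial.C = (f.appLE V W e).hom) (M : Type u) [AddCommGroup M] [Module Γ(X, W) M]
    [Module.Finite Γ(X, W) M] (y : Y) (z : ↥(f.fiber y)) (hz : f.fiberι y z ∈ W) (N : Type u) [AddCommGroup N]
    [Module ((f.fiber y).presheaf.stalk z) N]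
    (hN : letI : Algebra Γ(X, W) ((f.fiber y).presheaf.stalk z) := (toFibStalk f y z hz).toAlgebra
      letI : Module Γ(X, W) N := Module.compHom N (toFibStalk f y z hz)
      haveI : IsScalarTower Γ(X, W) ((f.fiber y).presheaf.stalk z) N :=
        IsScalarTower.of_algebraMap_smul fun _ _ => rfl
      ∃ g : M →ₗ[Γ(X, W)] N, IsBaseChange ((f.fiber y).presheaf.stalk z) g) (k : ℕ) :
    letI := polModule π M
    LocCoh.HasSk k ((f.fiber y).presheaf.stalk z) N ↔ SkGood M k (chartPt hW π ⟨_, hz⟩) := by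
  letI : Algebra (Pol Γ(Y, V) n) Γ(X, W) := π.toAlgebra
  letI : Algebra Γ(Y, V) Γ(X, W) := (f.appLE V W e).hom.toAlgebra
  haveI : IsScalarTower Γ(Y, V) (Pol Γ(Y, V) n) Γ(X, W) := IsScalarTower.of_algebraMap_eq' hπA.symm
  letI := polModule π M
  haveI : IsScalarTower (Pol Γ(Y, V) n) Γ(X, W) M := IsScalarTower.of_algebraMap_smul fun _ _ => rfl
  haveI : Module.Finite (Pol Γ(Y, V) n) Γ(X, W) :=
    Module.Finite.of_surjective (Algebra.linearMap (Pol Γ(Y, V) n) Γ(X, W)) hπ
  haveI : Module.Finite (Pol Γ(Y, V) n) M := Module.Finite.trans Γ(X, W) M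
  letI : Algebra Γ(X, W) ((f.fiber y).presheaf.stalk z) := (toFibStalk f y z hz).toAlgebra
  letI : Module Γ(X, W) N := Module.compHom N (toFibStalk f y z hz)
  haveI : IsScalarTower Γ(X, W) ((f.fiber y).presheaf.stalk z) N :=
    IsScalarTower.of_algebraMap_smul fun _ _ => rfl
  haveI : LocallyOfFiniteType (f.fiberToSpecResidueField y) := MorphismProperty.pullback_snd f _ inferInstance
  haveI : IsLocallyNoetherian (f.fiber y) :=
    LocallyOfFiniteType.isLocallyNoetherian (f.fiberToSpecResidueField y)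
  obtain ⟨h1, h2, h3⟩ := toFibStalk_spec f hV hW e y z hz
  obtain ⟨g, hg⟩ := hN
  exact hasSk_iff hπ (hW.primeIdealOf ⟨_, hz⟩).asIdeal h1 h2 h3 M N g hg k

set_option backward.isDefEq.respectTransparency false in
include hV e in
/-- Serre's condition on a fibre local ring, in the chart. -/
theorem fibre_ring_hasSk [LocallyOfFiniteType f] (hπ : Surjective π)
    (hπA : π.comp MvPolynomial.C = (f.appLE V W e).hom) (y : Y) (z : ↥(f.fiber y)) (hz : f.fiberι y z ∈ W) (k : ℕ) :
    letI := polModule π Γ(X, W)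
    LocCoh.HasSk k ((f.fiber y).presheaf.stalk z) ((f.fiber y).presheaf.stalk z) ↔
      SkGood Γ(X, W) k (chartPt hW π ⟨_, hz⟩) :=
  fibre_stalk_hasSk f hV hW e π hπ hπA Γ(X, W) y z hz ((f.fiber y).presheaf.stalk z) (by
    letI : Algebra Γ(X, W) ((f.fiber y).presheaf.stalk z) := (toFibStalk f y z hz).toAlgebra
    exact ⟨Algebra.linearMap Γ(X, W) _, IsBaseChange.linearMap _ _⟩) k

variable [LocallyOfFinitePresentation f]

theorem isOpen_flatAt_and_hasSk (k : ℕ) :
    IsOpen {x : X | (f.stalkMap x).hom.Flat ∧ LocCoh.HasSk k ((f.fiber (f.base x)).presheaf.stalk (f.asFiber x)) ((f.fiber (f.base x)).presheaf.stalk (f.asFiber x))} := by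
  refine isOpen_iff_forall_mem_open.mpr fun x₀ hx₀ => ?_
  obtain ⟨V, W, hV, hW, e, hxW, hWflat⟩ := exists_flat_chart f x₀ hx₀.1
  obtain ⟨n, π, hπ, hπfg, hπA⟩ := exists_presentation f hV hW e
  letI := polModule π Γ(X, W)
  letI : Module Γ(Y, V) Γ(X, W) := Module.compHom _ (f.appLE V W e).hom
  haveI : IsScalarTower Γ(Y, V) (Pol Γ(Y, V) n) Γ(X, W) := IsScalarTower.of_algebraMap_smul fun a m => by
    show π (algebraMap Γ(Y, V) (Pol Γ(Y, V) n) a) * m = (f.appLE V W e).hom a * m
    rw [MvPolynomial.algebraMap_eq, ← hπA]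
    rfl
  haveI : Module.Flat Γ(Y, V) Γ(X, W) := flat_appLE_of_stalkMap f hV hW e hWflat
  haveI : Module.FinitePresentation (Pol Γ(Y, V) n) Γ(X, W) := by
    letI : Algebra (Pol Γ(Y, V) n) Γ(X, W) := π.toAlgebra
    exact Module.finitePresentation_of_surjective (Algebra.linearMap (Pol Γ(Y, V) n) Γ(X, W)) hπ hπfg
  refine ⟨_ ∩ (W : Set X), Set.inter_subset_left,
    isOpen_inter_chart hW π (isOpen_skGood (M := Γ(X, W)) k) fun x => ?_, hx₀, hxW⟩
  have hz : f.fiberι (f x.1) (f.asFiber x.1) ∈ W := by rw [f.fiberι_asFiber]; exact x.2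
  have h1 := fibre_ring_hasSk f hV hW e π hπ hπA _ _ hz k
  rw [chartPt_asFiber f hW π x hz] at h1
  rw [Set.mem_setOf_eq, h1]
  exact and_iff_right (hWflat x.1 x.2)

theorem isOpen_hasSk_of_flat [Flat f] (k : ℕ) :
    IsOpen {x : X | LocCoh.HasSk k ((f.fiber (f.base x)).presheaf.stalk (f.asFiber x))
      ((f.fiber (f.base x)).presheaf.stalk (f.asFiber x))} := by
  convert isOpen_flatAt_and_hasSk f k using 1
  ext x
  exact (and_iff_right (Flat.stalkMap f x)).symm

theorem isLocallyConstructible_hasSk (k : ℕ) :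
    IsLocallyConstructible {x : X |
      LocCoh.HasSk k ((f.fiber (f.base x)).presheaf.stalk (f.asFiber x))
        ((f.fiber (f.base x)).presheaf.stalk (f.asFiber x))} := by
  intro x₀
  obtain ⟨V, W, hV, hW, e, hxW⟩ := exists_chart f x₀
  obtain ⟨n, π, hπ, hπfg, hπA⟩ := exists_presentation f hV hW e
  letI := polModule π Γ(X, W)
  haveI : Module.FinitePresentation (Pol Γ(Y, V) n) Γ(X, W) := by
    letI : Algebra (Pol Γ(Y, V) n) Γ(X, W) := π.toAlgebra
    exact Module.finitePresentation_of_surjective (Algebra.linearMap (Pol Γ(Y, V) n) Γ(X, W)) hπ hπfg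
  refine ⟨(W : Set X), W.2.mem_nhds hxW, W.2, ?_⟩
  refine isConstructible_chartPt_preimage hW π (isConstructible_skGood (M := Γ(X, W)) k) fun x => ?_
  have hz : f.fiberι (f x.1) (f.asFiber x.1) ∈ W := by rw [f.fiberι_asFiber]; exact x.2
  have h1 := fibre_ring_hasSk f hV hW e π hπ hπA _ _ hz k
  rw [chartPt_asFiber f hW π x hz] at h1
  exact h1

end GrothLib.FibPd
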