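import Groth.Agent.Lib.FibPd.Equidim
import Groth.Agent.Lib.FibPd.SkScheme

/-!
# Openness of equidimensional `(S_k)` loci on fibres
-/

set_option autoImplicit false
set_option linter.style.haveILetI false
universe u

open TensorProduct Function IsLocalRing CategoryTheory AlgebraicGeometry Topology TopologicalSpace

namespace GrothLib.FibPd

section Ring

variable {A : Type u} [CommRing A] {n : ℕ}

theorem isOpen_not_genIn {S : Set (PrimeSpectrum (Pol A n))} (hS : IsClosed S) (τ : ℕ) :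
    IsOpen {Q : PrimeSpectrum (Pol A n) | ¬ GenIn S τ Q} := by
  obtain ⟨I, hI⟩ : ∃ I : Ideal (Pol A n), PrimeSpectrum.zeroLocus (I : Set (Pol A n)) = S :=
    ⟨_, (PrimeSpectrum.zeroLocus_vanishingIdeal_eq_closure _).trans hS.closure_eq⟩
  subst hI
  cases τ with
  | zero =>
    convert (PrimeSpectrum.isClosed_zeroLocus (I : Set (Pol A n))).isOpen_compl using 1
    ext Q
    simp only [Set.mem_setOf_eq, Set.mem_compl_iff]
    refine not_congr ⟨fun ⟨y, hy, _, hyS, _⟩ => Set.Subset.trans hyS hy, fun h => ?_⟩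
    obtain ⟨t, -, ht, -⟩ := fibre_data Q (Pol A n)
    exact ⟨Q, le_rfl, rfl, h, by rw [ht]; exact_mod_cast Nat.zero_le t⟩
  | succ τ =>
    convert isOpen_fibDimIn_le I τ using 1
    ext Q
    simp only [Set.mem_setOf_eq]
    rw [genIn_zeroLocus_iff]
    generalize fibDimIn (PrimeSpectrum.comap (algebraMap A (Pol A n))) (PrimeSpectrum.zeroLocus (I : Set (Pol A n))) Q = a
    cases a with
    | bot => simp [-WithBot.coe_natCast]
    | coe b =>
      cases b with
      | top =>
        refine iff_of_false (fun h => h (WithBot.coe_le_coe.2 le_top)) fun h => ?_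
        exact ENat.natCast_ne_top τ (top_le_iff.mp (WithBot.coe_le_coe.1 h))
      | coe b => norm_cast; omega

/-- The points of the support with fibre projective dimension at least `e`. -/
def WSet (M : Type u) [AddCommGroup M] [Module (Pol A n) M] (e : ℕ) : Set (PrimeSpectrum (Pol A n)) :=
  Module.support (Pol A n) M ∩ ⋂ e' ∈ Set.Iio e, {Q : PrimeSpectrum (Pol A n) | PdFib M Q e'}ᶜ

variable {M : Type u} [AddCommGroup M] [Module (Pol A n) M]

theorem isClosed_wSet [Module A M] [IsScalarTower A (Pol A n) M] [Module.FinitePresentation (Pol A n) M]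
    [Module.Flat A M] (e : ℕ) : IsClosed (WSet (A := A) (n := n) M e) := by
  refine IsClosed.inter ?_ (isClosed_biInter fun e' _ => (isOpen_pdFib M e').isClosed_compl)
  rw [Module.support_eq_zeroLocus]
  exact PrimeSpectrum.isClosed_zeroLocus _

theorem genIn_wSet_iff [Module.Finite (Pol A n) M] {k : ℕ} (hk : 1 ≤ k) {Q : PrimeSpectrum (Pol A n)}
    (hQ : SkGood M k Q) (τ : ℕ) :
    GenIn (WSet M (n - τ)) τ Q ↔ ∃ y : PrimeSpectrum (Pol A n), y.asIdeal ≤ Q.asIdeal ∧
      y.asIdeal.comap (algebraMap A (Pol A n)) = Q.asIdeal.comap (algebraMap A (Pol A n)) ∧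
      fibSdim M y = 0 ∧ ptDimFib y = τ := by
  constructor
  · rintro ⟨y, hy, hyp, ⟨hys, hpd⟩, hyt⟩
    obtain ⟨d, e, t, s, hn, ht, hd, he, hs, -, hds⟩ := exists_numbers y M hys
    rw [ht] at hyt
    have hle : n - τ ≤ e := by
      by_contra hlt
      exact Set.mem_iInter₂.1 hpd e (not_le.mp hlt) ((he e).2 le_rfl)
    have hτ : τ ≤ t := by exact_mod_cast hyt
    have hbad := hQ y hy hyp
    rw [SkBad, not_not, hs, hd] at hbad
    have hs0 : s = 0 := by
      have h1 : (min (k : WithBot ℕ∞) (s : WithBot ℕ∞)) = ((min k s : ℕ) : WithBot ℕ∞) := by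
        rcases le_total k s with h | h
        · rw [min_eq_left h, min_eq_left]; exact_mod_cast h
        · rw [min_eq_right h, min_eq_right]; exact_mod_cast h
      rw [h1] at hbad
      norm_cast at hbad
      omega
    refine ⟨y, hy, hyp, ?_, ?_⟩
    · rw [fibSdim, hs, hs0, Nat.cast_zero]
    · rw [ht]; exact_mod_cast (show t = τ by omega)
  · rintro ⟨y, hy, hyp, hy0, hyt⟩
    have hys : y ∈ Module.support (Pol A n) M := by
      by_contra hys
      haveI : Subsingleton (EGA4.FibLocRing A (Pol A n) y.asIdeal ⊗[Pol A n] M) :=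
        not_nontrivial_iff_subsingleton.mp fun h => hys ((nontrivial_fibStalk_iff y M).mp h)
      rw [fibSdim, Module.supportDim_eq_bot_of_subsingleton] at hy0
      exact absurd hy0 (by simp)
    obtain ⟨d, e, t, s, hn, ht, hd, he, hs, -, hds⟩ := exists_numbers y M hys
    rw [fibSdim, hs] at hy0
    rw [ht] at hyt
    have hs0 : s = 0 := by exact_mod_cast hy0
    have htτ : t = τ := by exact_mod_cast hyt
    refine ⟨y, hy, hyp, ⟨hys, Set.mem_iInter₂.2 fun e' he' h => ?_⟩, by rw [ht, htτ]⟩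
    have := (he e').1 h
    have := Set.mem_Iio.1 he'
    omega

/-- The condition expressed by generisations. -/
def EquidimGood (M : Type u) [AddCommGroup M] [Module (Pol A n) M] (Q : PrimeSpectrum (Pol A n)) : Prop :=
  ∀ y y' : PrimeSpectrum (Pol A n), y.asIdeal ≤ Q.asIdeal →
    y.asIdeal.comap (algebraMap A (Pol A n)) = Q.asIdeal.comap (algebraMap A (Pol A n)) → fibSdim M y = 0 →
    y'.asIdeal ≤ Q.asIdeal →
    y'.asIdeal.comap (algebraMap A (Pol A n)) = Q.asIdeal.comap (algebraMap A (Pol A n)) → fibSdim M y' = 0 →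
    ptDimFib y = ptDimFib y'

theorem isOpen_skGood_and_equidimGood [Module A M] [IsScalarTower A (Pol A n) M] [Module.FinitePresentation (Pol A n) M]
    [Module.Flat A M] {k : ℕ} (hk : 1 ≤ k) :
    IsOpen {Q : PrimeSpectrum (Pol A n) | SkGood M k Q ∧ EquidimGood M Q} := by
  have hset : {Q : PrimeSpectrum (Pol A n) | SkGood M k Q ∧ EquidimGood M Q} =
      {Q : PrimeSpectrum (Pol A n) | SkGood M k Q} ∩ ⋂ τ ∈ Set.Iic n, ⋂ τ' ∈ Set.Iic n,
        {Q : PrimeSpectrum (Pol A n) | τ = τ'} ∪ ({Q | ¬ GenIn (WSet M (n - τ)) τ Q} ∪ {Q | ¬ GenIn (WSet M (n - τ')) τ' Q}) := by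
    ext Q
    simp only [Set.mem_setOf_eq, Set.mem_inter_iff, Set.mem_iInter, Set.mem_union]
    refine and_congr_right fun hQ => ⟨fun h τ _ τ' _ => ?_, fun h y y' hy hyp hy0 hy' hyp' hy0' => ?_⟩
    · by_cases h1 : GenIn (WSet M (n - τ)) τ Q
      · by_cases h2 : GenIn (WSet M (n - τ')) τ' Q
        · obtain ⟨y, hy, hyp, hy0, hyt⟩ := (genIn_wSet_iff hk hQ τ).1 h1
          obtain ⟨y', hy', hyp', hy0', hyt'⟩ := (genIn_wSet_iff hk hQ τ').1 h2
          have := h y y' hy hyp hy0 hy' hyp' hy0'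
          rw [hyt, hyt'] at this
          exact Or.inl (natCast_withBot_inj this)
        · exact Or.inr (Or.inr h2)
      · exact Or.inr (Or.inl h1)
    · obtain ⟨t, D, ht, -, hDt, -⟩ := fibre_data y M
      obtain ⟨t', D', ht', -, hDt', -⟩ := fibre_data y' M
      rcases h t (Set.mem_Iic.2 (by omega)) t' (Set.mem_Iic.2 (by omega)) with h' | h' | h'
      · rw [ht, ht', h']
      · exact absurd ((genIn_wSet_iff hk hQ t).2 ⟨y, hy, hyp, hy0, ht⟩) h'
      · exact absurd ((genIn_wSet_iff hk hQ t').2 ⟨y', hy', hyp', hy0', ht'⟩) h'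
  rw [hset]
  refine (isOpen_skGood k).inter ((Set.finite_Iic n).isOpen_biInter fun τ _ =>
    (Set.finite_Iic n).isOpen_biInter fun τ' _ => IsOpen.union ?_ ?_)
  · exact isOpen_const
  · exact (isOpen_not_genIn (isClosed_wSet _) _).union (isOpen_not_genIn (isClosed_wSet _) _)

end Ring

variable {X Y : Scheme.{u}} (f : X ⟶ Y) {V : Y.Opens} {W : X.Opens} (hV : IsAffineOpen V) (hW : IsAffineOpen W)
  (e : W ≤ f ⁻¹ᵁ V) {n : ℕ} (π : Pol Γ(Y, V) n →+* Γ(X, W))

set_option backward.isDefEq.respectTransparency false in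
include hV e in
/-- Equidimensionality of a fibre stalk, in the chart. -/
theorem fibre_stalk_isEquidim [LocallyOfFiniteType f] (hπ : Surjective π)
    (hπA : π.comp MvPolynomial.C = (f.appLE V W e).hom) (M : Type u) [AddCommGroup M] [Module Γ(X, W) M]
    [Module.Finite Γ(X, W) M] (y : Y) (z : ↥(f.fiber y)) (hz : f.fiberι y z ∈ W) (N : Type u) [AddCommGroup N]
    [Module ((f.fiber y).presheaf.stalk z) N]
    (hN : letI : Algebra Γ(X, W) ((f.fiber y).presheaf.stalk z) := (toFibStalk f y z hz).toAlgebra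
      letI : Module Γ(X, W) N := Module.compHom N (toFibStalk f y z hz)
      haveI : IsScalarTower Γ(X, W) ((f.fiber y).presheaf.stalk z) N :=
        IsScalarTower.of_algebraMap_smul fun _ _ => rfl
      ∃ g : M →ₗ[Γ(X, W)] N, IsBaseChange ((f.fiber y).presheaf.stalk z) g) :
    letI := polModule π M
    EGA4.IsEquidimModule ((f.fiber y).presheaf.stalk z) N ↔ EquidimGood M (chartPt hW π ⟨_, hz⟩) := by
  letI : Algebra (Pol Γ(Y, V) n) Γ(X, W) := π.toAlgebra
  letI : Algebra Γ(Y, V) Γ(X, W) := (f.appLE V W e).hom.toAlgebra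
  haveI : IsScalarTower Γ(Y, V) (Pol Γ(Y, V) n) Γ(X, W) := IsScalarTower.of_algebraMap_eq' hπA.symm
  letI := polModule π M
  haveI : IsScalarTower (Pol Γ(Y, V) n) Γ(X, W) M := IsScalarTower.of_algebraMap_smul fun _ _ => rfl
  haveI : Module.Finite (Pol Γ(Y, V) n) Γ(X, W) :=
    Module.Finite.of_surjective (Algebra.linearMap (Pol Γ(Y, V) n) Γ(X, W)) hπ
  haveI : Module.Finite (Pol Γ(Y, V) n) M := Module.Finite.trans Γ(X, W) M
  letI : Algebra Γ(X, W) ((f.fiber y).presheaf.stalk z) := (toFibStalk f y z hz).toAlgebra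
  letI : Module Γ(X, W) N := Module.compHom N (toFibStalk f y z hz)
  haveI : IsScalarTower Γ(X, W) ((f.fiber y).presheaf.stalk z) N :=
    IsScalarTower.of_algebraMap_smul fun _ _ => rfl
  haveI : LocallyOfFiniteType (f.fiberToSpecResidueField y) := MorphismProperty.pullback_snd f _ inferInstance
  haveI : IsLocallyNoetherian (f.fiber y) :=
    LocallyOfFiniteType.isLocallyNoetherian (f.fiberToSpecResidueField y)
  obtain ⟨h1, h2, h3⟩ := toFibStalk_spec f hV hW e y z hz
  obtain ⟨g, hg⟩ := hN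
  exact isEquidimModule_iff hπ (hW.primeIdealOf ⟨_, hz⟩).asIdeal h1 h2 h3 M N g hg

variable [LocallyOfFinitePresentation f] (F : X.Modules)

theorem isOpen_isEquidim_and_hasSk (hF : CohB1.IsFP F) (hflat : FlatMod.IsFlatOver f F) {k : ℕ} (hk : 1 ≤ k) :
    IsOpen {x : X | EGA4.IsEquidimModule ((f.fiber (f.base x)).presheaf.stalk (f.asFiber x)) (((Scheme.Modules.pullback (f.fiberι (f.base x))).obj F).presheaf.stalk (f.asFiber x)) ∧ LocCoh.HasSk k ((f.fiber (f.base x)).presheaf.stalk (f.asFiber x)) (((Scheme.Modules.pullback (f.fiberι (f.base x))).obj F).presheaf.stalk (f.asFiber x))} := by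
  haveI := isQuasicoherent_of_isFP hF
  refine isOpen_iff_forall_mem_open.mpr fun x₀ hx₀ => ?_
  obtain ⟨V, W, hV, hW, e, hxW⟩ := exists_chart f x₀
  obtain ⟨n, π, hπ, hπfg, hπA⟩ := exists_presentation f hV hW e
  letI : Algebra (Pol Γ(Y, V) n) Γ(X, W) := π.toAlgebra
  letI := polModule π Γ(F, W)
  haveI : IsScalarTower (Pol Γ(Y, V) n) Γ(X, W) Γ(F, W) := IsScalarTower.of_algebraMap_smul fun _ _ => rfl
  haveI : Module.FinitePresentation (Pol Γ(Y, V) n) Γ(X, W) :=
    Module.finitePresentation_of_surjective (Algebra.linearMap (Pol Γ(Y, V) n) Γ(X, W)) hπ hπfg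
  haveI := GrothLib.FlatFP.finitePresentation_sections F hF hW
  haveI : Module.FinitePresentation (Pol Γ(Y, V) n) Γ(F, W) :=
    Module.FinitePresentation.trans (Pol Γ(Y, V) n) Γ(F, W) Γ(X, W)
  letI : Module Γ(Y, V) Γ(F, W) := Module.compHom _ (f.appLE V W e).hom
  haveI : IsScalarTower Γ(Y, V) (Pol Γ(Y, V) n) Γ(F, W) := IsScalarTower.of_algebraMap_smul fun a m => by
    show π (algebraMap Γ(Y, V) (Pol Γ(Y, V) n) a) • m = (f.appLE V W e).hom a • m
    rw [MvPolynomial.algebraMap_eq, ← hπA]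
    rfl
  haveI : Module.Flat Γ(Y, V) Γ(F, W) := GrothLib.BCCoh.flat_sections f F hflat hW hV e
  refine ⟨_ ∩ (W : Set X), Set.inter_subset_left,
    isOpen_inter_chart hW π (isOpen_skGood_and_equidimGood (M := Γ(F, W)) hk) fun x => ?_, hx₀, hxW⟩
  have hz : f.fiberι (f x.1) (f.asFiber x.1) ∈ W := by rw [f.fiberι_asFiber]; exact x.2
  have h1 := fibre_stalk_hasSk f hV hW e π hπ hπA Γ(F, W) _ _ hz _ (exists_isBaseChange_fibStalk f hW F _ _ hz) k
  have h2 := fibre_stalk_isEquidim f hV hW e π hπ hπA Γ(F, W) _ _ hz _ (exists_isBaseChange_fibStalk f hW F _ _ hz)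
  rw [chartPt_asFiber f hW π x hz] at h1 h2
  rw [Set.mem_setOf_eq, h1, h2]
  exact and_comm

end GrothLib.FibPd
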