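import Groth.Prelude.Def_CInt
import Groth.Agent.Lib.FibPd.EquidimScheme

/-!
# The depth of the fibre module along a closed subset
-/

set_option autoImplicit false
set_option linter.style.haveILetI false
universe u

open TensorProduct Function IsLocalRing CategoryTheory AlgebraicGeometry Topology TopologicalSpace

namespace GrothLib.FibPd

section Ring

variable {A : Type u} [CommRing A] {n : ℕ}

theorem isCompact_of_isConstructible {X : Type*} [TopologicalSpace X] [CompactSpace X] {s : Set X}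
    (hs : IsConstructible s) : IsCompact s := by
  refine BooleanSubalgebra.closure_sdiff_sup_induction (s := {U : Set X | IsOpen U ∧ IsRetrocompact U})
    (p := fun t _ => IsCompact t)
    ⟨fun _ ha _ hb => ⟨ha.1.union hb.1, ha.2.union hb.2⟩,
      fun _ ha _ hb => ⟨ha.1.inter hb.1, ha.2.inter_isOpen hb.2 hb.1⟩⟩
    ⟨isOpen_empty, .empty⟩ ⟨isOpen_univ, .univ⟩
    (fun a ha b hb => ha.2.isCompact.diff hb.1) (fun a _ b _ ha hb => ha.union hb) s hs

/-- The condition on generisations is constructible for closed constructible sets. -/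
theorem isConstructible_genIn {S : Set (PrimeSpectrum (Pol A n))} (hS : IsClosed S) (hSc : IsConstructible S) (τ : ℕ) :
    IsConstructible {Q : PrimeSpectrum (Pol A n) | GenIn S τ Q} := by
  obtain ⟨I, hI, hIS⟩ := PrimeSpectrum.isCompact_isOpen_iff_ideal.mp
    ⟨isCompact_of_isConstructible hSc.compl, hS.isOpen_compl⟩
  obtain rfl : S = PrimeSpectrum.zeroLocus (I : Set (Pol A n)) := by
    rw [← compl_compl S, ← hIS, compl_compl]
  cases τ with
  | zero =>
    convert hSc using 1
    ext Q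
    simp only [Set.mem_setOf_eq]
    refine ⟨fun ⟨y, hy, _, hyS, _⟩ => Set.Subset.trans hyS hy, fun h => ?_⟩
    obtain ⟨t, -, ht, -⟩ := fibre_data Q (Pol A n)
    exact ⟨Q, le_rfl, rfl, h, by rw [ht]; exact_mod_cast Nat.zero_le t⟩
  | succ τ =>
    haveI : Module.FinitePresentation (Pol A n) (Pol A n ⧸ I) :=
      Module.finitePresentation_of_surjective _ (Submodule.mkQ_surjective _) (by rw [Submodule.ker_mkQ]; exact hI)
    have hc := (isConstructible_fibDimIn_le (A := A) (n := n) (Pol A n ⧸ I) τ).compl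
    rw [show Module.support (Pol A n) (Pol A n ⧸ I) = PrimeSpectrum.zeroLocus (I : Set (Pol A n)) by
      rw [Module.support_eq_zeroLocus, Ideal.annihilator_quotient]] at hc
    convert hc using 1
    ext Q
    simp only [Set.mem_setOf_eq, Set.mem_compl_iff]
    rw [genIn_zeroLocus_iff]
    generalize fibDimIn (PrimeSpectrum.comap (algebraMap A (Pol A n))) (PrimeSpectrum.zeroLocus (I : Set (Pol A n))) Q = a
    cases a with
    | bot => simp [-WithBot.coe_natCast]
    | coe b =>
      cases b with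
      | top =>
        refine iff_of_true (WithBot.coe_le_coe.2 le_top) fun h => ?_
        exact ENat.natCast_ne_top τ (top_le_iff.mp (WithBot.coe_le_coe.1 h))
      | coe b => norm_cast; omega

variable (M : Type u) [AddCommGroup M] [Module (Pol A n) M]

/-- The depth along `Z` at `Q` is at least `m`. -/
def DepthGood (Z : Set (PrimeSpectrum (Pol A n))) (m : ℕ) (Q : PrimeSpectrum (Pol A n)) : Prop :=
  ∀ y : PrimeSpectrum (Pol A n), y.asIdeal ≤ Q.asIdeal →
    y.asIdeal.comap (algebraMap A (Pol A n)) = Q.asIdeal.comap (algebraMap A (Pol A n)) → y ∈ Z →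
    (m : ℕ∞) ≤ fibDepth M y

theorem setOf_depthGood [Module.Finite (Pol A n) M] (Z : Set (PrimeSpectrum (Pol A n))) (m : ℕ) :
    {Q : PrimeSpectrum (Pol A n) | DepthGood M Z m Q} =
      ⋂ e ∈ Set.Iic n, {Q : PrimeSpectrum (Pol A n) | ¬ GenIn (WSet M e ∩ Z) (n + 1 - (e + m)) Q} := by
  ext Q
  simp only [Set.mem_setOf_eq, Set.mem_iInter, Set.mem_Iic, DepthGood, GenIn]
  constructor
  · rintro h e he ⟨y, hy, hyp, ⟨⟨hys, hpd⟩, hyZ⟩, hyt⟩
    obtain ⟨d, e₀, t, s, hn, ht, hd, he₀, -, -, -⟩ := exists_numbers y M hys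
    have h1 := h y hy hyp hyZ
    rw [show fibDepth M y = d from hd] at h1
    rw [ht] at hyt
    have hle : e ≤ e₀ := by
      by_contra hlt
      exact Set.mem_iInter₂.1 hpd e₀ (not_le.mp hlt) ((he₀ e₀).2 le_rfl)
    have : m ≤ d := by exact_mod_cast h1
    have : n + 1 - (e + m) ≤ t := by exact_mod_cast hyt
    omega
  · intro h y hy hyp hyZ
    by_contra hlt
    by_cases hys : y ∈ Module.support (Pol A n) M
    · obtain ⟨d, e₀, t, s, hn, ht, hd, he₀, -, -, -⟩ := exists_numbers y M hys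
      rw [show fibDepth M y = d from hd] at hlt
      have : ¬ m ≤ d := fun h => hlt (by exact_mod_cast h)
      refine h e₀ (by omega) ⟨y, hy, hyp, ⟨⟨hys, Set.mem_iInter₂.2 fun e' he' hp => ?_⟩, hyZ⟩, ?_⟩
      · have := (he₀ e').1 hp
        have := Set.mem_Iio.1 he'
        omega
      · rw [ht]
        exact_mod_cast (show n + 1 - (e₀ + m) ≤ t by omega)
    · haveI : Subsingleton (EGA4.FibLocRing A (Pol A n) y.asIdeal ⊗[Pol A n] M) :=
        not_nontrivial_iff_subsingleton.mp fun h => hys ((nontrivial_fibStalk_iff y M).mp h)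
      refine hlt ?_
      rw [fibDepth, GrothLib.Depth.depth_eq_top_of_subsingleton]
      exact le_top

variable {M} [Module A M] [IsScalarTower A (Pol A n) M] [Module.FinitePresentation (Pol A n) M] [Module.Flat A M]

theorem isOpen_depthGood {Z : Set (PrimeSpectrum (Pol A n))} (hZ : IsClosed Z) (m : ℕ) :
    IsOpen {Q : PrimeSpectrum (Pol A n) | DepthGood M Z m Q} := by
  rw [setOf_depthGood]
  exact (Set.finite_Iic n).isOpen_biInter fun e _ => isOpen_not_genIn ((isClosed_wSet e).inter hZ) _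

omit [Module A M] [IsScalarTower A (Pol A n) M] [Module.Flat A M] in
theorem isConstructible_wSet (e : ℕ) : IsConstructible (WSet (A := A) (n := n) M e) := by
  refine (isConstructible_support M).inter ?_
  induction e with
  | zero =>
    rw [show (⋂ e' ∈ Set.Iio 0, {Q : PrimeSpectrum (Pol A n) | PdFib M Q e'}ᶜ) = Set.univ by simp]
    exact IsConstructible.univ
  | succ e ih =>
    rw [show Set.Iio (e + 1) = insert e (Set.Iio e) by ext x; simp, Set.biInter_insert]
    exact (isConstructible_pdFib M e).compl.inter ih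

theorem isConstructible_depthGood {Z : Set (PrimeSpectrum (Pol A n))} (hZ : IsClosed Z) (hZc : IsConstructible Z)
    (m : ℕ) : IsConstructible {Q : PrimeSpectrum (Pol A n) | DepthGood M Z m Q} := by
  rw [setOf_depthGood]
  refine Set.Finite.induction_on (motive := fun S _ => IsConstructible
    (⋂ e ∈ S, {Q : PrimeSpectrum (Pol A n) | ¬ GenIn (WSet M e ∩ Z) (n + 1 - (e + m)) Q})) _ (Set.finite_Iic n) ?_ ?_
  · simp [IsConstructible.univ]
  · intro e S _ _ ih
    rw [Set.biInter_insert]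
    refine IsConstructible.inter ?_ ih
    exact (isConstructible_genIn ((isClosed_wSet e).inter hZ) ((isConstructible_wSet e).inter hZc) _).compl

omit [Module A M] [IsScalarTower A (Pol A n) M] [Module.Flat A M] in
theorem le_fibDepth_of_lt {m : ℕ} (hm : n < m) {y : PrimeSpectrum (Pol A n)} (h : (m : ℕ∞) ≤ fibDepth M y) :
    fibDepth M y = ⊤ := by
  by_cases hys : y ∈ Module.support (Pol A n) M
  · obtain ⟨d, e₀, t, s, hn, ht, hd, he₀, -, -, -⟩ := exists_numbers y M hys
    rw [show fibDepth M y = d from hd] at h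
    have : m ≤ d := by exact_mod_cast h
    omega
  · haveI : Subsingleton (EGA4.FibLocRing A (Pol A n) y.asIdeal ⊗[Pol A n] M) :=
      not_nontrivial_iff_subsingleton.mp fun h => hys ((nontrivial_fibStalk_iff y M).mp h)
    rw [fibDepth, GrothLib.Depth.depth_eq_top_of_subsingleton]

end Ring

variable {X S : Scheme.{u}} (f : X ⟶ S) [LocallyOfFinitePresentation f] (F : X.Modules)

/-- The chart picture of the depth along a closed subset. -/
theorem exists_depthAlong_chart (hfp : CohB1.IsFP F) (hfl : FlatMod.IsFlatOver f F) (Y : Closeds X) (x₀ : X) :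
    ∃ (V : S.Opens) (W : X.Opens) (hW : IsAffineOpen W) (n : ℕ) (π : Pol Γ(S, V) n →+* Γ(X, W)) (M : Type u)
      (_ : AddCommGroup M) (_ : Module (Pol Γ(S, V) n) M) (_ : Module Γ(S, V) M)
      (_ : IsScalarTower Γ(S, V) (Pol Γ(S, V) n) M) (Z : Set (PrimeSpectrum (Pol Γ(S, V) n))),
      x₀ ∈ W ∧ Module.FinitePresentation (Pol Γ(S, V) n) M ∧ Module.Flat Γ(S, V) M ∧ IsClosed Z ∧
      (IsConstructible (Subtype.val ⁻¹' (Y : Set X) : Set (W : Set X)) → IsConstructible Z) ∧
      ∀ (x : W) (m : ℕ), (m : ℕ∞) ≤ CInt.fiberDepthAlong f F (Y : Set X) x.1 ↔ DepthGood M Z m (chartPt hW π x) := by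
  haveI := isQuasicoherent_of_isFP hfp
  obtain ⟨V, W, hV, hW, e, hxW⟩ := exists_chart f x₀
  obtain ⟨n, π, hπ, hπfg, hπA⟩ := exists_presentation f hV hW e
  letI : Algebra (Pol Γ(S, V) n) Γ(X, W) := π.toAlgebra
  letI := polModule π Γ(F, W)
  haveI : IsScalarTower (Pol Γ(S, V) n) Γ(X, W) Γ(F, W) := IsScalarTower.of_algebraMap_smul fun _ _ => rfl
  haveI : Module.FinitePresentation (Pol Γ(S, V) n) Γ(X, W) :=
    Module.finitePresentation_of_surjective (Algebra.linearMap (Pol Γ(S, V) n) Γ(X, W)) hπ hπfg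
  haveI := GrothLib.FlatFP.finitePresentation_sections F hfp hW
  haveI : Module.FinitePresentation (Pol Γ(S, V) n) Γ(F, W) :=
    Module.FinitePresentation.trans (Pol Γ(S, V) n) Γ(F, W) Γ(X, W)
  letI : Module Γ(S, V) Γ(F, W) := Module.compHom _ (f.appLE V W e).hom
  haveI : IsScalarTower Γ(S, V) (Pol Γ(S, V) n) Γ(F, W) := IsScalarTower.of_algebraMap_smul fun a m => by
    show π (algebraMap Γ(S, V) (Pol Γ(S, V) n) a) • m = (f.appLE V W e).hom a • m
    rw [MvPolynomial.algebraMap_eq, ← hπA]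
    rfl
  haveI : Module.Flat Γ(S, V) Γ(F, W) := GrothLib.BCCoh.flat_sections f F hfl hW hV e
  let iso := Scheme.homeoOfIso hW.isoSpec
  have hemb : IsClosedEmbedding (chartPt hW π) :=
    (PrimeSpectrum.isClosedEmbedding_comap_of_surjective _ π hπ).comp iso.isClosedEmbedding
  let Z : Set (PrimeSpectrum (Pol Γ(S, V) n)) := chartPt hW π '' {x | x.1 ∈ Y}
  have hZ : IsClosed Z := hemb.isClosedMap _ (Y.isClosed.preimage continuous_subtype_val)
  have hbase : ∀ x : W, PrimeSpectrum.comap (algebraMap Γ(S, V) (Pol Γ(S, V) n)) (chartPt hW π x) =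
      hV.primeIdealOf ⟨f x.1, e x.2⟩ := fun x => by
    rw [chartPt, ← PrimeSpectrum.comap_comp_apply, MvPolynomial.algebraMap_eq, hπA]
    exact IsAffineOpen.comap_primeIdealOf_appLE V hV W hW e x.2
  refine ⟨V, W, hW, n, π, Γ(F, W), inferInstance, inferInstance, inferInstance, inferInstance, Z, hxW,
    inferInstance, inferInstance, hZ, fun hY => ?_, fun x m => ?_⟩
  · have hc : IsConstructible (iso '' {x : W | x.1 ∈ Y}) := by
      rw [iso.image_eq_preimage_symm]
      exact IsConstructible.preimage_of_isOpenEmbedding iso.symm.isOpenEmbedding hY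
    have : Z = PrimeSpectrum.comap π '' (iso '' {x : W | x.1 ∈ Y}) := by rw [Set.image_image]; rfl
    rw [this]
    exact PrimeSpectrum.isConstructible_comap_image (RingHom.FinitePresentation.of_surjective _ hπ hπfg) hc
  · have hdepth : ∀ z : W, CInt.fiberDepth f F z.1 = fibDepth Γ(F, W) (chartPt hW π z) := fun z => by
      have hz : f.fiberι (f z.1) (f.asFiber z.1) ∈ W := by rw [f.fiberι_asFiber]; exact z.2
      obtain ⟨h1, -, -⟩ := fibre_stalk_data f hV hW e π hπ hπA F hfp _ _ hz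
      rw [chartPt_asFiber f hW π z hz] at h1
      exact h1
    rw [CInt.fiberDepthAlong, le_iInf_iff]
    constructor
    · intro h y hy hyp hyZ
      obtain ⟨z, hzY, rfl⟩ := hyZ
      rw [← hdepth]
      refine h ⟨z.1, hzY, ?_, ?_⟩
      · have := ((PrimeSpectrum.le_iff_specializes _ _).1 ((PrimeSpectrum.asIdeal_le_asIdeal _ _).1 hy))
        rw [hemb.isInducing.specializes_iff] at this
        exact this.map continuous_subtype_val
      · have h3 : hV.primeIdealOf ⟨f z.1, e z.2⟩ = hV.primeIdealOf ⟨f x.1, e x.2⟩ := by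
          rw [← hbase, ← hbase]; exact PrimeSpectrum.ext hyp
        have h4 := congrArg hV.fromSpec h3
        rwa [IsAffineOpen.fromSpec_primeIdealOf, IsAffineOpen.fromSpec_primeIdealOf] at h4
    · intro h ⟨z, hzY, hzx, hfz⟩
      have hzW : z ∈ W := hzx.mem_open W.2 x.2
      rw [hdepth ⟨z, hzW⟩]
      refine h _ ?_ ?_ ⟨⟨z, hzW⟩, hzY, rfl⟩
      · refine (PrimeSpectrum.asIdeal_le_asIdeal _ _).2 ((PrimeSpectrum.le_iff_specializes _ _).2 ?_)
        refine Specializes.map ?_ hemb.continuous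
        rwa [← IsInducing.subtypeVal.specializes_iff]
      · refine congrArg PrimeSpectrum.asIdeal ((hbase ⟨z, hzW⟩).trans ((congrArg _ (Subtype.ext ?_)).trans (hbase x).symm))
        exact hfz

theorem isOpen_le_fiberDepthAlong (hfp : CohB1.IsFP F) (hfl : FlatMod.IsFlatOver f F) (Y : Closeds X) (m : ℕ) :
    IsOpen {x : X | (m : ℕ∞) ≤ CInt.fiberDepthAlong f F (Y : Set X) x} := by
  refine isOpen_iff_forall_mem_open.mpr fun x₀ hx₀ => ?_
  obtain ⟨V, W, hW, n, π, M, _, _, _, _, Z, hxW, hMfp, hMfl, hZ, -, h⟩ := exists_depthAlong_chart f F hfp hfl Y x₀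
  haveI := hMfp
  haveI := hMfl
  exact ⟨_ ∩ (W : Set X), Set.inter_subset_left,
    isOpen_inter_chart hW π (isOpen_depthGood (M := M) hZ m) fun x => h x m, hx₀, hxW⟩

theorem isConstructible_val_of_fromSpec {Y : Set X} {W : X.Opens} (hW : IsAffineOpen W)
    (h : IsConstructible (hW.fromSpec ⁻¹' Y)) : IsConstructible (Subtype.val ⁻¹' Y : Set (W : Set X)) := by
  have hs : (Subtype.val ⁻¹' Y : Set (W : Set X)) = (fun x : W => hW.primeIdealOf x) ⁻¹' (hW.fromSpec ⁻¹' Y) := by
    ext x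
    simp only [Set.mem_preimage, IsAffineOpen.fromSpec_primeIdealOf]
  rw [hs]
  exact IsConstructible.preimage_of_isOpenEmbedding (Scheme.homeoOfIso hW.isoSpec).isOpenEmbedding h

theorem isConstructible_val_preimage {Y : Set X} (hY : IsLocallyConstructible Y) {W : X.Opens} (hW : IsAffineOpen W) :
    IsConstructible (Subtype.val ⁻¹' Y : Set (W : Set X)) :=
  isConstructible_val_of_fromSpec hW (hY.preimage_of_isOpenEmbedding hW.fromSpec.isOpenEmbedding).isConstructible

theorem isConstructible_val_isCompact_isOpen {U : Set X} (hU : IsCompact U) (hUo : IsOpen U) {W : X.Opens}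
    (hW : IsAffineOpen W) (hUW : U ⊆ W) : IsConstructible (Subtype.val ⁻¹' U : Set (W : Set X)) := by
  refine isConstructible_val_of_fromSpec hW (IsCompact.isConstructible ?_ (hUo.preimage hW.fromSpec.continuous))
  rw [hW.fromSpec.isEmbedding.isCompact_iff, Set.image_preimage_eq_of_subset (by rw [hW.range_fromSpec]; exact hUW)]
  exact hU

theorem isRetrocompact_le_fiberDepthAlong (hfp : CohB1.IsFP F) (hfl : FlatMod.IsFlatOver f F) (Y : Closeds X)
    (hY : IsLocallyConstructible (Y : Set X)) (m : ℕ) :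
    IsRetrocompact {y : X | y ∈ Y ∧ (m : ℕ∞) ≤ CInt.fiberDepthAlong f F (Y : Set X) y} := by
  intro U hU hUo
  have key : ∀ x₀ ∈ U, ∃ W : X.Opens, x₀ ∈ W ∧ (W : Set X) ⊆ U ∧
      IsCompact ({y : X | y ∈ Y ∧ (m : ℕ∞) ≤ CInt.fiberDepthAlong f F (Y : Set X) y} ∩ (W : Set X)) := by
    intro x₀ hx₀
    obtain ⟨V, W, hW, n, π, M, _, _, _, _, Z, hxW, hMfp, hMfl, hZ, hZc, h⟩ := exists_depthAlong_chart f F hfp hfl Y x₀
    haveI := hMfp
    haveI := hMfl
    obtain ⟨W', hW', hxW', hW'sub⟩ := exists_isAffineOpen_mem_and_subset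
      (show x₀ ∈ (⟨U, hUo⟩ : X.Opens) ⊓ W from ⟨hx₀, hxW⟩)
    haveI : CompactSpace (W : Set X) := isCompact_iff_compactSpace.mp hW.isCompact
    have hYW := isConstructible_val_preimage hY hW
    have hc : IsConstructible ((Subtype.val ⁻¹' (Y : Set X) : Set (W : Set X)) ∩
        {x | (m : ℕ∞) ≤ CInt.fiberDepthAlong f F (Y : Set X) x.1}) :=
      hYW.inter (isConstructible_chartPt_preimage hW π (isConstructible_depthGood (M := M) hZ (hZc hYW) m)
        (S := {x | (m : ℕ∞) ≤ CInt.fiberDepthAlong f F (Y : Set X) x}) fun x => h x m)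
    have hW'c : IsConstructible (Subtype.val ⁻¹' (W' : Set X) : Set (W : Set X)) :=
      isConstructible_val_isCompact_isOpen hW'.isCompact W'.2 hW fun y hy => (hW'sub hy).2
    refine ⟨W', hxW', fun y hy => (hW'sub hy).1, ?_⟩
    have := (isCompact_of_isConstructible (hc.inter hW'c)).image continuous_subtype_val
    convert this using 1
    ext y
    constructor
    · rintro ⟨⟨hyY, hy⟩, hyW'⟩
      exact ⟨⟨y, (hW'sub hyW').2⟩, ⟨⟨hyY, hy⟩, hyW'⟩, rfl⟩
    · rintro ⟨⟨y, hyW⟩, ⟨⟨hyY, hy⟩, hyW'⟩, rfl⟩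
      exact ⟨⟨hyY, hy⟩, hyW'⟩
  choose! W hxW hWU hcomp using key
  obtain ⟨t, ht⟩ := hU.elim_finite_subcover (fun x : U => (W x.1 : Set X)) (fun x => (W x.1).2)
    (fun x hx => Set.mem_iUnion.2 ⟨⟨x, hx⟩, hxW x hx⟩)
  have heq : {y : X | y ∈ Y ∧ (m : ℕ∞) ≤ CInt.fiberDepthAlong f F (Y : Set X) y} ∩ U =
      ⋃ x ∈ t, {y : X | y ∈ Y ∧ (m : ℕ∞) ≤ CInt.fiberDepthAlong f F (Y : Set X) y} ∩ (W x.1 : Set X) := by
    ext y
    constructor
    · rintro ⟨hy, hyU⟩
      obtain ⟨x, hx, hyx⟩ := Set.mem_iUnion₂.1 (ht hyU)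
      exact Set.mem_iUnion₂.2 ⟨x, hx, hy, hyx⟩
    · intro hy
      obtain ⟨x, hx, hy, hyx⟩ := Set.mem_iUnion₂.1 hy
      exact ⟨hy, hWU x.1 x.2 hyx⟩
  rw [heq]
  exact t.isCompact_biUnion fun x _ => hcomp x.1 x.2

end GrothLib.FibPd
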