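import Groth.Agent.Lib.FibPd.GenConstr
import Groth.Agent.Lib.FibPd.DepthAlong
import Groth.Agent.Lib.FibClos.SmoothLocus

/-!
# Non-smooth points of small codimension in the fibres
-/

set_option autoImplicit false
set_option linter.style.haveILetI false
universe u

open TensorProduct Function IsLocalRing CategoryTheory AlgebraicGeometry Topology TopologicalSpace

namespace GrothLib.FibPd

variable {X S : Scheme.{u}} (f : X ⟶ S)

/-- The fibre is smooth at every generisation of codimension at most `k`. -/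
def SmoothCodimLE (k : ℕ) (x : X) : Prop :=
  ∀ x' : X, x' ⤳ x → f x' = f x → ringKrullDim ((f.fiber (f x')).presheaf.stalk (f.asFiber x')) ≤ k →
    x' ∈ GrothLib.FibClos.smSet f

theorem isLocallyConstructible_smoothCodimLE [LocallyOfFinitePresentation f] (k : ℕ) :
    IsLocallyConstructible {x : X | SmoothCodimLE f k x} := by
  intro x₀
  obtain ⟨V, W, hV, hW, e, hxW⟩ := exists_chart f x₀
  obtain ⟨n, π, hπ, hπfg, hπA⟩ := exists_presentation f hV hW e
  letI := polModule π Γ(X, W)
  haveI : Module.FinitePresentation (Pol Γ(S, V) n) Γ(X, W) := by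
    letI : Algebra (Pol Γ(S, V) n) Γ(X, W) := π.toAlgebra
    exact Module.finitePresentation_of_surjective (Algebra.linearMap (Pol Γ(S, V) n) Γ(X, W)) hπ hπfg
  let iso := Scheme.homeoOfIso hW.isoSpec
  let N : Set (PrimeSpectrum (Pol Γ(S, V) n)) := chartPt hW π '' {x : W | x.1 ∉ GrothLib.FibClos.smSet f}
  have hN : IsConstructible N := by
    have hc : IsConstructible (iso '' {x : W | x.1 ∉ GrothLib.FibClos.smSet f}) := by
      rw [iso.image_eq_preimage_symm]
      exact IsConstructible.preimage_of_isOpenEmbedding iso.symm.isOpenEmbedding (isConstructible_val_preimage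
        (isLocallyConstructible_compl (GrothLib.FibClos.isFibLocus_smSet.isLocallyConstructible f)) hW)
    have : N = PrimeSpectrum.comap π '' (iso '' {x : W | x.1 ∉ GrothLib.FibClos.smSet f}) := by
      rw [Set.image_image]; rfl
    rw [this]
    exact PrimeSpectrum.isConstructible_comap_image (RingHom.FinitePresentation.of_surjective _ hπ hπfg) hc
  have hemb : IsClosedEmbedding (chartPt hW π) :=
    (PrimeSpectrum.isClosedEmbedding_comap_of_surjective _ π hπ).comp iso.isClosedEmbedding
  have hsupp : ∀ z : W, chartPt hW π z ∈ Module.support (Pol Γ(S, V) n) Γ(X, W) := fun z => by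
    rw [Module.support_eq_zeroLocus, PrimeSpectrum.mem_zeroLocus]
    intro a ha
    have h1 : π a = 0 := by
      rw [← mul_one (π a)]
      exact Module.mem_annihilator.mp ha (1 : Γ(X, W))
    show π a ∈ (hW.primeIdealOf z).asIdeal
    rw [h1]
    exact Submodule.zero_mem _
  have hdim : ∀ z : W, ringKrullDim ((f.fiber (f z.1)).presheaf.stalk (f.asFiber z.1)) =
      fibSdim Γ(X, W) (chartPt hW π z) := fun z => by
    have hz : f.fiberι (f z.1) (f.asFiber z.1) ∈ W := by rw [f.fiberι_asFiber]; exact z.2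
    obtain ⟨-, h2⟩ := fibre_ring_data f hV hW e π hπ hπA _ _ hz
    rw [chartPt_asFiber f hW π z hz] at h2
    exact h2
  have hbase : ∀ x : W, PrimeSpectrum.comap (algebraMap Γ(S, V) (Pol Γ(S, V) n)) (chartPt hW π x) =
      hV.primeIdealOf ⟨f x.1, e x.2⟩ := fun x => by
    rw [chartPt, ← PrimeSpectrum.comap_comp_apply, MvPolynomial.algebraMap_eq, hπA]
    exact IsAffineOpen.comap_primeIdealOf_appLE V hV W hW e x.2
  refine ⟨(W : Set X), W.2.mem_nhds hxW, W.2, ?_⟩
  refine isConstructible_chartPt_preimage hW π (isConstructible_smallGen Γ(X, W) hN k).compl fun x => ?_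
  rw [Set.mem_setOf_eq, Set.mem_compl_iff, Set.mem_setOf_eq]
  constructor
  · rintro h ⟨y, hy, hyp, ⟨z, hzN, rfl⟩, -, hk⟩
    refine hzN (h z.1 ?_ ?_ (by rw [hdim]; exact hk))
    · have := ((PrimeSpectrum.le_iff_specializes _ _).1 ((PrimeSpectrum.asIdeal_le_asIdeal _ _).1 hy))
      rw [hemb.isInducing.specializes_iff] at this
      exact this.map continuous_subtype_val
    · have h3 : hV.primeIdealOf ⟨f z.1, e z.2⟩ = hV.primeIdealOf ⟨f x.1, e x.2⟩ := by
        rw [← hbase, ← hbase]; exact PrimeSpectrum.ext hyp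
      have h4 := congrArg hV.fromSpec h3
      rwa [IsAffineOpen.fromSpec_primeIdealOf, IsAffineOpen.fromSpec_primeIdealOf] at h4
  · intro h z hzx hfz hk
    have hzW : z ∈ W := hzx.mem_open W.2 x.2
    by_contra hz
    refine h ⟨chartPt hW π ⟨z, hzW⟩, ?_, ?_, ⟨⟨z, hzW⟩, hz, rfl⟩, hsupp _, by rw [← hdim]; exact hk⟩
    · refine (PrimeSpectrum.asIdeal_le_asIdeal _ _).2 ((PrimeSpectrum.le_iff_specializes _ _).2 ?_)
      refine Specializes.map ?_ hemb.continuous
      rwa [← IsInducing.subtypeVal.specializes_iff]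
    · refine congrArg PrimeSpectrum.asIdeal ((hbase ⟨z, hzW⟩).trans ((congrArg _ (Subtype.ext ?_)).trans (hbase x).symm))
      exact hfz

end GrothLib.FibPd
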