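import Groth.Agent.Lib.FibPd.GeomRk
import Groth.Agent.Lib.FibPd.RkConstr

/-!
# Geometric `(R_k)` on fibres
-/

set_option autoImplicit false
set_option backward.isDefEq.respectTransparency false
set_option linter.style.haveILetI false
universe u

open CategoryTheory Limits AlgebraicGeometry

namespace GrothLib.FibPd

variable {X S : Scheme.{u}} (f : X ⟶ S)

instance lfp_fiberToSpecResidueField [LocallyOfFinitePresentation f] (y : S) :
    LocallyOfFinitePresentation (f.fiberToSpecResidueField y) :=
  MorphismProperty.pullback_snd f _ inferInstance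

theorem smoothCodimLE_iff [LocallyOfFinitePresentation f] (k : ℕ) (x : X) :
    SmoothCodimLE f k x ↔ ∀ z : f.fiber (f x), z ⤳ f.asFiber x →
      ringKrullDim ((f.fiber (f x)).presheaf.stalk z) ≤ k → z ∈ (f.fiberToSpecResidueField (f x)).smoothLocus := by
  haveI : LocallyOfFinitePresentation (f.fiberToSpecResidueField (f x)) :=
    MorphismProperty.pullback_snd f _ inferInstance
  constructor
  · intro h z hz hk
    have hfz : f (f.fiberι (f x) z) = f x := GrothLib.FibreFlat.fiberι_comp_apply f (f x) z
    have hzx : f.fiberι (f x) z ⤳ x := by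
      have := hz.map (f.fiberι (f x)).continuous
      rwa [f.fiberι_asFiber] at this
    have hk' : ringKrullDim ((f.fiber (f (f.fiberι (f x) z))).presheaf.stalk (f.asFiber (f.fiberι (f x) z))) ≤ k :=
      (asFiber_iff f (fun y w => ringKrullDim ((f.fiber y).presheaf.stalk w) ≤ k) (f x) z).2 hk
    exact (GrothLib.LocProp.smooth_nhd_iff _ z).1
      ((GrothLib.FibClos.mem_smSet_iff f z rfl).1 (h _ hzx hfz hk'))
  · intro h x' hx' hf hk
    obtain ⟨z, rfl⟩ : ∃ z : f.fiber (f x), f.fiberι (f x) z = x' := by
      have : x' ∈ Set.range (f.fiberι (f x)) := by rw [f.range_fiberι]; exact hf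
      exact this
    have hz : z ⤳ f.asFiber x := by
      rw [← (f.fiberι (f x)).isEmbedding.isInducing.specializes_iff, f.fiberι_asFiber]
      exact hx'
    exact (GrothLib.FibClos.mem_smSet_iff f z rfl).2 ((GrothLib.LocProp.smooth_nhd_iff _ z).2
      (h z hz ((asFiber_iff f (fun y w => ringKrullDim ((f.fiber y).presheaf.stalk w) ≤ k) (f x) z).1 hk)))

theorem isLocallyConstructible_geom_hasRk [LocallyOfFinitePresentation f] (k : ℕ) :
    Topology.IsLocallyConstructible {x : X |
      ∀ (K : Type u) [Field K] [Algebra (IsLocalRing.ResidueField (S.presheaf.stalk (f.base x))) K]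
        (x' : ↥(FBase.bc (f.fiberToSpecResidueField (f.base x)) K)),
        (FBase.bcπ (f.fiberToSpecResidueField (f.base x)) K).base x' = f.asFiber x →
          LocCoh.HasRk k ((FBase.bc (f.fiberToSpecResidueField (f.base x)) K).presheaf.stalk x')} := by
  refine (congrArg Topology.IsLocallyConstructible (Set.ext fun x => ?_)).mpr
    (isLocallyConstructible_smoothCodimLE f k)
  haveI : LocallyOfFinitePresentation (f.fiberToSpecResidueField (f x)) :=
    MorphismProperty.pullback_snd f _ inferInstance
  exact (geom_hasRk_iff (k := IsLocalRing.ResidueField (S.presheaf.stalk (f x)))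
    (f.fiberToSpecResidueField (f x)) (f.asFiber x) k).trans (smoothCodimLE_iff f k x).symm

end GrothLib.FibPd
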