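import Groth.Agent.Lib.Hensel.FibreLocal
import Groth.Agent.Lib.CMFree.Regular
import Groth.Prelude.Def_EGA4b
import Groth.Prelude.Def_CAlg
import Mathlib

/-!
# Low Serre conditions
-/

set_option autoImplicit false
set_option linter.style.haveILetI false
universe u

open IsLocalRing

namespace GrothLib.FibPd

variable (R : Type u) [CommRing R] [IsNoetherianRing R]

/-- `(S_1)` says that there are no embedded associated primes. -/
theorem hasSk_one_iff :
    LocCoh.HasSk 1 R R ↔ ∀ p ∈ associatedPrimes R R, p ∈ minimalPrimes R := by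
  rw [GrothLib.Hensel.hasSk_self_iff]
  constructor
  · intro h p hp
    haveI : p.IsPrime := hp.isPrime
    have h1 := h p
    rw [(GrothLib.Hensel.mem_associatedPrimes_iff_depth_eq_zero p).1 hp,
      IsLocalization.AtPrime.ringKrullDim_eq_height p] at h1
    rw [← Ideal.height_eq_zero_iff]
    by_contra hne
    have h2 : (1 : ℕ∞) ≤ p.height := Order.one_le_iff_pos.2 (pos_iff_ne_zero.2 hne)
    rw [min_eq_left (by exact_mod_cast h2)] at h1
    exact absurd h1 (by norm_num)
  · intro h p _
    rcases eq_or_ne (LocCoh.depth (Localization.AtPrime p) (Localization.AtPrime p)) 0 with hd | hd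
    · rw [hd, IsLocalization.AtPrime.ringKrullDim_eq_height p,
        Ideal.height_eq_zero_iff.2 (h p ((GrothLib.Hensel.mem_associatedPrimes_iff_depth_eq_zero p).2 hd))]
      exact (min_le_right _ _).trans le_rfl
    · refine (min_le_left _ _).trans ?_
      have h1 : (1 : ℕ∞) ≤ LocCoh.depth (Localization.AtPrime p) (Localization.AtPrime p) :=
        Order.one_le_iff_pos.2 (pos_iff_ne_zero.2 hd)
      exact_mod_cast h1

/-- Equidimensional as a ring, or as a module over itself. -/
theorem isEquidimModule_self_iff [Nontrivial R] : EGA4.IsEquidimModule R R ↔ EGA4.IsEquidim R := by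
  unfold EGA4.IsEquidimModule EGA4.IsEquidim
  rw [Module.annihilator_eq_bot.mpr inferInstance, Module.supportDim_self_eq_ringKrullDim]

/-- Reduced means `(R_0)` and `(S_1)`. -/
theorem isReduced_iff_hasRk_hasSk : _root_.IsReduced R ↔ LocCoh.HasRk 0 R ∧ LocCoh.HasSk 1 R R := by
  constructor
  · intro hR
    refine ⟨fun p _ hp => ?_, (hasSk_one_iff R).2 fun p hp => ?_⟩
    · have hmin : p ∈ minimalPrimes R := Ideal.height_eq_zero_iff.1 (nonpos_iff_eq_zero.1 (by simpa using hp))
      haveI : _root_.IsReduced (Localization.AtPrime p) :=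
        isReduced_localizationPreserves p.primeCompl (Localization.AtPrime p) hR
      haveI : Ring.KrullDimLE 0 (Localization.AtPrime p) := by
        rw [Ring.krullDimLE_iff, IsLocalization.AtPrime.ringKrullDim_eq_height p, Ideal.height_eq_zero_iff.2 hmin]
        exact le_rfl
      haveI : IsNoetherianRing (Localization.AtPrime p) :=
        IsLocalization.isNoetherianRing p.primeCompl _ inferInstance
      haveI : IsArtinianRing (Localization.AtPrime p) := isArtinianRing_iff_krullDimLE_zero.mpr inferInstance
      have hfield : IsField (Localization.AtPrime p) :=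
        IsArtinianRing.isField_of_isReduced_of_isLocalRing _
      letI := hfield.toField
      exact inferInstanceAs (IsRegularLocalRing (Localization.AtPrime p))
    · haveI : p.IsPrime := hp.isPrime
      obtain ⟨-, a, ha⟩ := isAssociatedPrime_iff.mp hp
      have hpa : ∀ b, b ∈ p ↔ b * a = 0 := fun b => by
        rw [ha, Submodule.mem_colon_singleton, Submodule.mem_bot, smul_eq_mul]
      have ha0 : a ≠ 0 := fun h0 => Ideal.IsPrime.one_notMem ‹_› ((hpa 1).2 (by rw [h0, mul_zero]))
      have hnil : a ∉ sInf (minimalPrimes R) := by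
        rw [show minimalPrimes R = (⊥ : Ideal R).minimalPrimes from rfl, Ideal.sInf_minimalPrimes]
        show a ∉ nilradical R
        rw [nilradical_eq_zero]
        exact ha0
      obtain ⟨q, hq, haq⟩ : ∃ q ∈ minimalPrimes R, a ∉ q := by
        by_contra hcon
        simp only [not_exists, not_and, not_not] at hcon
        exact hnil (Submodule.mem_sInf.2 hcon)
      have hle : p ≤ q := fun b hb => ((hq.1.1.mem_or_mem (by rw [(hpa b).1 hb]; exact q.zero_mem)).resolve_right haq)
      rw [show p = q from le_antisymm hle (hq.2 ⟨inferInstance, bot_le⟩ hle)]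
      exact hq
  · rintro ⟨hR, hS⟩
    refine ⟨fun a ha => ?_⟩
    by_contra ha0
    obtain ⟨P, hP, hle⟩ := exists_le_isAssociatedPrime_of_isNoetherianRing R a ha0
    haveI : P.IsPrime := hP.isPrime
    have hmin := (hasSk_one_iff R).1 hS P hP
    haveI := hR P (by rw [Ideal.height_eq_zero_iff.2 hmin]; exact le_rfl)
    have h0 : ringKrullDim (Localization.AtPrime P) = 0 := by
      rw [IsLocalization.AtPrime.ringKrullDim_eq_height P, Ideal.height_eq_zero_iff.2 hmin]; rfl
    haveI : Ring.KrullDimLE 0 (Localization.AtPrime P) := by rw [Ring.krullDimLE_iff, h0]; exact le_rfl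
    haveI : IsDomain (Localization.AtPrime P) := GrothLib.CMFree.isDomain_of_isRegularLocalRing _
    have hz : algebraMap R (Localization.AtPrime P) a = 0 := (ha.map _).eq_zero
    obtain ⟨u, hu⟩ := (IsLocalization.map_eq_zero_iff P.primeCompl _ _).1 hz
    exact u.2 (hle (by rw [Submodule.mem_colon_singleton, Submodule.mem_bot, smul_eq_mul]; exact hu))

end GrothLib.FibPd
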