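import Groth.Agent.Lib.FibPd.GeomNormal
import Groth.Agent.Lib.FibPd.SerreOne
import Groth.Agent.Lib.AlgMisc.GeomRegLocal

/-!
# Geometric conditions tested on finite extensions
-/

set_option autoImplicit false
set_option backward.isDefEq.respectTransparency false
set_option linter.style.haveILetI false
universe u

open CategoryTheory Limits AlgebraicGeometry IsLocalRing

namespace GrothLib.FibPd

variable {k : Type u} [Field k] {W : Scheme.{u}} (q : W ⟶ Spec (CommRingCat.of k)) [LocallyOfFinitePresentation q]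

theorem isLocallyNoetherian_bc (K : Type u) [Field K] [Algebra k K] : IsLocallyNoetherian (FBase.bc q K) :=
  haveI : LocallyOfFiniteType (pullback.snd q (Spec.map (CommRingCat.ofHom (algebraMap k K)))) :=
    MorphismProperty.pullback_snd q _ inferInstance
  LocallyOfFiniteType.isLocallyNoetherian (pullback.snd q (Spec.map (CommRingCat.ofHom (algebraMap k K))))

/-- Geometric `(R_m)` can be tested on finite extensions. -/
theorem geom_hasRk_iff_finite (z₀ : W) (m : ℕ) :
    (∀ (K : Type u) [Field K] [Algebra k K], Module.Finite k K → ∀ x' : ↥(FBase.bc q K),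
      (FBase.bcπ q K).base x' = z₀ → LocCoh.HasRk m ((FBase.bc q K).presheaf.stalk x')) ↔
    ∀ z, z ⤳ z₀ → ringKrullDim (W.presheaf.stalk z) ≤ m → z ∈ q.smoothLocus := by
  constructor
  · intro h z hz hk
    letI : W.Over (Spec (CommRingCat.of k)) := ⟨q⟩
    haveI : LocallyOfFinitePresentation (W ↘ Spec (CommRingCat.of k)) := ‹LocallyOfFinitePresentation q›
    haveI : IsLocallyNoetherian W := LocallyOfFiniteType.isLocallyNoetherian q
    refine Groth.Agent.Lib.AlgMisc.GeomRegAt.mem_smoothLocus_of_isGeomRegularAt W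
      (Groth.Agent.Lib.AlgMisc.GeomRegLocal.isGeomRegularAt_of_isGeometricallyRegular z
        (Groth.Agent.Lib.AlgMisc.GeomRegLocal.isGeometricallyRegular_stalk z ?_))
    intro K _ _ hfin _ y' hy'
    let g := Spec.map (CommRingCat.ofHom (algebraMap k K))
    haveI : IsIntegralHom g := IsIntegralHom.SpecMap_iff.mpr (fun x => Algebra.IsIntegral.isIntegral (R := k) x)
    haveI : Surjective g := ⟨fun y => ⟨(default : PrimeSpectrum K), Subsingleton.elim (α := PrimeSpectrum k) _ _⟩⟩
    let π := pullback.fst q g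
    have hy : π y' = z := hy'
    subst hy
    obtain ⟨x', hx', rfl⟩ := π.isClosedMap.specializingMap hz
    exact (hasRk_stalk_iff x' m).1 (h K hfin x' rfl) y' hx'
      ((ringKrullDim_stalk_le_of_isIntegralHom π y').trans hk)
  · intro h K _ _ _
    exact (geom_hasRk_iff q z₀ m).2 h K

theorem hasSk_of_trivial_bc (z₀ : W) (m : ℕ)
    (h : ∀ x' : ↥(FBase.bc q k), (FBase.bcπ q k).base x' = z₀ →
      LocCoh.HasSk m ((FBase.bc q k).presheaf.stalk x') ((FBase.bc q k).presheaf.stalk x')) :
    LocCoh.HasSk m (W.presheaf.stalk z₀) (W.presheaf.stalk z₀) := by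
  let g := Spec.map (CommRingCat.ofHom (algebraMap k k))
  have hg : g = 𝟙 _ := by
    show Spec.map (CommRingCat.ofHom (RingHom.id k)) = _
    rw [CommRingCat.ofHom_id, Spec.map_id]
  haveI : IsIso g := by rw [hg]; infer_instance
  haveI : IsIso (FBase.bcπ q k) := inferInstanceAs (IsIso (pullback.fst q g))
  haveI : IsLocallyNoetherian W := LocallyOfFiniteType.isLocallyNoetherian q
  haveI := isLocallyNoetherian_bc q k
  obtain ⟨x', rfl⟩ : ∃ x', (FBase.bcπ q k).base x' = z₀ := ⟨(inv (FBase.bcπ q k)) z₀, by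
    rw [← Scheme.Hom.comp_apply, IsIso.inv_hom_id]; rfl⟩
  exact GrothLib.SnFibres.hasSk_congr (asIso ((FBase.bcπ q k).stalkMap x')).symm.commRingCatIsoToRingEquiv
    (h x' rfl)

/-- Geometric normality tested on finite extensions. -/
theorem geom_normal_iff_finite (z₀ : W) :
    (∀ (K : Type u) [Field K] [Algebra k K], Module.Finite k K → ∀ x' : ↥(FBase.bc q K),
      (FBase.bcπ q K).base x' = z₀ →
      IsDomain ((FBase.bc q K).presheaf.stalk x') ∧ IsIntegrallyClosed ((FBase.bc q K).presheaf.stalk x')) ↔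
    (∀ z, z ⤳ z₀ → ringKrullDim (W.presheaf.stalk z) ≤ (1 : ℕ) → z ∈ q.smoothLocus) ∧
      LocCoh.HasSk 2 (W.presheaf.stalk z₀) (W.presheaf.stalk z₀) := by
  constructor
  · intro h
    refine ⟨(geom_hasRk_iff_finite q z₀ 1).1 fun K _ _ hfin x' hx' => ?_,
      hasSk_of_trivial_bc q z₀ 2 fun x' hx' => ?_⟩
    · haveI := isLocallyNoetherian_bc q K
      exact ((normal_local_iff _).1 (h K hfin x' hx')).1
    · haveI := isLocallyNoetherian_bc q k
      exact ((normal_local_iff _).1 (h k inferInstance x' hx')).2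
  · intro h K _ _ _ x' hx'
    exact (geom_normal_iff q z₀).2 h K x' hx'

/-- Geometric reducedness at a point. -/
theorem isGeomReducedAt_iff (z₀ : W) :
    FBase.IsGeomReducedAt q z₀ ↔
      (∀ z, z ⤳ z₀ → ringKrullDim (W.presheaf.stalk z) ≤ (0 : ℕ) → z ∈ q.smoothLocus) ∧
        LocCoh.HasSk 1 (W.presheaf.stalk z₀) (W.presheaf.stalk z₀) := by
  rw [← geom_hasRk_iff q z₀ 0]
  constructor
  · intro h
    refine ⟨fun K _ _ x' hx' => ?_, hasSk_of_trivial_bc q z₀ 1 fun x' hx' => ?_⟩
    · haveI := isLocallyNoetherian_bc q K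
      exact ((isReduced_iff_hasRk_hasSk _).1 (h K x' hx')).1
    · haveI := isLocallyNoetherian_bc q k
      exact ((isReduced_iff_hasRk_hasSk _).1 (h k x' hx')).2
  · rintro ⟨hR, hS⟩ K _ _ x' hx'
    haveI := isLocallyNoetherian_bc q K
    refine (isReduced_iff_hasRk_hasSk _).2 ⟨hR K x' hx', ?_⟩
    subst hx'
    exact hasSk_stalk_bc q K 1 x' hS

end GrothLib.FibPd
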