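import Groth.Agent.Lib.FibPd.CompDims
import Groth.Agent.Lib.AssPts.Filtration

/-!
# The dimension of the support on the fibres of a flat module
-/

set_option autoImplicit false
set_option backward.isDefEq.respectTransparency false
set_option linter.style.haveILetI false
universe u

open CategoryTheory AlgebraicGeometry Topology TopologicalSpace Limits

namespace GrothLib.FibPd

theorem topologicalKrullDim_le_of_components {α : Type u} [TopologicalSpace α] {b : WithBot ℕ∞}
    (h : ∀ Z ∈ irreducibleComponents α, topologicalKrullDim ↥Z ≤ b) : topologicalKrullDim α ≤ b := by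
  refine iSup_le fun l => ?_
  let S : Set α := l.last
  obtain ⟨Z, hpre, hZ, hmax⟩ := exists_preirreducible S l.last.isIrreducible.2
  have hZirr : IsIrreducible Z := ⟨l.last.isIrreducible.nonempty.mono hZ, hpre⟩
  have hZmem : Z ∈ irreducibleComponents α :=
    ⟨hZirr, fun Z' hZ' hle => (hmax _ hZ'.2 hle).le⟩
  have hZc : IsClosed Z := isClosed_of_mem_irreducibleComponents Z hZmem
  refine le_trans ?_ (h Z hZmem)
  have hsub' : ∀ i, (l i : Set α) ⊆ Z := fun i a ha => hZ (l.monotone (Fin.le_last i) ha)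
  have hirr : ∀ i, IsIrreducible (Subtype.val ⁻¹' (l i : Set α) : Set ↥Z) := fun i => by
    obtain ⟨a, ha⟩ := (l i).isIrreducible.nonempty
    refine ⟨⟨⟨a, hsub' i ha⟩, ha⟩, fun u v hu hv hu' hv' => ?_⟩
    obtain ⟨U, hU, rfl⟩ := isOpen_induced_iff.1 hu
    obtain ⟨V, hV, rfl⟩ := isOpen_induced_iff.1 hv
    obtain ⟨p, hp, hpU⟩ := hu'
    obtain ⟨q, hq, hqV⟩ := hv'
    obtain ⟨r, hr, hrUV⟩ := (l i).isIrreducible.2 U V hU hV ⟨p.1, hp, hpU⟩ ⟨q.1, hq, hqV⟩
    exact ⟨⟨r, hsub' i hr⟩, hr, hrUV⟩
  let m : LTSeries (IrreducibleCloseds ↥Z) :=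
    { length := l.length
      toFun := fun i => ⟨Subtype.val ⁻¹' (l i : Set α), hirr i, (l i).isClosed.preimage continuous_subtype_val⟩
      step := fun i => by
        have hlt : l i.castSucc < l i.succ := l.step i
        refine lt_of_le_of_ne (Set.preimage_mono hlt.le) fun heq => hlt.not_ge fun a ha => ?_
        have h1 : (⟨a, hsub' i.succ ha⟩ : ↥Z) ∈ (Subtype.val ⁻¹' (l i.succ : Set α) : Set ↥Z) := ha
        rw [← heq] at h1
        exact h1 }
  exact le_iSup (fun p : LTSeries (IrreducibleCloseds ↥Z) => ((p.length : ℕ∞) : WithBot ℕ∞)) m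

variable {X Y : Scheme.{u}} (f : X ⟶ Y) [LocallyOfFinitePresentation f] {F : X.Modules}

/-- The dimension of the support is bounded by that of the associated points. -/
theorem suppDim_le_iff (hF : CohB1.IsFP F) (y : Y) (b : WithBot ℕ∞) :
    topologicalKrullDim ↥{z : ↥(f.fiber y) | Nontrivial (((Scheme.Modules.pullback (f.fiberι y)).obj F).presheaf.stalk z)} ≤ b ↔
      ∀ z ∈ AssSch.Ass ((Scheme.Modules.pullback (f.fiberι y)).obj F),
        topologicalKrullDim ↥(closure ({z} : Set ↥(f.fiber y))) ≤ b := by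
  constructor
  · intro h z hz
    refine le_trans ?_ h
    exact (IsEmbedding.inclusion (subset_closure_of_specializes (isClosed_nontrivial f hF y)
      (nontrivial_of_ass f y hz))).isInducing.topologicalKrullDim_le
  · intro h
    refine topologicalKrullDim_le_of_components fun Z hZ => ?_
    obtain ⟨η, hη, hd, -, -⟩ := exists_generic_ass f hF y hZ
    rw [hd]
    exact h η hη

theorem exists_dim_closure (y : Y) (z : ↥(f.fiber y)) :
    ∃ t : ℕ, topologicalKrullDim ↥(closure ({z} : Set ↥(f.fiber y))) = (t : WithBot ℕ∞) := by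
  obtain ⟨V, W, hV, hW, e, hzW⟩ := exists_chart f (f.fiberι y z)
  obtain ⟨n, π, hπ, -, hπA⟩ := exists_presentation f hV hW e
  obtain ⟨t, -, ht⟩ := exists_ptDimFib_eq (chartPt hW π ⟨_, hzW⟩)
  exact ⟨t, (dim_closure_eq_ptDimFib f hV hW e π hπ hπA _ z hzW).trans ht⟩

/-- The dimension of the support is at most `m`. -/
theorem suppDim_le_nat_iff (hF : CohB1.IsFP F) (y : Y) (m : ℕ) :
    topologicalKrullDim ↥{z : ↥(f.fiber y) | Nontrivial (((Scheme.Modules.pullback (f.fiberι y)).obj F).presheaf.stalk z)} ≤ (m : WithBot ℕ∞) ↔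
      ∀ z ∈ AssSch.Ass ((Scheme.Modules.pullback (f.fiberι y)).obj F), DimIn f (Set.Iic m) y z := by
  rw [suppDim_le_iff f hF]
  refine forall₂_congr fun z _ => ?_
  obtain ⟨t, ht⟩ := exists_dim_closure f y z
  rw [ht]
  constructor
  · intro h; exact ⟨t, show t ≤ m by exact_mod_cast h, ht⟩
  · rintro ⟨n, hn, hn'⟩
    rw [ht] at hn'
    have : t = n := natCast_withBot_inj hn'
    exact_mod_cast (this.le.trans hn : t ≤ m)

theorem isLocallyConstant_suppDim [IsProper f] (hF : CohB1.IsFP F) (hflat : FlatMod.IsFlatOver f F) :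
    IsLocallyConstant (fun y : Y => topologicalKrullDim ↥{z : ↥(f.fiber y) | Nontrivial (((Scheme.Modules.pullback (f.fiberι y)).obj F).presheaf.stalk z)}) := by
  let d : Y → WithBot ℕ∞ := fun y =>
    topologicalKrullDim ↥{z : ↥(f.fiber y) | Nontrivial (((Scheme.Modules.pullback (f.fiberι y)).obj F).presheaf.stalk z)}
  have hle : ∀ m : ℕ, IsOpen {y | d y ≤ (m : WithBot ℕ∞)} := fun m => by
    simp only [d, suppDim_le_nat_iff f hF]
    exact isOpen_forall_assDims f F hF hflat _
  have hge : ∀ m : ℕ, IsOpen {y | (m : WithBot ℕ∞) ≤ d y} := fun m => by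
    have hset : {y | (m : WithBot ℕ∞) ≤ d y} = ⋃ τ ∈ Set.Ici m, {y : Y | ∀ n ∈ ({τ} : Finset ℕ), ∃ Z ∈ irreducibleComponents ↥{z : ↥(f.fiber y) | Nontrivial (((Scheme.Modules.pullback (f.fiberι y)).obj F).presheaf.stalk z)},
        topologicalKrullDim ↥Z = (n : WithBot ℕ∞)} := by
      ext y
      simp only [Set.mem_setOf_eq, Set.mem_iUnion, Finset.mem_singleton, forall_eq, Set.mem_Ici, exists_prop]
      constructor
      · intro h
        by_contra hcon
        simp only [not_exists, not_and] at hcon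
        have hlt : ∀ Z ∈ irreducibleComponents ↥{z : ↥(f.fiber y) | Nontrivial (((Scheme.Modules.pullback (f.fiberι y)).obj F).presheaf.stalk z)},
            topologicalKrullDim ↥Z + 1 ≤ (m : WithBot ℕ∞) := fun Z hZ => by
          obtain ⟨η, -, hd, -, -⟩ := exists_generic_ass f hF y hZ
          obtain ⟨t, ht⟩ := exists_dim_closure f y η
          rw [hd, ht]
          have : t < m := by
            by_contra hge
            exact hcon t (not_lt.1 hge) Z hZ (hd.trans ht)
          exact_mod_cast this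
        cases m with
        | zero =>
          have hd : d y ≤ ⊥ := topologicalKrullDim_le_of_components fun Z hZ => by
            obtain ⟨η, -, hd, -, -⟩ := exists_generic_ass f hF y hZ
            obtain ⟨t, ht⟩ := exists_dim_closure f y η
            exact absurd (hd.trans ht) (fun h' => hcon t (Nat.zero_le t) Z hZ h')
          exact absurd (h.trans hd) (by simp)
        | succ m =>
          have hd : d y ≤ (m : WithBot ℕ∞) := topologicalKrullDim_le_of_components fun Z hZ => by
            obtain ⟨η, -, hd, -, -⟩ := exists_generic_ass f hF y hZ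
            obtain ⟨t, ht⟩ := exists_dim_closure f y η
            have hZ' := hlt Z hZ
            rw [hd, ht] at hZ' ⊢
            have : t + 1 ≤ m + 1 := by exact_mod_cast hZ'
            exact_mod_cast (show t ≤ m by omega)
          have : m + 1 ≤ m := by exact_mod_cast h.trans hd
          omega
      · rintro ⟨τ, hτ, Z, -, hZ⟩
        refine le_trans ?_ (IsEmbedding.subtypeVal (p := (· ∈ Z))).isInducing.topologicalKrullDim_le
        rw [hZ]
        exact_mod_cast hτ
    rw [hset]
    exact isOpen_biUnion fun τ _ => isOpen_components_supset f hF hflat {τ}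
  have hbot : IsOpen {y | d y ≤ ⊥} := by
    have : {y | d y ≤ ⊥} = {y | ∀ z ∈ AssSch.Ass ((Scheme.Modules.pullback (f.fiberι y)).obj F), DimIn f ∅ y z} := by
      ext y
      simp only [d, Set.mem_setOf_eq, suppDim_le_iff f hF]
      refine forall₂_congr fun z _ => iff_of_false (fun h => ?_) fun ⟨_, h, _⟩ => h.elim
      obtain ⟨t, ht⟩ := exists_dim_closure f y z
      rw [ht] at h
      simp at h
    rw [this]
    exact isOpen_forall_assDims f F hF hflat _
  refine (IsLocallyConstant.iff_exists_open _).2 fun y₀ => ?_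
  rcases eq_or_ne (d y₀) ⊥ with h0 | h0
  · exact ⟨_, hbot, h0.le, fun y hy => (le_bot_iff.1 hy).trans h0.symm⟩
  obtain ⟨a, ha⟩ := WithBot.ne_bot_iff_exists.1 h0
  cases a with
  | top =>
    refine ⟨⋂ m ∈ (∅ : Finset ℕ), {y | (m : WithBot ℕ∞) ≤ d y}, isOpen_biInter_finset fun m _ => hge m, by simp, ?_⟩
    exfalso
    -- the support of a fibre has finite dimension
    haveI : CompactSpace ↥(f.fiber y₀) := inferInstance
    haveI := isLocallyNoetherian_fibre f y₀
    haveI : IsNoetherian (f.fiber y₀) := {}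
    have hfin := GrothLib.Primary.finite_ass _ (isCoh_fibre f hF y₀)
    choose t ht using fun z => exists_dim_closure f y₀ z
    let N := hfin.toFinset.sup t
    have hN : d y₀ ≤ (N : WithBot ℕ∞) := (suppDim_le_iff f hF y₀ _).2 fun z hz => by
      rw [ht z]
      exact_mod_cast Finset.le_sup (f := t) (hfin.mem_toFinset.2 hz)
    rw [← ha] at hN
    exact ENat.natCast_ne_top N (top_le_iff.1 (WithBot.coe_le_coe.1 hN))
  | coe a =>
    have ha' : d y₀ = (a : WithBot ℕ∞) := ha.symm.trans rfl
    exact ⟨_, (hle a).inter (hge a), ⟨ha'.le, ha'.ge⟩, fun y hy => (le_antisymm hy.1 hy.2).trans ha'.symm⟩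

end GrothLib.FibPd
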