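import Groth.Agent.Lib.FibPd.Open
import Groth.Agent.Lib.FibPd.Depth
import Groth.Agent.Lib.FibreDimAt6.Scheme

/-!
# Codepth and rectified depth in terms of fibre projective dimensions
-/

set_option autoImplicit false
set_option linter.style.haveILetI false
universe u

open TensorProduct Function IsLocalRing MvPolynomial CategoryTheory AlgebraicGeometry Topology TopologicalSpace

namespace GrothLib.FibPd

attribute [local instance] MvPolynomial.algebraMvPolynomial

variable {A : Type u} [CommRing A] {n : ℕ} (Q : PrimeSpectrum (Pol A n))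
  (M : Type u) [AddCommGroup M] [Module (Pol A n) M] [Module.Finite (Pol A n) M]

instance : IsLocalRing (EGA4.FibLocRing A (Pol A n) Q.asIdeal) := GrothLib.FlatOff.isLocalRing_fibLocRing _

instance : IsRegularLocalRing (EGA4.FibLocRing A (Pol A n) Q.asIdeal) := isRegularLocalRing_fibLocRing_pol Q

/-- The fibre stalk of `M` at `Q` vanishes exactly off the support. -/
theorem nontrivial_fibStalk_iff :
    Nontrivial (EGA4.FibLocRing A (Pol A n) Q.asIdeal ⊗[Pol A n] M) ↔ Q ∈ Module.support (Pol A n) M := by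
  let G := EGA4.FibLocRing A (Pol A n) Q.asIdeal
  have hcomap : PrimeSpectrum.comap (algebraMap (Pol A n) G) ⟨maximalIdeal G, inferInstance⟩ = Q := by
    refine PrimeSpectrum.ext ?_
    show (maximalIdeal G).comap _ = Q.asIdeal
    rw [IsScalarTower.algebraMap_eq (Pol A n) (Localization.AtPrime Q.asIdeal) G, ← Ideal.comap_comap]
    haveI : IsLocalHom (algebraMap (Localization.AtPrime Q.asIdeal) G) :=
      IsLocalHom.of_surjective _ Ideal.Quotient.mk_surjective
    rw [IsLocalRing.maximalIdeal_comap]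
    exact IsLocalization.AtPrime.under_maximalIdeal _ Q.asIdeal
  constructor
  · intro h
    have h' := IsLocalRing.closedPoint_mem_support (R := G) (M := G ⊗[Pol A n] M)
    rw [mem_support_baseChange_iff] at h'
    exact hcomap ▸ h'
  · intro h
    rw [← hcomap, ← mem_support_baseChange_iff, Module.mem_support_iff] at h
    by_contra hn
    rw [not_nontrivial_iff_subsingleton] at hn
    exact not_subsingleton (LocalizedModule (maximalIdeal G).primeCompl (G ⊗[Pol A n] M)) inferInstance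

/-- The numbers attached to a point of the support. -/
theorem exists_numbers (hQ : Q ∈ Module.support (Pol A n) M) :
    ∃ d e t s : ℕ, d + e + t = n ∧ ptDimFib Q = t ∧
      LocCoh.depth (EGA4.FibLocRing A (Pol A n) Q.asIdeal) (EGA4.FibLocRing A (Pol A n) Q.asIdeal ⊗[Pol A n] M) = d ∧
      (∀ e', PdFib M Q e' ↔ e ≤ e') ∧
      Module.supportDim (EGA4.FibLocRing A (Pol A n) Q.asIdeal)
        (EGA4.FibLocRing A (Pol A n) Q.asIdeal ⊗[Pol A n] M) = s ∧
      fibDimIn (PrimeSpectrum.comap (algebraMap A (Pol A n))) (Module.support (Pol A n) M) Q = (s + t : ℕ) ∧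
      d ≤ s := by
  haveI := (nontrivial_fibStalk_iff Q M).mpr hQ
  obtain ⟨t, D, ht, hD, hDt, hs⟩ := fibre_data Q M
  obtain ⟨d, e, hde, hd, he⟩ := exists_depth_pd (R := EGA4.FibLocRing A (Pol A n) Q.asIdeal)
    (EGA4.FibLocRing A (Pol A n) Q.asIdeal ⊗[Pol A n] M)
  have hle := GrothLib.Depth.depth_le_supportDim (EGA4.FibLocRing A (Pol A n) Q.asIdeal)
    (EGA4.FibLocRing A (Pol A n) Q.asIdeal ⊗[Pol A n] M)
  have hup := Module.supportDim_le_ringKrullDim (EGA4.FibLocRing A (Pol A n) Q.asIdeal)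
    (EGA4.FibLocRing A (Pol A n) Q.asIdeal ⊗[Pol A n] M)
  rw [hD] at hde hup
  rw [hd] at hle
  obtain ⟨s, hs'⟩ : ∃ s : ℕ, Module.supportDim (EGA4.FibLocRing A (Pol A n) Q.asIdeal)
      (EGA4.FibLocRing A (Pol A n) Q.asIdeal ⊗[Pol A n] M) = s := by
    revert hle hup
    cases Module.supportDim (EGA4.FibLocRing A (Pol A n) Q.asIdeal)
      (EGA4.FibLocRing A (Pol A n) Q.asIdeal ⊗[Pol A n] M) with
    | bot => intro h; simp at h
    | coe a =>
      intro _ h
      have ha : a ≤ (D : ℕ∞) := by exact_mod_cast h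
      obtain ⟨a', rfl⟩ := ENat.ne_top_iff_exists.1 (ne_top_of_le_ne_top (ENat.natCast_ne_top D) ha)
      exact ⟨a', rfl⟩
  rw [hs'] at hle hs
  refine ⟨d, e, t, s, ?_, ht, hd, he, hs', hs.symm.trans (by norm_cast), by exact_mod_cast hle⟩
  have : D = d + e := by exact_mod_cast hde
  omega

theorem fibDimIn_of_not_mem (hQ : Q ∉ Module.support (Pol A n) M) :
    fibDimIn (PrimeSpectrum.comap (algebraMap A (Pol A n))) (Module.support (Pol A n) M) Q = ⊥ := by
  obtain ⟨t, D, -, -, -, hs⟩ := fibre_data Q M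
  haveI : Subsingleton (EGA4.FibLocRing A (Pol A n) Q.asIdeal ⊗[Pol A n] M) :=
    not_nontrivial_iff_subsingleton.mp fun h => hQ ((nontrivial_fibStalk_iff Q M).mp h)
  rw [← hs, Module.supportDim_eq_bot_of_subsingleton, WithBot.bot_add]

/-- The codepth is bounded in terms of projective dimension and dimension of the support. -/
theorem codepth_le_iff (k : ℕ) :
    Module.supportDim (EGA4.FibLocRing A (Pol A n) Q.asIdeal) (EGA4.FibLocRing A (Pol A n) Q.asIdeal ⊗[Pol A n] M) ≤
      ((LocCoh.depth (EGA4.FibLocRing A (Pol A n) Q.asIdeal)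
        (EGA4.FibLocRing A (Pol A n) Q.asIdeal ⊗[Pol A n] M) : ℕ∞) : WithBot ℕ∞) + k ↔
    ∃ e : ℕ, PdFib M Q e ∧
      fibDimIn (PrimeSpectrum.comap (algebraMap A (Pol A n))) (Module.support (Pol A n) M) Q + e ≤ (n + k : ℕ) := by
  by_cases hQ : Q ∈ Module.support (Pol A n) M
  · obtain ⟨d, e, t, s, hn, -, hd, he, hs, hf, -⟩ := exists_numbers Q M hQ
    rw [hs, hd, hf]
    constructor
    · intro h
      have : s ≤ d + k := by exact_mod_cast h
      exact ⟨e, (he e).2 le_rfl, by exact_mod_cast (show s + t + e ≤ n + k by omega)⟩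
    · rintro ⟨e', he', h⟩
      have : s + t + e' ≤ n + k := by exact_mod_cast h
      have := (he e').1 he'
      exact_mod_cast (show s ≤ d + k by omega)
  · haveI : Subsingleton (EGA4.FibLocRing A (Pol A n) Q.asIdeal ⊗[Pol A n] M) :=
      not_nontrivial_iff_subsingleton.mp fun h => hQ ((nontrivial_fibStalk_iff Q M).mp h)
    refine iff_of_true (by rw [Module.supportDim_eq_bot_of_subsingleton]; exact bot_le) ⟨0, ?_, ?_⟩
    · exact (GrothLib.Serre.pdLE_zero_iff).mpr inferInstance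
    · rw [fibDimIn_of_not_mem Q M hQ, WithBot.bot_add]
      exact bot_le

/-- A lower bound on the rectified depth in terms of projective dimension. -/
theorem le_rectifiedDepth_iff (m : ℕ) :
    (m : WithBot ℕ∞) ≤ ((LocCoh.depth (EGA4.FibLocRing A (Pol A n) Q.asIdeal)
        (EGA4.FibLocRing A (Pol A n) Q.asIdeal ⊗[Pol A n] M) : ℕ∞) : WithBot ℕ∞) + ptDimFib Q ↔
    Q ∉ Module.support (Pol A n) M ∨ ∃ e : ℕ, PdFib M Q e ∧ m + e ≤ n := by
  by_cases hQ : Q ∈ Module.support (Pol A n) M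
  · obtain ⟨d, e, t, s, hn, ht, hd, he, -, -, -⟩ := exists_numbers Q M hQ
    rw [hd, ht]
    constructor
    · intro h
      have : m ≤ d + t := by exact_mod_cast h
      exact Or.inr ⟨e, (he e).2 le_rfl, by omega⟩
    · rintro (h | ⟨e', he', h⟩)
      · exact absurd hQ h
      · have := (he e').1 he'
        exact_mod_cast (show m ≤ d + t by omega)
  · haveI : Subsingleton (EGA4.FibLocRing A (Pol A n) Q.asIdeal ⊗[Pol A n] M) :=
      not_nontrivial_iff_subsingleton.mp fun h => hQ ((nontrivial_fibStalk_iff Q M).mp h)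
    obtain ⟨t, -, ht, -⟩ := fibre_data Q M
    refine iff_of_true ?_ (Or.inl hQ)
    rw [GrothLib.Depth.depth_eq_top_of_subsingleton, ht]
    exact_mod_cast le_top (a := (m : ℕ∞))

/-- The dimension of the trace of a closed set on fibres is upper semicontinuous. -/
theorem isOpen_fibDimIn_le (I : Ideal (Pol A n)) (m : ℕ) :
    IsOpen {Q : PrimeSpectrum (Pol A n) |
      fibDimIn (PrimeSpectrum.comap (algebraMap A (Pol A n))) (PrimeSpectrum.zeroLocus (I : Set (Pol A n))) Q ≤ m} := by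
  let π : Spec (CommRingCat.of (Pol A n ⧸ I)) ⟶ Spec (CommRingCat.of A) :=
    Spec.map (CommRingCat.ofHom (algebraMap A (Pol A n ⧸ I)))
  haveI : LocallyOfFiniteType π :=
    (HasRingHomProperty.Spec_iff (P := @LocallyOfFiniteType)).mpr (RingHom.finiteType_algebraMap.mpr inferInstance)
  let g : Spec (CommRingCat.of (Pol A n ⧸ I)) → PrimeSpectrum (Pol A n) :=
    fun w => PrimeSpectrum.comap (Ideal.Quotient.mk I) w
  have hg : IsEmbedding g := PrimeSpectrum.isEmbedding_comap_of_surjective _ _ Ideal.Quotient.mk_surjective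
  have hrange : Set.range g = PrimeSpectrum.zeroLocus (I : Set (Pol A n)) := by
    exact (range_comap_of_surjective _ _ Ideal.Quotient.mk_surjective).trans (by rw [Ideal.mk_ker])
  have key : ∀ w, fibDimIn (PrimeSpectrum.comap (algebraMap A (Pol A n))) (PrimeSpectrum.zeroLocus (I : Set (Pol A n)))
      (g w) = FlatMor.fibreDimAt π w := fun w => by
    have hπ : ∀ v, π v = PrimeSpectrum.comap (algebraMap A (Pol A n)) (g v) := fun v => rfl
    have h := fibDimIn_eq_localDim (PrimeSpectrum.comap (algebraMap A (Pol A n)))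
      (PrimeSpectrum.zeroLocus (I : Set (Pol A n))) (g := g ∘ π.fiberι (π w))
      (hg.comp (π.fiberι (π w)).isEmbedding) (π.asFiber w) (by
        rw [Set.range_comp, π.range_fiberι, ← hrange]
        ext x
        simp only [Function.comp_apply, π.fiberι_asFiber]
        constructor
        · rintro ⟨v, hv, rfl⟩
          exact ⟨⟨v, rfl⟩, (hπ v).symm.trans (hv.trans (hπ w))⟩
        · rintro ⟨⟨v, rfl⟩, hv⟩
          exact ⟨v, (hπ v).trans (hv.trans (hπ w).symm), rfl⟩)
    rw [Function.comp_apply, π.fiberι_asFiber] at h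
    exact h
  obtain ⟨O, hO, hOm⟩ := hg.isInducing.isOpen_iff.mp (GrothLib.FibreDimAt6.isOpen_fibreDimAt_le π m)
  have hset : {Q : PrimeSpectrum (Pol A n) |
      fibDimIn (PrimeSpectrum.comap (algebraMap A (Pol A n))) (PrimeSpectrum.zeroLocus (I : Set (Pol A n))) Q ≤ m} =
      (PrimeSpectrum.zeroLocus (I : Set (Pol A n)))ᶜ ∪ O := by
    ext Q
    by_cases hQ : Q ∈ PrimeSpectrum.zeroLocus (I : Set (Pol A n))
    · obtain ⟨w, rfl⟩ := hrange.symm.subset hQ
      simp only [Set.mem_setOf_eq, key, Set.mem_union, Set.mem_compl_iff, hQ, not_true, false_or]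
      exact (Set.ext_iff.mp hOm w).symm
    · simp only [Set.mem_setOf_eq, Set.mem_union, Set.mem_compl_iff, hQ, not_false_eq_true, true_or, iff_true]
      let U : Opens (PrimeSpectrum (Pol A n)) := ⟨(PrimeSpectrum.zeroLocus (I : Set (Pol A n)))ᶜ,
        (PrimeSpectrum.isClosed_zeroLocus _).isOpen_compl⟩
      refine iInf_le_of_le ⟨U, hQ⟩ ?_
      haveI : IsEmpty ↥((U : Set (PrimeSpectrum (Pol A n))) ∩ (PrimeSpectrum.zeroLocus (I : Set (Pol A n)) ∩
          PrimeSpectrum.comap (algebraMap A (Pol A n)) ⁻¹' {PrimeSpectrum.comap (algebraMap A (Pol A n)) Q})) :=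
        ⟨fun x => x.2.1 x.2.2.1⟩
      exact (le_of_eq (Order.krullDim_eq_bot_iff.mpr ⟨fun Z => IsEmpty.false Z.isIrreducible.nonempty.some⟩)).trans bot_le
  rw [hset]
  exact (PrimeSpectrum.isClosed_zeroLocus _).isOpen_compl.union hO

variable [Module A M] [IsScalarTower A (Pol A n) M] [Module.FinitePresentation (Pol A n) M] [Module.Flat A M]

theorem isOpen_codepth_le (k : ℕ) : IsOpen {Q : PrimeSpectrum (Pol A n) |
    Module.supportDim (EGA4.FibLocRing A (Pol A n) Q.asIdeal) (EGA4.FibLocRing A (Pol A n) Q.asIdeal ⊗[Pol A n] M) ≤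
      ((LocCoh.depth (EGA4.FibLocRing A (Pol A n) Q.asIdeal)
        (EGA4.FibLocRing A (Pol A n) Q.asIdeal ⊗[Pol A n] M) : ℕ∞) : WithBot ℕ∞) + k} := by
  have hset : {Q : PrimeSpectrum (Pol A n) |
      Module.supportDim (EGA4.FibLocRing A (Pol A n) Q.asIdeal) (EGA4.FibLocRing A (Pol A n) Q.asIdeal ⊗[Pol A n] M) ≤
        ((LocCoh.depth (EGA4.FibLocRing A (Pol A n) Q.asIdeal)
          (EGA4.FibLocRing A (Pol A n) Q.asIdeal ⊗[Pol A n] M) : ℕ∞) : WithBot ℕ∞) + k} =
      ⋃ e ∈ Finset.range (n + k + 1), {Q | PdFib M Q e} ∩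
        {Q | fibDimIn (PrimeSpectrum.comap (algebraMap A (Pol A n)))
          (PrimeSpectrum.zeroLocus (Module.annihilator (Pol A n) M : Set (Pol A n))) Q ≤ ((n + k - e : ℕ) : ℕ)} := by
    ext Q
    simp only [Set.mem_setOf_eq, Set.mem_iUnion, Set.mem_inter_iff, Finset.mem_range, exists_prop]
    rw [codepth_le_iff, ← Module.support_eq_zeroLocus]
    constructor
    · rintro ⟨e, he, hle⟩
      by_cases hQ : Q ∈ Module.support (Pol A n) M
      · obtain ⟨d, e', t, s, -, -, -, -, -, hf, -⟩ := exists_numbers Q M hQ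
        rw [hf] at hle ⊢
        have : s + t + e ≤ n + k := by exact_mod_cast hle
        exact ⟨e, by omega, he, by exact_mod_cast (show s + t ≤ n + k - e by omega)⟩
      · refine ⟨0, by omega, GrothLib.Serre.pdLE_zero_iff.mpr ?_, ?_⟩
        · haveI : Subsingleton (EGA4.FibLocRing A (Pol A n) Q.asIdeal ⊗[Pol A n] M) :=
            not_nontrivial_iff_subsingleton.mp fun h => hQ ((nontrivial_fibStalk_iff Q M).mp h)
          infer_instance
        · rw [fibDimIn_of_not_mem Q M hQ]; exact bot_le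
    · rintro ⟨e, he, hpd, hle⟩
      refine ⟨e, hpd, (add_le_add_left hle _).trans ?_⟩
      exact_mod_cast (show n + k - e + e ≤ n + k by omega)
  rw [hset]
  exact isOpen_biUnion fun e _ => (isOpen_pdFib M e).inter (isOpen_fibDimIn_le _ _)

theorem isOpen_le_rectifiedDepth (m : ℕ) : IsOpen {Q : PrimeSpectrum (Pol A n) |
    (m : WithBot ℕ∞) ≤ ((LocCoh.depth (EGA4.FibLocRing A (Pol A n) Q.asIdeal)
        (EGA4.FibLocRing A (Pol A n) Q.asIdeal ⊗[Pol A n] M) : ℕ∞) : WithBot ℕ∞) + ptDimFib Q} := by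
  have hset : {Q : PrimeSpectrum (Pol A n) |
      (m : WithBot ℕ∞) ≤ ((LocCoh.depth (EGA4.FibLocRing A (Pol A n) Q.asIdeal)
          (EGA4.FibLocRing A (Pol A n) Q.asIdeal ⊗[Pol A n] M) : ℕ∞) : WithBot ℕ∞) + ptDimFib Q} =
      (Module.support (Pol A n) M)ᶜ ∪ ⋃ (e : ℕ) (_ : m + e ≤ n), {Q | PdFib M Q e} := by
    ext Q
    simp only [Set.mem_setOf_eq, Set.mem_union, Set.mem_compl_iff, Set.mem_iUnion, exists_prop]
    rw [le_rectifiedDepth_iff]
    exact or_congr Iff.rfl ⟨fun ⟨e, h1, h2⟩ => ⟨e, h2, h1⟩, fun ⟨e, h1, h2⟩ => ⟨e, h2, h1⟩⟩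
  rw [hset]
  refine IsOpen.union ?_ (isOpen_iUnion fun e => isOpen_iUnion fun _ => isOpen_pdFib M e)
  rw [Module.support_eq_zeroLocus]
  exact (PrimeSpectrum.isClosed_zeroLocus _).isOpen_compl

end GrothLib.FibPd
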