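import Groth.Agent.Lib.FibPd.AssScheme
import Groth.Agent.Lib.AssPts.Restrict

/-!
# Dimensions of the components of the support on fibres
-/

set_option autoImplicit false
set_option backward.isDefEq.respectTransparency false
set_option linter.style.haveILetI false
universe u

open CategoryTheory AlgebraicGeometry Topology TopologicalSpace Limits

namespace GrothLib.FibPd

theorem subset_closure_of_specializes {α : Type*} [TopologicalSpace α] {T : Set α} (hT : IsClosed T) {z : α}
    (hz : z ∈ T) : closure ({z} : Set α) ⊆ T :=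
  closure_minimal (Set.singleton_subset_iff.2 hz) hT

/-- The generic point of a component of a closed subset. -/
theorem exists_generic_component {α : Type u} [TopologicalSpace α] [QuasiSober α] {T : Set α} (hT : IsClosed T)
    {Z : Set ↥T} (hZ : Z ∈ irreducibleComponents ↥T) :
    ∃ η ∈ T, closure ({η} : Set α) = Subtype.val '' Z ∧
      topologicalKrullDim ↥Z = topologicalKrullDim ↥(closure ({η} : Set α)) ∧
      ∀ z ∈ T, η ∈ closure ({z} : Set α) → z ∈ closure ({η} : Set α) := by
  have hcl : IsClosed (Subtype.val '' Z) :=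
    hT.isClosedEmbedding_subtypeVal.isClosedMap _ (isClosed_of_mem_irreducibleComponents Z hZ)
  have hirr : IsIrreducible (Subtype.val '' Z) := hZ.1.image _ continuous_subtype_val.continuousOn
  obtain ⟨η, hη⟩ := QuasiSober.sober hirr hcl
  have hgen : closure ({η} : Set α) = Subtype.val '' Z := hη
  have hηT : η ∈ T := by
    obtain ⟨w, -, hw⟩ := hgen.subset (subset_closure rfl)
    exact hw ▸ w.2
  refine ⟨η, hηT, hgen, ?_, fun z hz hzη => ?_⟩
  · rw [hgen]
    exact IsHomeomorph.topologicalKrullDim_eq _ (IsEmbedding.subtypeVal.homeomorphImage Z).isHomeomorph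
  · have hsub := subset_closure_of_specializes hT hz
    have hirr' : IsIrreducible (Subtype.val ⁻¹' closure ({z} : Set α) : Set ↥T) := by
      rw [show (Subtype.val ⁻¹' closure ({z} : Set α) : Set ↥T) = closure {(⟨z, hz⟩ : ↥T)} by
        rw [IsEmbedding.subtypeVal.isInducing.closure_eq_preimage_closure_image, Set.image_singleton]]
      exact isIrreducible_singleton.closure
    have hle : Z ⊆ Subtype.val ⁻¹' closure ({z} : Set α) := fun w hw =>
      closure_minimal (Set.singleton_subset_iff.2 hzη) isClosed_closure (hgen.symm.subset ⟨w, hw, rfl⟩)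
    have heq : Z = Subtype.val ⁻¹' closure ({z} : Set α) := subset_antisymm hle (hZ.2 hirr' hle)
    rw [hgen]
    exact ⟨⟨z, hz⟩, by rw [heq]; exact subset_closure rfl, rfl⟩

variable {X Y : Scheme.{u}} (f : X ⟶ Y) [LocallyOfFinitePresentation f] (F : X.Modules)

theorem isLocallyNoetherian_fibre (y : Y) : IsLocallyNoetherian (f.fiber y) :=
  haveI : LocallyOfFiniteType (f.fiberToSpecResidueField y) := MorphismProperty.pullback_snd f _ inferInstance
  LocallyOfFiniteType.isLocallyNoetherian (f.fiberToSpecResidueField y)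

theorem support_eq_nontrivial (y : Y) :
    {z : ↥(f.fiber y) | Nontrivial (((Scheme.Modules.pullback (f.fiberι y)).obj F).presheaf.stalk z)} =
      CohB1.support ((Scheme.Modules.pullback (f.fiberι y)).obj F) :=
  Set.ext fun _ => not_subsingleton_iff_nontrivial.symm

variable {F}

theorem isCoh_fibre (hF : CohB1.IsFP F) (y : Y) : Coh.IsCoh ((Scheme.Modules.pullback (f.fiberι y)).obj F) := by
  haveI := isQuasicoherent_of_isFP hF
  haveI : CohB1.IsFP ((Scheme.Modules.pullback (f.fiberι y)).obj F) :=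
    GrothLib.FittSheaf.isFP_pullback (f.fiberι y) F hF
  exact ⟨inferInstance, inferInstance⟩

theorem isClosed_nontrivial (hF : CohB1.IsFP F) (y : Y) :
    IsClosed {z : ↥(f.fiber y) | Nontrivial (((Scheme.Modules.pullback (f.fiberι y)).obj F).presheaf.stalk z)} := by
  rw [support_eq_nontrivial]
  exact GrothLib.QCoh.isClosed_support _ (isCoh_fibre f hF y).2

theorem nontrivial_of_ass (y : Y) {z : ↥(f.fiber y)}
    (hz : z ∈ AssSch.Ass ((Scheme.Modules.pullback (f.fiberι y)).obj F)) :
    Nontrivial (((Scheme.Modules.pullback (f.fiberι y)).obj F).presheaf.stalk z) := by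
  haveI := isLocallyNoetherian_fibre f y
  exact not_subsingleton_iff_nontrivial.1 (GrothLib.AssPts.mem_support_of_isAssPoint _ hz)

/-- The generic point of a component of the support is associated, and only itself lies above it. -/
theorem exists_generic_ass (hF : CohB1.IsFP F) (y : Y)
    {Z : Set ↥{z : ↥(f.fiber y) | Nontrivial (((Scheme.Modules.pullback (f.fiberι y)).obj F).presheaf.stalk z)}}
    (hZ : Z ∈ irreducibleComponents ↥{z : ↥(f.fiber y) | Nontrivial (((Scheme.Modules.pullback (f.fiberι y)).obj F).presheaf.stalk z)}) :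
    ∃ η ∈ AssSch.Ass ((Scheme.Modules.pullback (f.fiberι y)).obj F),
      topologicalKrullDim ↥Z = topologicalKrullDim ↥(closure ({η} : Set ↥(f.fiber y))) ∧
      closure ({η} : Set ↥(f.fiber y)) = Subtype.val '' Z ∧
      ∀ z ∈ AssSch.Ass ((Scheme.Modules.pullback (f.fiberι y)).obj F), η ∈ closure {z} → z = η := by
  haveI := isLocallyNoetherian_fibre f y
  obtain ⟨η, hηT, hgen, hdim, huniq⟩ := exists_generic_component (isClosed_nontrivial f hF y) hZ
  have huniq' : ∀ z, Nontrivial (((Scheme.Modules.pullback (f.fiberι y)).obj F).presheaf.stalk z) →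
      η ∈ closure ({z} : Set ↥(f.fiber y)) → z = η := fun z hz hzη =>
    ((specializes_iff_mem_closure.2 (huniq z hz hzη)).antisymm (specializes_iff_mem_closure.2 hzη)).eq.symm
  obtain ⟨z, hz, hzη⟩ := GrothLib.AssPts.exists_ass_specializes _ (isCoh_fibre f hF y)
    (x := η) (not_subsingleton_iff_nontrivial.2 hηT)
  obtain rfl := huniq' z (nontrivial_of_ass f y hz) (specializes_iff_mem_closure.1 hzη)
  exact ⟨z, hz, hdim, hgen, fun w hw hwη => huniq' w (nontrivial_of_ass f y hw) hwη⟩

/-- Some component of the support has dimension `m`. -/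
theorem exists_component_dim_iff (hF : CohB1.IsFP F) (y : Y) (m : ℕ) :
    (∃ Z ∈ irreducibleComponents ↥{z : ↥(f.fiber y) | Nontrivial (((Scheme.Modules.pullback (f.fiberι y)).obj F).presheaf.stalk z)},
      topologicalKrullDim ↥Z = (m : WithBot ℕ∞)) ↔
    ∃ z : ↥(f.fiber y), Nontrivial (((Scheme.Modules.pullback (f.fiberι y)).obj F).presheaf.stalk z) ∧
      ∀ z' ∈ AssSch.Ass ((Scheme.Modules.pullback (f.fiberι y)).obj F), z ∈ closure {z'} → DimIn f {m} y z' := by
  constructor
  · rintro ⟨Z, hZ, hdim⟩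
    obtain ⟨η, hη, hd, -, huniq⟩ := exists_generic_ass f hF y hZ
    refine ⟨η, nontrivial_of_ass f y hη, fun z' hz' hηz' => ?_⟩
    obtain rfl := huniq z' hz' hηz'
    exact ⟨m, rfl, hd.symm.trans hdim⟩
  · rintro ⟨z, hz, h⟩
    let T : Set ↥(f.fiber y) :=
      {z : ↥(f.fiber y) | Nontrivial (((Scheme.Modules.pullback (f.fiberι y)).obj F).presheaf.stalk z)}
    let w : ↥T := ⟨z, hz⟩
    have hZ : irreducibleComponent w ∈ irreducibleComponents ↥T := irreducibleComponent_mem_irreducibleComponents w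
    obtain ⟨η, hη, hd, hgen, -⟩ := exists_generic_ass f hF y hZ
    obtain ⟨_, rfl, hdim⟩ := h η hη (hgen.symm.subset ⟨w, mem_irreducibleComponent, rfl⟩)
    exact ⟨_, hZ, hd.trans hdim⟩

theorem isOpen_components_supset (hF : CohB1.IsFP F) (hflat : FlatMod.IsFlatOver f F) (Φ : Finset ℕ) :
    IsOpen {y : Y | ∀ n ∈ Φ, ∃ Z ∈ irreducibleComponents ↥{z : ↥(f.fiber y) | Nontrivial (((Scheme.Modules.pullback (f.fiberι y)).obj F).presheaf.stalk z)},
      topologicalKrullDim ↥Z = (n : WithBot ℕ∞)} := by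
  rw [show {y : Y | ∀ n ∈ Φ, ∃ Z ∈ irreducibleComponents ↥{z : ↥(f.fiber y) | Nontrivial (((Scheme.Modules.pullback (f.fiberι y)).obj F).presheaf.stalk z)},
      topologicalKrullDim ↥Z = (n : WithBot ℕ∞)} =
    ⋂ n ∈ Φ, f '' {x : X | Nontrivial (((Scheme.Modules.pullback (f.fiberι (f.base x))).obj F).presheaf.stalk (f.asFiber x)) ∧
      AssThrough f F (DimIn f {n}) x} from ?_]
  · exact isOpen_biInter_finset fun n _ => isOpen_exists_dim f F hF hflat n
  ext y
  simp only [Set.mem_setOf_eq, Set.mem_iInter, exists_component_dim_iff f hF]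
  let P : ∀ y, ↥(f.fiber y) → ℕ → Prop := fun y z n =>
    Nontrivial (((Scheme.Modules.pullback (f.fiberι y)).obj F).presheaf.stalk z) ∧
      ∀ z' ∈ AssSch.Ass ((Scheme.Modules.pullback (f.fiberι y)).obj F), z ∈ closure {z'} → DimIn f {n} y z'
  refine forall₂_congr fun n _ => ⟨?_, ?_⟩
  · rintro ⟨z, hz⟩
    exact ⟨f.fiberι y z, (asFiber_iff f (fun y z => P y z n) y z).2 hz, GrothLib.FibreFlat.fiberι_comp_apply f y z⟩
  · rintro ⟨x, hx, rfl⟩
    exact ⟨f.asFiber x, hx⟩

theorem noEmbedded_and_image_iff (hF : CohB1.IsFP F) (Φ : Finset ℕ) (y : Y) :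
    (AssSch.NoEmbedded ((Scheme.Modules.pullback (f.fiberι y)).obj F) ∧
      (fun Z : Set ↥{z : ↥(f.fiber y) | Nontrivial (((Scheme.Modules.pullback (f.fiberι y)).obj F).presheaf.stalk z)} => topologicalKrullDim ↥Z) '' irreducibleComponents ↥{z : ↥(f.fiber y) | Nontrivial (((Scheme.Modules.pullback (f.fiberι y)).obj F).presheaf.stalk z)} =
        (fun n : ℕ => (n : WithBot ℕ∞)) '' (Φ : Set ℕ)) ↔
    (∀ z ∈ AssSch.Ass ((Scheme.Modules.pullback (f.fiberι y)).obj F), NotEmbedded f F y z) ∧
      (∀ z ∈ AssSch.Ass ((Scheme.Modules.pullback (f.fiberι y)).obj F), DimIn f (Φ : Set ℕ) y z) ∧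
      ∀ n ∈ Φ, ∃ Z ∈ irreducibleComponents ↥{z : ↥(f.fiber y) | Nontrivial (((Scheme.Modules.pullback (f.fiberι y)).obj F).presheaf.stalk z)},
        topologicalKrullDim ↥Z = (n : WithBot ℕ∞) := by
  constructor
  · rintro ⟨hne, himg⟩
    refine ⟨fun z hz z' hz' hzz' => (hne z hz z' hz' (specializes_iff_mem_closure.2 hzz')).symm, fun z hz => ?_,
      fun n hn => himg.symm.subset ⟨n, hn, rfl⟩⟩
    let T : Set ↥(f.fiber y) :=
      {z : ↥(f.fiber y) | Nontrivial (((Scheme.Modules.pullback (f.fiberι y)).obj F).presheaf.stalk z)}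
    let w : ↥T := ⟨z, nontrivial_of_ass f y hz⟩
    have hZ : irreducibleComponent w ∈ irreducibleComponents ↥T := irreducibleComponent_mem_irreducibleComponents w
    obtain ⟨η, hη, hd, hgen, -⟩ := exists_generic_ass f hF y hZ
    have hzη : z ∈ closure ({η} : Set ↥(f.fiber y)) := hgen.symm.subset ⟨w, mem_irreducibleComponent, rfl⟩
    obtain rfl := hne z hz η hη (specializes_iff_mem_closure.2 hzη)
    obtain ⟨n, hn, hn'⟩ := himg.subset ⟨_, hZ, rfl⟩
    exact ⟨n, hn, hd.symm.trans hn'.symm⟩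
  · rintro ⟨hne, hsub, hsup⟩
    refine ⟨fun z hz z' hz' hzz' => (hne z hz z' hz' (specializes_iff_mem_closure.1 hzz')).symm, ?_⟩
    refine Set.eq_of_subset_of_subset ?_ ?_
    · rintro _ ⟨Z, hZ, rfl⟩
      obtain ⟨η, hη, hd, -, -⟩ := exists_generic_ass f hF y hZ
      obtain ⟨n, hn, hn'⟩ := hsub η hη
      exact ⟨n, hn, (hd.trans hn').symm⟩
    · rintro _ ⟨n, hn, rfl⟩
      obtain ⟨Z, hZ, hd⟩ := hsup n hn
      exact ⟨Z, hZ, hd⟩

theorem isOpen_noEmb_and_components_eq [IsProper f] (hF : CohB1.IsFP F) (hflat : FlatMod.IsFlatOver f F) (Φ : Finset ℕ) :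
    IsOpen {y : Y | AssSch.NoEmbedded ((Scheme.Modules.pullback (f.fiberι y)).obj F) ∧
      (fun Z : Set ↥{z : ↥(f.fiber y) | Nontrivial (((Scheme.Modules.pullback (f.fiberι y)).obj F).presheaf.stalk z)} => topologicalKrullDim ↥Z) '' irreducibleComponents ↥{z : ↥(f.fiber y) | Nontrivial (((Scheme.Modules.pullback (f.fiberι y)).obj F).presheaf.stalk z)} =
        (fun n : ℕ => (n : WithBot ℕ∞)) '' (Φ : Set ℕ)} := by
  simp only [noEmbedded_and_image_iff f hF]
  exact (isOpen_forall_noEmb f F hF hflat).inter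
    ((isOpen_forall_assDims f F hF hflat _).inter (isOpen_components_supset f hF hflat Φ))

end GrothLib.FibPd
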