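import Groth.Agent.Lib.FibPd.EquidimScheme
import Groth.Agent.Lib.FibPd.GenConstr

/-!
# Associated points of the fibres of a flat module
-/

set_option autoImplicit false
set_option linter.style.haveILetI false
universe u

open TensorProduct Function IsLocalRing MvPolynomial Topology TopologicalSpace

namespace GrothLib.FibPd

attribute [local instance] MvPolynomial.algebraMvPolynomial

variable {A : Type u} [CommRing A] {n : ℕ}

theorem nonempty_fibEquiv_of_eq (Q : PrimeSpectrum (Pol A n)) (p : Ideal A) [p.IsPrime]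
    (hp : Q.asIdeal.comap (algebraMap A (Pol A n)) = p) (Q' : PrimeSpectrum (Pol p.ResidueField n))
    (hQ : Q'.asIdeal.comap (algebraMap (Pol A n) (Pol p.ResidueField n)) = Q.asIdeal) :
    Nonempty (EGA4.FibLocRing A (Pol A n) Q.asIdeal ≃ₐ[Pol A n] Localization.AtPrime Q'.asIdeal) := by
  subst hp
  exact nonempty_fibEquiv Q Q' hQ

/-- The dimension of the closure drops strictly under specialisation in the fibre. -/
theorem eq_of_ptDimFib_le {y z : PrimeSpectrum (Pol A n)} (h : y.asIdeal ≤ z.asIdeal)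
    (hb : y.asIdeal.comap (algebraMap A (Pol A n)) = z.asIdeal.comap (algebraMap A (Pol A n)))
    (hle : ptDimFib y ≤ ptDimFib z) : y = z := by
  let p := PrimeSpectrum.comap (algebraMap A (Pol A n)) z
  let k := p.asIdeal.ResidueField
  obtain ⟨hemb, hrange⟩ := isEmbedding_comap_fibre (n := n) p
  obtain ⟨y', hy'⟩ : ∃ y', PrimeSpectrum.comap (algebraMap (Pol A n) (Pol k n)) y' = y :=
    hrange.symm.subset (show PrimeSpectrum.comap (algebraMap A (Pol A n)) y = p from PrimeSpectrum.ext hb)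
  obtain ⟨z', hz'⟩ : ∃ z', PrimeSpectrum.comap (algebraMap (Pol A n) (Pol k n)) z' = z :=
    hrange.symm.subset (show PrimeSpectrum.comap (algebraMap A (Pol A n)) z = p from rfl)
  haveI := GrothLib.FlatOff.isLocalRing_fibLocRing (A := A) y.asIdeal
  haveI := GrothLib.FlatOff.isLocalRing_fibLocRing (A := A) z.asIdeal
  obtain ⟨ey⟩ := nonempty_fibEquiv_of_eq y p.asIdeal hb y' (congrArg PrimeSpectrum.asIdeal hy')
  obtain ⟨ez⟩ := nonempty_fibEquiv_of_eq z p.asIdeal rfl z' (congrArg PrimeSpectrum.asIdeal hz')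
  obtain ⟨ty, Dy, hty, hDy, hny, -⟩ := fibre_data y (Pol A n)
  obtain ⟨tz, Dz, htz, hDz, hnz, -⟩ := fibre_data z (Pol A n)
  rw [ringKrullDim_eq_of_ringEquiv ey.toRingEquiv,
    IsLocalization.AtPrime.ringKrullDim_eq_height y'.asIdeal] at hDy
  rw [ringKrullDim_eq_of_ringEquiv ez.toRingEquiv,
    IsLocalization.AtPrime.ringKrullDim_eq_height z'.asIdeal] at hDz
  have hle' : y' ≤ z' := by
    rw [PrimeSpectrum.le_iff_specializes, ← hemb.isInducing.specializes_iff, hy', hz']
    exact (PrimeSpectrum.le_iff_specializes y z).1 h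
  rcases hle'.eq_or_lt with heq | hlt
  · rw [← hy', ← hz', heq]
  exfalso
  rw [hty, htz] at hle
  have htt : ty ≤ tz := by exact_mod_cast hle
  have hDy' : y'.asIdeal.height = (Dy : ℕ∞) := by exact_mod_cast hDy
  have hDz' : z'.asIdeal.height = (Dz : ℕ∞) := by exact_mod_cast hDz
  haveI : y'.asIdeal.FiniteHeight := ⟨Or.inr (by rw [hDy']; exact ENat.natCast_ne_top Dy)⟩
  have hh := Ideal.height_strict_mono_of_isPrime ((PrimeSpectrum.asIdeal_lt_asIdeal y' z').2 hlt)
  rw [hDy', hDz'] at hh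
  have hDD : Dy < Dz := by exact_mod_cast hh
  omega

variable {M : Type u} [AddCommGroup M] [Module (Pol A n) M]

theorem mem_support_of_fibDepth_eq_zero [Module.Finite (Pol A n) M] {y : PrimeSpectrum (Pol A n)} (h : fibDepth M y = 0) :
    y ∈ Module.support (Pol A n) M := by
  by_contra hy
  haveI : Subsingleton (EGA4.FibLocRing A (Pol A n) y.asIdeal ⊗[Pol A n] M) :=
    not_nontrivial_iff_subsingleton.mp fun h => hy ((nontrivial_fibStalk_iff y M).mp h)
  rw [fibDepth, GrothLib.Depth.depth_eq_top_of_subsingleton] at h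
  exact ENat.top_ne_zero h

theorem fibSdim_eq_zero_imp [Module.Finite (Pol A n) M] {y : PrimeSpectrum (Pol A n)} (h : fibSdim M y = 0) :
    fibDepth M y = 0 := by
  have hys : y ∈ Module.support (Pol A n) M := by
    by_contra hys
    haveI : Subsingleton (EGA4.FibLocRing A (Pol A n) y.asIdeal ⊗[Pol A n] M) :=
      not_nontrivial_iff_subsingleton.mp fun h => hys ((nontrivial_fibStalk_iff y M).mp h)
    rw [fibSdim, Module.supportDim_eq_bot_of_subsingleton] at h
    exact absurd h (by simp)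
  obtain ⟨d, e, t, s, hn, ht, hd, he, hs, -, hds⟩ := exists_numbers y M hys
  rw [fibSdim, hs] at h
  have hs0 : s = 0 := by exact_mod_cast h
  rw [show fibDepth M y = d from hd, show d = 0 by omega, Nat.cast_zero]

variable [Module.Finite (Pol A n) M]

/-- Through a set: an associated point of the fibre of given dimension. -/
theorem genIn_wSet_inter_iff (Z : Set (PrimeSpectrum (Pol A n))) {τ : ℕ} (Q : PrimeSpectrum (Pol A n)) :
    GenIn (WSet M (n - τ) ∩ Z) τ Q ↔ ∃ y : PrimeSpectrum (Pol A n), y.asIdeal ≤ Q.asIdeal ∧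
      y.asIdeal.comap (algebraMap A (Pol A n)) = Q.asIdeal.comap (algebraMap A (Pol A n)) ∧
      fibDepth M y = 0 ∧ y ∈ Z ∧ ptDimFib y = τ := by
  constructor
  · rintro ⟨y, hy, hyp, ⟨⟨hys, hpd⟩, hyZ⟩, hyt⟩
    obtain ⟨d, e, t, s, hn, ht, hd, he, -, -, -⟩ := exists_numbers y M hys
    rw [ht] at hyt
    have hle : n - τ ≤ e := by
      by_contra hlt
      exact Set.mem_iInter₂.1 hpd e (not_le.mp hlt) ((he e).2 le_rfl)
    have hτ : τ ≤ t := by exact_mod_cast hyt
    refine ⟨y, hy, hyp, ?_, hyZ, ?_⟩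
    · rw [show fibDepth M y = d from hd, show d = 0 by omega, Nat.cast_zero]
    · rw [ht]; exact_mod_cast (show t = τ by omega)
  · rintro ⟨y, hy, hyp, hy0, hyZ, hyt⟩
    have hys := mem_support_of_fibDepth_eq_zero hy0
    obtain ⟨d, e, t, s, hn, ht, hd, he, -, -, -⟩ := exists_numbers y M hys
    rw [show fibDepth M y = d from hd] at hy0
    rw [ht] at hyt
    have hd0 : d = 0 := by exact_mod_cast hy0
    have htτ : t = τ := natCast_withBot_inj hyt
    refine ⟨y, hy, hyp, ⟨⟨hys, Set.mem_iInter₂.2 fun e' he' h => ?_⟩, hyZ⟩, by rw [ht, htτ]⟩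
    have := (he e').1 h
    have := Set.mem_Iio.1 he'
    omega

theorem exists_ptDimFib_eq (y : PrimeSpectrum (Pol A n)) : ∃ t : ℕ, t ≤ n ∧ ptDimFib y = t := by
  obtain ⟨t, D, ht, -, hDt, -⟩ := fibre_data y (Pol A n)
  exact ⟨t, by omega, ht⟩

/-- Below every point of the support lies an associated point of maximal dimension. -/
theorem exists_ass_max {Q : PrimeSpectrum (Pol A n)} (hQ : Q ∈ Module.support (Pol A n) M) :
    ∃ y : PrimeSpectrum (Pol A n), y.asIdeal ≤ Q.asIdeal ∧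
      y.asIdeal.comap (algebraMap A (Pol A n)) = Q.asIdeal.comap (algebraMap A (Pol A n)) ∧
      fibDepth M y = 0 ∧
      ptDimFib y = fibDimIn (PrimeSpectrum.comap (algebraMap A (Pol A n))) (Module.support (Pol A n) M) Q := by
  obtain ⟨d, e, t, s, -, ht, -, -, -, hfd, -⟩ := exists_numbers Q M hQ
  have hsupp := Module.support_eq_zeroLocus (R := Pol A n) (M := M)
  obtain ⟨y, hy, hyp, hyS, hyt⟩ := (genIn_zeroLocus_iff (Module.annihilator (Pol A n) M) (s + t) Q).2
    (by rw [← hsupp, hfd])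
  rw [← hsupp] at hyS
  obtain ⟨d', e', t', s', -, ht', hd', -, -, hfd', hds'⟩ := exists_numbers y M hyS
  rw [ht'] at hyt
  have h1 : s + t ≤ t' := by exact_mod_cast hyt
  have h2 : ((s' + t' : ℕ) : WithBot ℕ∞) ≤ ((s + t : ℕ) : WithBot ℕ∞) := by
    rw [← hfd', ← hfd]
    obtain ⟨y', hy', hyp', hy'S, hy't⟩ := (genIn_zeroLocus_iff (Module.annihilator (Pol A n) M) (s' + t') y).2
      (by rw [← hsupp, hfd'])
    rw [hfd', hsupp]
    exact (genIn_zeroLocus_iff (Module.annihilator (Pol A n) M) (s' + t') Q).1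
      ⟨y', hy'.trans hy, hyp'.trans hyp, hy'S, hy't⟩
  have h2' : s' + t' ≤ s + t := by exact_mod_cast h2
  refine ⟨y, hy, hyp, ?_, ?_⟩
  · rw [show fibDepth M y = d' from hd', show d' = 0 by omega, Nat.cast_zero]
  · rw [ht', hfd]; exact_mod_cast (show t' = s + t by omega)

/-- All associated points through `Q` have dimension in `Φ`. -/
def AssDimGood (M : Type u) [AddCommGroup M] [Module (Pol A n) M] (Φ : Set ℕ) (Q : PrimeSpectrum (Pol A n)) : Prop :=
  ∀ y : PrimeSpectrum (Pol A n), y.asIdeal ≤ Q.asIdeal →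
    y.asIdeal.comap (algebraMap A (Pol A n)) = Q.asIdeal.comap (algebraMap A (Pol A n)) → fibDepth M y = 0 →
      ∃ τ ∈ Φ, ptDimFib y = (τ : ℕ)

/-- No associated point through `Q` is embedded. -/
def NoEmbGood (M : Type u) [AddCommGroup M] [Module (Pol A n) M] (Q : PrimeSpectrum (Pol A n)) : Prop :=
  ∀ y y' : PrimeSpectrum (Pol A n), y.asIdeal ≤ Q.asIdeal →
    y.asIdeal.comap (algebraMap A (Pol A n)) = Q.asIdeal.comap (algebraMap A (Pol A n)) → fibDepth M y = 0 →
    y'.asIdeal ≤ y.asIdeal →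
    y'.asIdeal.comap (algebraMap A (Pol A n)) = y.asIdeal.comap (algebraMap A (Pol A n)) → fibDepth M y' = 0 →
      y' = y

theorem setOf_assDimGood (Φ : Set ℕ) : {Q : PrimeSpectrum (Pol A n) | AssDimGood M Φ Q} =
    ⋂ τ ∈ Set.Iic n \ Φ, {Q : PrimeSpectrum (Pol A n) | ¬ GenIn (WSet M (n - τ) ∩ Set.univ) τ Q} := by
  ext Q
  simp only [Set.mem_setOf_eq, Set.mem_iInter]
  refine ⟨fun h τ hτ hG => ?_, fun h y hy hyp hy0 => ?_⟩
  · obtain ⟨y, hy, hyp, hy0, -, hyt⟩ := (genIn_wSet_inter_iff _ Q).1 hG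
    obtain ⟨τ', hτ', hyt'⟩ := h y hy hyp hy0
    exact hτ.2 (natCast_withBot_inj (hyt.symm.trans hyt') ▸ hτ')
  · obtain ⟨t, htn, ht⟩ := exists_ptDimFib_eq y
    by_contra hcon
    exact h t ⟨htn, fun hmem => hcon ⟨t, hmem, ht⟩⟩
      ((genIn_wSet_inter_iff _ Q).2 ⟨y, hy, hyp, hy0, trivial, ht⟩)

theorem setOf_noEmbGood : {Q : PrimeSpectrum (Pol A n) | NoEmbGood M Q} =
    ⋂ τ ∈ Set.Iic n, ⋂ τ' ∈ Set.Iic n \ Set.Iic τ, {Q : PrimeSpectrum (Pol A n) |
      ¬ GenIn (WSet M (n - τ) ∩ {y | GenIn (WSet M (n - τ') ∩ Set.univ) τ' y}) τ Q} := by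
  ext Q
  simp only [Set.mem_setOf_eq, Set.mem_iInter]
  refine ⟨fun h τ _ τ' hτ' hG => ?_, fun h y y' hy hyp hy0 hy' hyp' hy0' => ?_⟩
  · obtain ⟨y, hy, hyp, hy0, hyG, hyt⟩ := (genIn_wSet_inter_iff _ Q).1 hG
    obtain ⟨y', hy', hyp', hy0', -, hyt'⟩ := (genIn_wSet_inter_iff _ y).1 hyG
    obtain rfl := h y y' hy hyp hy0 hy' hyp' hy0'
    exact hτ'.2 (Set.mem_Iic.2 (natCast_withBot_inj (hyt'.symm.trans hyt)).le)
  · obtain ⟨t, htn, ht⟩ := exists_ptDimFib_eq y
    obtain ⟨t', htn', ht'⟩ := exists_ptDimFib_eq y'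
    by_contra hne
    have hlt : t < t' := by
      by_contra hle
      refine hne (eq_of_ptDimFib_le hy' hyp' ?_)
      rw [ht, ht']
      exact_mod_cast not_lt.1 hle
    exact h t htn t' ⟨htn', by simpa using hlt⟩ ((genIn_wSet_inter_iff _ Q).2
      ⟨y, hy, hyp, hy0, (genIn_wSet_inter_iff _ y).2 ⟨y', hy', hyp', hy0', trivial, ht'⟩, ht⟩)

theorem skGood_one_iff (Q : PrimeSpectrum (Pol A n)) :
    SkGood M 1 Q ↔ ∀ y : PrimeSpectrum (Pol A n), y.asIdeal ≤ Q.asIdeal →
      y.asIdeal.comap (algebraMap A (Pol A n)) = Q.asIdeal.comap (algebraMap A (Pol A n)) → fibDepth M y = 0 →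
        fibSdim M y = 0 := by
  refine forall₃_congr fun y hy hyp => ⟨fun h hy0 => ?_, fun h hbad => ?_⟩
  · have hys := mem_support_of_fibDepth_eq_zero hy0
    obtain ⟨d, e, t, s, -, -, hd, -, hs, -, -⟩ := exists_numbers y M hys
    rw [show fibDepth M y = d from hd] at hy0
    have hd0 : d = 0 := by exact_mod_cast hy0
    rw [SkBad, not_not, hs, hd, hd0] at h
    rw [fibSdim, hs]
    rcases Nat.eq_zero_or_pos s with rfl | hpos
    · exact Nat.cast_zero
    rw [min_eq_left (by exact_mod_cast (show 1 ≤ s from hpos))] at h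
    exact absurd h (by norm_num)
  · have hys := mem_support_of_skBad hbad
    obtain ⟨d, e, t, s, -, -, hd, -, hs, -, hds⟩ := exists_numbers y M hys
    rw [SkBad, hs, hd] at hbad
    rcases Nat.eq_zero_or_pos d with hd0 | hpos
    · have h0 := h (by rw [show fibDepth M y = d from hd, hd0, Nat.cast_zero])
      rw [fibSdim, hs] at h0
      refine hbad ?_
      rw [show s = 0 by exact_mod_cast h0, hd0]
      exact min_le_right _ _
    · exact hbad ((min_le_left _ _).trans (by exact_mod_cast (show 1 ≤ d from hpos)))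

/-- Equidimensional without embedded points means a single dimension of associated points. -/
theorem skGood_one_and_equidimGood_iff (Q : PrimeSpectrum (Pol A n)) :
    SkGood M 1 Q ∧ EquidimGood M Q ↔ ∃ τ ∈ Set.Iic n, AssDimGood M {τ} Q := by
  constructor
  · rintro ⟨hS, hE⟩
    by_cases hQ : Q ∈ Module.support (Pol A n) M
    · obtain ⟨y, hy, hyp, hy0, -⟩ := exists_ass_max hQ
      obtain ⟨t, htn, ht⟩ := exists_ptDimFib_eq y
      refine ⟨t, htn, fun y' hy' hyp' hy0' => ⟨t, rfl, ?_⟩⟩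
      rw [← ht]
      exact hE y' y hy' hyp' ((skGood_one_iff Q).1 hS y' hy' hyp' hy0') hy hyp
        ((skGood_one_iff Q).1 hS y hy hyp hy0)
    · refine ⟨0, Set.mem_Iic.2 (Nat.zero_le n), fun y hy hyp hy0 => absurd ?_ hQ⟩
      exact Module.mem_support_mono ((PrimeSpectrum.asIdeal_le_asIdeal y Q).1 hy) (mem_support_of_fibDepth_eq_zero hy0)
  · rintro ⟨τ, -, h⟩
    refine ⟨(skGood_one_iff Q).2 fun y hy hyp hy0 => ?_, fun y y' hy hyp hy0 hy' hyp' hy0' => ?_⟩
    · obtain ⟨_, rfl, hyt⟩ := h y hy hyp hy0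
      have hys := mem_support_of_fibDepth_eq_zero hy0
      obtain ⟨d, e, t, s, -, ht, -, -, hs, hfd, -⟩ := exists_numbers y M hys
      obtain ⟨z, hz, hzp, hz0, hzt⟩ := exists_ass_max hys
      obtain ⟨_, hτ, hzt'⟩ := h z (hz.trans hy) (hzp.trans hyp) hz0
      rw [Set.mem_singleton_iff] at hτ
      subst hτ
      have h1 := natCast_withBot_inj (hzt'.symm.trans (hzt.trans hfd))
      have h2 := natCast_withBot_inj (hyt.symm.trans ht)
      rw [fibSdim, hs, show s = 0 by omega, Nat.cast_zero]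
    · obtain ⟨_, rfl, h1⟩ := h y hy hyp (fibSdim_eq_zero_imp hy0)
      obtain ⟨_, rfl, h2⟩ := h y' hy' hyp' (fibSdim_eq_zero_imp hy0')
      rw [h1, h2]

/-- The points at which the associated points have one dimension and which have no generisation of small
codimension in `N`. -/
theorem setOf_smallGen_equidim (N : Set (PrimeSpectrum (Pol A n))) (k : ℕ) :
    {Q : PrimeSpectrum (Pol A n) | ¬ SmallGen M N k Q ∧ SkGood M 1 Q ∧ EquidimGood M Q} =
      ⋃ τ ∈ Set.Iic n, {Q | AssDimGood M {τ} Q} ∩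
        {Q | ¬ GenIn (N ∩ Module.support (Pol A n) M) (τ - k) Q} := by
  ext Q
  simp only [Set.mem_setOf_eq, Set.mem_iUnion, Set.mem_inter_iff, exists_prop, skGood_one_and_equidimGood_iff]
  -- with a single dimension of associated points, the codimension is read on the dimension
  have key : ∀ (τ : ℕ), AssDimGood M {τ} Q →
      (SmallGen M N k Q ↔ GenIn (N ∩ Module.support (Pol A n) M) (τ - k) Q) := by
    intro τ hτ
    refine exists_congr fun y => and_congr_right fun hy => and_congr_right fun hyp => ?_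
    rw [Set.mem_inter_iff, and_assoc]
    refine and_congr_right fun _ => and_congr_right fun hys => ?_
    obtain ⟨d, e, t, s, -, ht, -, -, hs, hfd, -⟩ := exists_numbers y M hys
    obtain ⟨z, hz, hzp, hz0, hzt⟩ := exists_ass_max hys
    obtain ⟨_, hτ', hzt'⟩ := hτ z (hz.trans hy) (hzp.trans hyp) hz0
    rw [Set.mem_singleton_iff] at hτ'
    subst hτ'
    have h1 := natCast_withBot_inj (hzt'.symm.trans (hzt.trans hfd))
    rw [fibSdim, hs, ht]
    norm_cast
    omega
  constructor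
  · rintro ⟨hS, τ, hτn, hτ⟩
    exact ⟨τ, hτn, hτ, fun h => hS ((key τ hτ).2 h)⟩
  · rintro ⟨τ, hτn, hτ, h⟩
    exact ⟨fun hS => h ((key τ hτ).1 hS), τ, hτn, hτ⟩

/-- The points without embedded points and with all associated points outside `N`. -/
theorem setOf_smallGen_zero (N : Set (PrimeSpectrum (Pol A n))) :
    {Q : PrimeSpectrum (Pol A n) | ¬ SmallGen M N 0 Q ∧ SkGood M 1 Q} =
      {Q | SkGood M 1 Q} ∩ ⋂ τ ∈ Set.Iic n, {Q | ¬ GenIn (WSet M (n - τ) ∩ N) τ Q} := by
  ext Q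
  simp only [Set.mem_setOf_eq, Set.mem_inter_iff, Set.mem_iInter]
  constructor
  · rintro ⟨hN, hS⟩
    refine ⟨hS, fun τ _ hG => hN ?_⟩
    obtain ⟨y, hy, hyp, hy0, hyN, -⟩ := (genIn_wSet_inter_iff _ Q).1 hG
    refine ⟨y, hy, hyp, hyN, mem_support_of_fibDepth_eq_zero hy0, ?_⟩
    rw [(skGood_one_iff Q).1 hS y hy hyp hy0, Nat.cast_zero]
  · rintro ⟨hS, h⟩
    refine ⟨?_, hS⟩
    rintro ⟨y, hy, hyp, hyN, hys, hs⟩
    obtain ⟨t, htn, ht⟩ := exists_ptDimFib_eq y
    have hs0 : fibSdim M y = 0 := by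
      obtain ⟨d, e, t', s, -, -, -, -, hs', -, -⟩ := exists_numbers y M hys
      rw [fibSdim, hs'] at hs ⊢
      exact le_antisymm (hs.trans_eq Nat.cast_zero) (by exact_mod_cast Nat.zero_le s)
    exact h t htn ((genIn_wSet_inter_iff _ Q).2 ⟨y, hy, hyp, fibSdim_eq_zero_imp hs0, hyN, ht⟩)

variable [Module A M] [IsScalarTower A (Pol A n) M] [Module.Flat A M]

theorem isClosed_setOf_genIn {S : Set (PrimeSpectrum (Pol A n))} (hS : IsClosed S) (τ : ℕ) :
    IsClosed {Q : PrimeSpectrum (Pol A n) | GenIn S τ Q} := by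
  rw [← isOpen_compl_iff]
  exact isOpen_not_genIn hS τ

theorem isOpen_assDimGood [Module.FinitePresentation (Pol A n) M] (Φ : Set ℕ) :
    IsOpen {Q : PrimeSpectrum (Pol A n) | AssDimGood M Φ Q} := by
  rw [setOf_assDimGood]
  exact ((Set.finite_Iic n).subset Set.sdiff_subset).isOpen_biInter fun τ _ =>
    isOpen_not_genIn ((isClosed_wSet _).inter isClosed_univ) τ

theorem isOpen_noEmbGood [Module.FinitePresentation (Pol A n) M] :
    IsOpen {Q : PrimeSpectrum (Pol A n) | NoEmbGood M Q} := by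
  rw [setOf_noEmbGood]
  exact (Set.finite_Iic n).isOpen_biInter fun τ _ =>
    ((Set.finite_Iic n).subset Set.sdiff_subset).isOpen_biInter fun τ' _ =>
      isOpen_not_genIn ((isClosed_wSet _).inter (isClosed_setOf_genIn ((isClosed_wSet _).inter isClosed_univ) τ')) τ

theorem isOpen_smallGen_equidim [Module.FinitePresentation (Pol A n) M] {N : Set (PrimeSpectrum (Pol A n))}
    (hN : IsClosed N) (k : ℕ) :
    IsOpen {Q : PrimeSpectrum (Pol A n) | ¬ SmallGen M N k Q ∧ SkGood M 1 Q ∧ EquidimGood M Q} := by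
  rw [setOf_smallGen_equidim]
  refine isOpen_biUnion fun τ _ => (isOpen_assDimGood _).inter (isOpen_not_genIn ?_ _)
  rw [Module.support_eq_zeroLocus]
  exact hN.inter (PrimeSpectrum.isClosed_zeroLocus _)

theorem isOpen_smallGen_zero [Module.FinitePresentation (Pol A n) M] {N : Set (PrimeSpectrum (Pol A n))}
    (hN : IsClosed N) : IsOpen {Q : PrimeSpectrum (Pol A n) | ¬ SmallGen M N 0 Q ∧ SkGood M 1 Q} := by
  rw [setOf_smallGen_zero]
  exact (isOpen_skGood 1).inter ((Set.finite_Iic n).isOpen_biInter fun τ _ =>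
    isOpen_not_genIn ((isClosed_wSet _).inter hN) τ)

end GrothLib.FibPd
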