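import Groth.Agent.Lib.FibPd.Transfer
import Groth.Agent.Lib.FibreFlat.Stalk
import Groth.Agent.Lib.QCoh.StalkPullback
import Groth.Agent.Lib.FlatFP.Sheaf
import Groth.Agent.Lib.DimCut.Basic

/-!
# Fibre stalks of a morphism through an affine chart
-/

set_option autoImplicit false
set_option linter.style.haveILetI false
universe u

open TensorProduct Function IsLocalRing CategoryTheory AlgebraicGeometry Topology TopologicalSpace

namespace GrothLib.FibPd

variable {X Y : Scheme.{u}} (f : X ⟶ Y) {V : Y.Opens} (hV : IsAffineOpen V) {W : X.Opens} (hW : IsAffineOpen W)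
  (e : W ≤ f ⁻¹ᵁ V)

/-- The map from the sections on the chart to a stalk of a fibre. -/
noncomputable def toFibStalk (y : Y) (z : ↥(f.fiber y)) (hz : f.fiberι y z ∈ W) :
    Γ(X, W) →+* (f.fiber y).presheaf.stalk z :=
  ((f.fiberι y).stalkMap z).hom.comp (X.presheaf.germ W (f.fiberι y z) hz).hom

set_option backward.isDefEq.respectTransparency false in
include hV hW in
/-- The fibre stalk is the fibre ring of the chart. -/
theorem toFibStalk_spec (y : Y) (z : ↥(f.fiber y)) (hz : f.fiberι y z ∈ W) :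
    (∀ u, u ∉ (hW.primeIdealOf ⟨_, hz⟩).asIdeal → IsUnit (toFibStalk f y z hz u)) ∧
    (∀ t, ∃ b u, u ∉ (hW.primeIdealOf ⟨_, hz⟩).asIdeal ∧ t * toFibStalk f y z hz u = toFibStalk f y z hz b) ∧
    (∀ b, toFibStalk f y z hz b = 0 ↔ ∃ u, u ∉ (hW.primeIdealOf ⟨_, hz⟩).asIdeal ∧
      u * b ∈ ((hW.primeIdealOf ⟨_, hz⟩).asIdeal.comap (f.appLE V W e).hom).map (f.appLE V W e).hom) := by
  let x := f.fiberι y z
  let q := (hW.primeIdealOf ⟨x, hz⟩).asIdeal
  let A := Γ(Y, V)
  let B := Γ(X, W)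
  letI : Algebra A B := (f.appLE V W e).hom.toAlgebra
  letI := X.presheaf.algebra_section_stalk ⟨x, hz⟩
  haveI : IsLocalization.AtPrime (X.presheaf.stalk x) q := hW.isLocalization_stalk ⟨x, hz⟩
  letI := Y.presheaf.algebra_section_stalk ⟨f x, e hz⟩
  haveI : IsLocalization.AtPrime (Y.presheaf.stalk (f x)) (hV.primeIdealOf ⟨f x, e hz⟩).asIdeal :=
    hV.isLocalization_stalk ⟨f x, e hz⟩
  obtain ⟨hsurj, hker⟩ := GrothLib.FibreFlat.fiberι_stalkMap f y z
  have hq : q.comap (f.appLE V W e).hom = (hV.primeIdealOf ⟨f x, e hz⟩).asIdeal :=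
    congrArg PrimeSpectrum.asIdeal (IsAffineOpen.comap_primeIdealOf_appLE V hV W hW e hz)
  have hto : ∀ b, toFibStalk f y z hz b = ((f.fiberι y).stalkMap z).hom (algebraMap B (X.presheaf.stalk x) b) :=
    fun b => rfl
  refine ⟨fun u hu => ?_, fun t => ?_, fun b => ?_⟩
  · rw [hto]
    exact (IsLocalization.map_units (X.presheaf.stalk x) (⟨u, hu⟩ : q.primeCompl)).map _
  · obtain ⟨r, rfl⟩ := hsurj t
    obtain ⟨⟨b, u⟩, h⟩ := IsLocalization.surj q.primeCompl r
    exact ⟨b, u, u.2, by rw [hto, hto, ← map_mul]; exact congrArg _ h⟩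
  · have hcomm : (f.stalkMap x).hom.comp (algebraMap A (Y.presheaf.stalk (f x))) =
        (algebraMap B (X.presheaf.stalk x)).comp (f.appLE V W e).hom := by
      refine RingHom.ext fun a => ?_
      refine (Scheme.Hom.germ_stalkMap_apply f V x (e hz) a).trans ?_
      show _ = X.presheaf.germ W x hz ((f.appLE V W e) a)
      rw [Scheme.Hom.appLE, CommRingCat.comp_apply]
      exact (TopCat.Presheaf.germ_res_apply X.presheaf (homOfLE e) x hz _).symm
    rw [hto, ← RingHom.mem_ker, hker, hq,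
      ← IsLocalization.AtPrime.map_eq_maximalIdeal (hV.primeIdealOf ⟨f x, e hz⟩).asIdeal (Y.presheaf.stalk (f x)),
      Ideal.map_map, hcomm, ← Ideal.map_map, IsLocalization.algebraMap_mem_map_algebraMap_iff q.primeCompl]
    exact ⟨fun ⟨u, hu, h⟩ => ⟨u, hu, h⟩, fun ⟨u, hu, h⟩ => ⟨u, hu, h⟩⟩

include hW in
/-- The stalk of the restriction of a module to a fibre is a base change of its sections. -/
theorem exists_isBaseChange_fibStalk (F : X.Modules) [F.IsQuasicoherent] (y : Y) (z : ↥(f.fiber y))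
    (hz : f.fiberι y z ∈ W) :
    letI : Algebra Γ(X, W) ((f.fiber y).presheaf.stalk z) := (toFibStalk f y z hz).toAlgebra
    letI : Module Γ(X, W) (((Scheme.Modules.pullback (f.fiberι y)).obj F).presheaf.stalk z) :=
      Module.compHom _ (toFibStalk f y z hz)
    haveI : IsScalarTower Γ(X, W) ((f.fiber y).presheaf.stalk z)
        (((Scheme.Modules.pullback (f.fiberι y)).obj F).presheaf.stalk z) :=
      IsScalarTower.of_algebraMap_smul fun _ _ => rfl
    ∃ g : Γ(F, W) →ₗ[Γ(X, W)] ((Scheme.Modules.pullback (f.fiberι y)).obj F).presheaf.stalk z,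
      IsBaseChange ((f.fiber y).presheaf.stalk z) g := by
  let x := f.fiberι y z
  let B := Γ(X, W)
  let Ox := X.presheaf.stalk x
  let T := (f.fiber y).presheaf.stalk z
  let N := ((Scheme.Modules.pullback (f.fiberι y)).obj F).presheaf.stalk z
  letI := X.presheaf.algebra_section_stalk ⟨x, hz⟩
  letI : Module B (F.presheaf.stalk x) := Module.compHom _ (X.presheaf.germ W x hz).hom
  haveI : IsScalarTower B Ox (F.presheaf.stalk x) := IsScalarTower.of_algebraMap_smul fun _ _ => rfl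
  obtain ⟨g₀, hg₀, -⟩ := GrothLib.FlatFP.isLocalizedModule_germ F hW hz
  haveI := GrothLib.FlatFP.isLocalization_stalk_primeAt hW hz
  have hbc : IsBaseChange Ox g₀ := (isLocalizedModule_iff_isBaseChange _ Ox g₀).mp hg₀
  letI : Algebra Ox T := ((f.fiberι y).stalkMap z).hom.toAlgebra
  letI : Algebra B T := (toFibStalk f y z hz).toAlgebra
  haveI : IsScalarTower B Ox T := IsScalarTower.of_algebraMap_eq fun _ => rfl
  letI : Module B N := Module.compHom N (toFibStalk f y z hz)
  haveI : IsScalarTower B T N := IsScalarTower.of_algebraMap_smul fun _ _ => rfl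
  have hcomp : IsBaseChange T ((TensorProduct.mk Ox T (F.presheaf.stalk x) 1).restrictScalars B ∘ₗ g₀) :=
    hbc.comp (TensorProduct.isBaseChange Ox (F.presheaf.stalk x) T)
  let iso : N ≃ₗ[T] T ⊗[Ox] F.presheaf.stalk x :=
    ((GrothLib.QCoh.stalkPullbackIso (f.fiberι y) z).app F).toLinearEquiv
  let E : T ⊗[B] Γ(F, W) ≃ₗ[T] N := hcomp.equiv.trans iso.symm
  exact ⟨(E.toLinearMap.restrictScalars B).comp (TensorProduct.mk B T Γ(F, W) 1),
    IsBaseChange.of_equiv E fun _ => rfl⟩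

set_option backward.isDefEq.respectTransparency false in
include hV hW in
/-- The dimension of the closure of a point in its fibre, in the chart. -/
theorem dim_closure_eq_ptDimFib [LocallyOfFiniteType f] {n : ℕ} (π : Pol Γ(Y, V) n →+* Γ(X, W)) (hπ : Surjective π)
    (hπA : π.comp (MvPolynomial.C) = (f.appLE V W e).hom) (y : Y) (z : ↥(f.fiber y)) (hz : f.fiberι y z ∈ W) :
    topologicalKrullDim ↥(closure ({z} : Set ↥(f.fiber y))) =
      ptDimFib (PrimeSpectrum.comap π (hW.primeIdealOf ⟨_, hz⟩)) := by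
  let W' : (f.fiber y).Opens := f.fiberι y ⁻¹ᵁ W
  let p := PrimeSpectrum.comap (algebraMap Γ(Y, V) (Pol Γ(Y, V) n)) (PrimeSpectrum.comap π (hW.primeIdealOf ⟨_, hz⟩))
  let g : W' → PrimeSpectrum (Pol Γ(Y, V) n) := fun w =>
    PrimeSpectrum.comap π (hW.isoSpec.hom ⟨f.fiberι y w.1, w.2⟩)
  have hgval : ∀ w : W', g w = PrimeSpectrum.comap π (hW.primeIdealOf ⟨f.fiberι y w.1, w.2⟩) := fun _ => rfl
  have hbase : ∀ (x : X) (hx : x ∈ W), PrimeSpectrum.comap (algebraMap Γ(Y, V) (Pol Γ(Y, V) n))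
      (PrimeSpectrum.comap π (hW.primeIdealOf ⟨x, hx⟩)) = hV.primeIdealOf ⟨f x, e hx⟩ := fun x hx => by
    rw [← PrimeSpectrum.comap_comp_apply, MvPolynomial.algebraMap_eq, hπA]
    exact IsAffineOpen.comap_primeIdealOf_appLE V hV W hW e hx
  have hfy : ∀ w : ↥(f.fiber y), f (f.fiberι y w) = y := GrothLib.FibreFlat.fiberι_comp_apply f y
  have hemb : IsEmbedding g := by
    refine (PrimeSpectrum.isEmbedding_comap_of_surjective _ _ hπ).comp ?_
    refine (Scheme.homeoOfIso hW.isoSpec).isEmbedding.comp ?_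
    exact ((f.fiberι y).isEmbedding.comp IsEmbedding.subtypeVal).codRestrict _ _
  have hrange : ∀ x : X, ∀ hx : x ∈ W, f x = y → PrimeSpectrum.comap π (hW.primeIdealOf ⟨x, hx⟩) ∈ Set.range g := by
    intro x hx hxy
    obtain ⟨w, rfl⟩ := (f.range_fiberι y).symm.subset (show x ∈ f ⁻¹' {y} from hxy)
    exact ⟨⟨w, hx⟩, rfl⟩
  have h1 := topologicalKrullDim_closure_inter hemb ⟨z, hz⟩
  have h2 : topologicalKrullDim ↥(closure ({z} : Set ↥(f.fiber y))) =
      topologicalKrullDim ↥(closure ({⟨z, hz⟩} : Set W')) := by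
    haveI : LocallyOfFiniteType (f.fiberToSpecResidueField y) := MorphismProperty.pullback_snd f _ inferInstance
    exact (GrothLib.DimCut.ptDim_immersion (K := Y.residueField y) (f.fiberToSpecResidueField y) W'.ι ⟨z, hz⟩).symm
  rw [h2, h1, ptDimFib]
  have hQ : g ⟨z, hz⟩ = PrimeSpectrum.comap π (hW.primeIdealOf ⟨_, hz⟩) := rfl
  rw [hQ]
  refine congrArg (fun S : Set (PrimeSpectrum (Pol Γ(Y, V) n)) => topologicalKrullDim ↥S) ?_
  ext Q'
  constructor
  · rintro ⟨hc, w, rfl⟩
    refine ⟨hc, ?_⟩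
    show PrimeSpectrum.comap _ (g w) = PrimeSpectrum.comap _ _
    rw [hgval, hbase, hbase]
    congr 1
    exact Subtype.ext ((hfy _).trans (hfy _).symm)
  · rintro ⟨hc, hp⟩
    refine ⟨hc, ?_⟩
    have hker : Q' ∈ Set.range (PrimeSpectrum.comap π) := by
      have hclosed : IsClosed (Set.range (PrimeSpectrum.comap π)) := by
        rw [range_comap_of_surjective _ _ hπ]
        exact PrimeSpectrum.isClosed_zeroLocus _
      exact hclosed.closure_subset_iff.mpr (Set.singleton_subset_iff.mpr ⟨_, rfl⟩) hc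
    obtain ⟨q', rfl⟩ := hker
    obtain ⟨⟨x, hx⟩, rfl⟩ : ∃ x : W, hW.primeIdealOf x = q' :=
      ⟨(Scheme.homeoOfIso hW.isoSpec).symm q', (Scheme.homeoOfIso hW.isoSpec).apply_symm_apply q'⟩
    refine hrange x hx ?_
    have h3 : PrimeSpectrum.comap (algebraMap Γ(Y, V) (Pol Γ(Y, V) n))
        (PrimeSpectrum.comap π (hW.primeIdealOf ⟨x, hx⟩)) = p := hp
    rw [hbase, show p = _ from hbase _ hz] at h3
    have h4 := congrArg hV.fromSpec h3
    rw [IsAffineOpen.fromSpec_primeIdealOf, IsAffineOpen.fromSpec_primeIdealOf] at h4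
    exact h4.trans (hfy z)

end GrothLib.FibPd
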