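import Groth.Agent.Lib.FibPd.Chart
import Groth.Agent.Lib.BCCoh.Flat

/-!
# Depth and dimension of fibre stalks in an affine chart
-/

set_option autoImplicit false
set_option linter.style.haveILetI false
universe u

open TensorProduct Function IsLocalRing CategoryTheory AlgebraicGeometry Topology TopologicalSpace

namespace GrothLib.FibPd

variable {X Y : Scheme.{u}} (f : X ⟶ Y) {V : Y.Opens} {W : X.Opens}

theorem exists_presentation [LocallyOfFinitePresentation f] (hV : IsAffineOpen V) (hW : IsAffineOpen W)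
    (e : W ≤ f ⁻¹ᵁ V) :
    ∃ (n : ℕ) (π : Pol Γ(Y, V) n →+* Γ(X, W)), Surjective π ∧ (RingHom.ker π).FG ∧
      π.comp MvPolynomial.C = (f.appLE V W e).hom := by
  letI : Algebra Γ(Y, V) Γ(X, W) := (f.appLE V W e).hom.toAlgebra
  haveI : Algebra.FinitePresentation Γ(Y, V) Γ(X, W) := f.finitePresentation_appLE hV hW e
  obtain ⟨n, φ, hφ, hker⟩ := Algebra.FinitePresentation.out (R := Γ(Y, V)) (A := Γ(X, W))
  exact ⟨n, φ.toRingHom, hφ, hker, φ.comp_algebraMap⟩

theorem exists_chart [LocallyOfFinitePresentation f] (x : X) :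
    ∃ (V : Y.Opens) (W : X.Opens), IsAffineOpen V ∧ IsAffineOpen W ∧ W ≤ f ⁻¹ᵁ V ∧ x ∈ W := by
  obtain ⟨V, hV, hxV, -⟩ := exists_isAffineOpen_mem_and_subset (show f x ∈ (⊤ : Y.Opens) from trivial)
  obtain ⟨W, hW, hxW, e⟩ := exists_isAffineOpen_mem_and_subset (show x ∈ f ⁻¹ᵁ V from hxV)
  exact ⟨V, W, hV, hW, e, hxW⟩

variable (hV : IsAffineOpen V) (hW : IsAffineOpen W) (e : W ≤ f ⁻¹ᵁ V) {n : ℕ}
  (π : Pol Γ(Y, V) n →+* Γ(X, W))

/-- The point of affine space attached to a point of the chart. -/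
noncomputable def chartPt (x : W) : PrimeSpectrum (Pol Γ(Y, V) n) :=
  PrimeSpectrum.comap π (hW.primeIdealOf x)

theorem continuous_chartPt : Continuous (chartPt hW π) :=
  (PrimeSpectrum.continuous_comap π).comp (Scheme.homeoOfIso hW.isoSpec).continuous

/-- A subset of `X` given in the chart by an open subset of affine space is open there. -/
theorem isOpen_inter_chart {S : Set X} {O : Set (PrimeSpectrum (Pol Γ(Y, V) n))} (hO : IsOpen O)
    (h : ∀ x : W, x.1 ∈ S ↔ chartPt hW π x ∈ O) : IsOpen (S ∩ (W : Set X)) := by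
  have h1 : S ∩ (W : Set X) = Subtype.val '' (chartPt hW π ⁻¹' O) := by
    ext x
    constructor
    · rintro ⟨hS, hxW⟩
      exact ⟨⟨x, hxW⟩, (h _).1 hS, rfl⟩
    · rintro ⟨w, hw, rfl⟩
      exact ⟨(h w).2 hw, w.2⟩
  rw [h1]
  exact W.2.isOpenEmbedding_subtypeVal.isOpenMap _ (hO.preimage (continuous_chartPt hW π))

/-- Sections as a module over the polynomial ring. -/
noncomputable abbrev polModule (M : Type u) [AddCommGroup M] [Module Γ(X, W) M] :
    Module (Pol Γ(Y, V) n) M :=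
  Module.compHom M π

set_option backward.isDefEq.respectTransparency false in
include hV e in
/-- Depth, support and dimension of the fibre stalks in the chart, for any module. -/
theorem fibre_stalk_transfer [LocallyOfFiniteType f] (hπ : Surjective π)
    (hπA : π.comp MvPolynomial.C = (f.appLE V W e).hom) (M : Type u) [AddCommGroup M] [Module Γ(X, W) M]
    [Module.Finite Γ(X, W) M] (y : Y) (z : ↥(f.fiber y)) (hz : f.fiberι y z ∈ W) (N : Type u) [AddCommGroup N]
    [Module ((f.fiber y).presheaf.stalk z) N]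
    (hN : letI : Algebra Γ(X, W) ((f.fiber y).presheaf.stalk z) := (toFibStalk f y z hz).toAlgebra
      letI : Module Γ(X, W) N := Module.compHom N (toFibStalk f y z hz)
      haveI : IsScalarTower Γ(X, W) ((f.fiber y).presheaf.stalk z) N :=
        IsScalarTower.of_algebraMap_smul fun _ _ => rfl
      ∃ g : M →ₗ[Γ(X, W)] N, IsBaseChange ((f.fiber y).presheaf.stalk z) g) :
    letI := polModule π M
    LocCoh.depth ((f.fiber y).presheaf.stalk z) N =
        LocCoh.depth (EGA4.FibLocRing Γ(Y, V) (Pol Γ(Y, V) n) (chartPt hW π ⟨_, hz⟩).asIdeal)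
          (EGA4.FibLocRing Γ(Y, V) (Pol Γ(Y, V) n) (chartPt hW π ⟨_, hz⟩).asIdeal ⊗[Pol Γ(Y, V) n] M) ∧
      Module.supportDim ((f.fiber y).presheaf.stalk z) N =
        Module.supportDim (EGA4.FibLocRing Γ(Y, V) (Pol Γ(Y, V) n) (chartPt hW π ⟨_, hz⟩).asIdeal)
          (EGA4.FibLocRing Γ(Y, V) (Pol Γ(Y, V) n) (chartPt hW π ⟨_, hz⟩).asIdeal ⊗[Pol Γ(Y, V) n] M) ∧
      (Subsingleton N ↔ Subsingleton
          (EGA4.FibLocRing Γ(Y, V) (Pol Γ(Y, V) n) (chartPt hW π ⟨_, hz⟩).asIdeal ⊗[Pol Γ(Y, V) n] M)) := by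
  letI : Algebra (Pol Γ(Y, V) n) Γ(X, W) := π.toAlgebra
  letI : Algebra Γ(Y, V) Γ(X, W) := (f.appLE V W e).hom.toAlgebra
  haveI : IsScalarTower Γ(Y, V) (Pol Γ(Y, V) n) Γ(X, W) := IsScalarTower.of_algebraMap_eq' hπA.symm
  letI := polModule π M
  haveI : IsScalarTower (Pol Γ(Y, V) n) Γ(X, W) M := IsScalarTower.of_algebraMap_smul fun _ _ => rfl
  haveI : Module.Finite (Pol Γ(Y, V) n) Γ(X, W) :=
    Module.Finite.of_surjective (Algebra.linearMap (Pol Γ(Y, V) n) Γ(X, W)) hπ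
  haveI : Module.Finite (Pol Γ(Y, V) n) M := Module.Finite.trans Γ(X, W) M
  letI : Algebra Γ(X, W) ((f.fiber y).presheaf.stalk z) := (toFibStalk f y z hz).toAlgebra
  letI : Module Γ(X, W) N := Module.compHom N (toFibStalk f y z hz)
  haveI : IsScalarTower Γ(X, W) ((f.fiber y).presheaf.stalk z) N :=
    IsScalarTower.of_algebraMap_smul fun _ _ => rfl
  haveI : LocallyOfFiniteType (f.fiberToSpecResidueField y) := MorphismProperty.pullback_snd f _ inferInstance
  haveI : IsLocallyNoetherian (f.fiber y) :=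
    LocallyOfFiniteType.isLocallyNoetherian (f.fiberToSpecResidueField y)
  obtain ⟨h1, h2, h3⟩ := toFibStalk_spec f hV hW e y z hz
  obtain ⟨g, hg⟩ := hN
  haveI : IsLocalRing (EGA4.FibLocRing Γ(Y, V) (Pol Γ(Y, V) n)
      ((hW.primeIdealOf ⟨_, hz⟩).asIdeal.comap (algebraMap (Pol Γ(Y, V) n) Γ(X, W)))) :=
    GrothLib.FlatOff.isLocalRing_fibLocRing _
  haveI : IsNoetherianRing (EGA4.FibLocRing Γ(Y, V) (Pol Γ(Y, V) n)
      ((hW.primeIdealOf ⟨_, hz⟩).asIdeal.comap (algebraMap (Pol Γ(Y, V) n) Γ(X, W)))) :=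
    (inferInstance : IsNoetherianRing (EGA4.FibLocRing Γ(Y, V) (Pol Γ(Y, V) n) (chartPt hW π ⟨_, hz⟩).asIdeal))
  exact fibStalk_transfer hπ (hW.primeIdealOf ⟨_, hz⟩).asIdeal h1 h2 h3 M N g hg

set_option backward.isDefEq.respectTransparency false in
include hV e in
/-- Depth, support and dimension of the fibre stalks of a module in the chart. -/
theorem fibre_stalk_data [LocallyOfFinitePresentation f] (hπ : Surjective π)
    (hπA : π.comp MvPolynomial.C = (f.appLE V W e).hom) (F : X.Modules) [F.IsQuasicoherent] (hF : CohB1.IsFP F)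
    (y : Y) (z : ↥(f.fiber y)) (hz : f.fiberι y z ∈ W) :
    letI := polModule π Γ(F, W)
    LocCoh.depth ((f.fiber y).presheaf.stalk z) (((Scheme.Modules.pullback (f.fiberι y)).obj F).presheaf.stalk z) =
        LocCoh.depth (EGA4.FibLocRing Γ(Y, V) (Pol Γ(Y, V) n) (chartPt hW π ⟨_, hz⟩).asIdeal)
          (EGA4.FibLocRing Γ(Y, V) (Pol Γ(Y, V) n) (chartPt hW π ⟨_, hz⟩).asIdeal ⊗[Pol Γ(Y, V) n] Γ(F, W)) ∧
      Module.supportDim ((f.fiber y).presheaf.stalk z) (((Scheme.Modules.pullback (f.fiberι y)).obj F).presheaf.stalk z) =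
        Module.supportDim (EGA4.FibLocRing Γ(Y, V) (Pol Γ(Y, V) n) (chartPt hW π ⟨_, hz⟩).asIdeal)
          (EGA4.FibLocRing Γ(Y, V) (Pol Γ(Y, V) n) (chartPt hW π ⟨_, hz⟩).asIdeal ⊗[Pol Γ(Y, V) n] Γ(F, W)) ∧
      (Subsingleton (((Scheme.Modules.pullback (f.fiberι y)).obj F).presheaf.stalk z) ↔ Subsingleton
          (EGA4.FibLocRing Γ(Y, V) (Pol Γ(Y, V) n) (chartPt hW π ⟨_, hz⟩).asIdeal ⊗[Pol Γ(Y, V) n] Γ(F, W))) := by
  haveI := GrothLib.FlatFP.finitePresentation_sections F hF hW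
  exact fibre_stalk_transfer f hV hW e π hπ hπA Γ(F, W) y z hz _ (exists_isBaseChange_fibStalk f hW F y z hz)

set_option backward.isDefEq.respectTransparency false in
include hV e in
/-- Depth and dimension of the fibre local rings in the chart. -/
theorem fibre_ring_data [LocallyOfFinitePresentation f] (hπ : Surjective π)
    (hπA : π.comp MvPolynomial.C = (f.appLE V W e).hom) (y : Y) (z : ↥(f.fiber y)) (hz : f.fiberι y z ∈ W) :
    letI := polModule π Γ(X, W)
    LocCoh.depth ((f.fiber y).presheaf.stalk z) ((f.fiber y).presheaf.stalk z) =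
        LocCoh.depth (EGA4.FibLocRing Γ(Y, V) (Pol Γ(Y, V) n) (chartPt hW π ⟨_, hz⟩).asIdeal)
          (EGA4.FibLocRing Γ(Y, V) (Pol Γ(Y, V) n) (chartPt hW π ⟨_, hz⟩).asIdeal ⊗[Pol Γ(Y, V) n] Γ(X, W)) ∧
      ringKrullDim ((f.fiber y).presheaf.stalk z) =
        Module.supportDim (EGA4.FibLocRing Γ(Y, V) (Pol Γ(Y, V) n) (chartPt hW π ⟨_, hz⟩).asIdeal)
          (EGA4.FibLocRing Γ(Y, V) (Pol Γ(Y, V) n) (chartPt hW π ⟨_, hz⟩).asIdeal ⊗[Pol Γ(Y, V) n] Γ(X, W)) := by
  have h := fibre_stalk_transfer f hV hW e π hπ hπA Γ(X, W) y z hz ((f.fiber y).presheaf.stalk z) (by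
    letI : Algebra Γ(X, W) ((f.fiber y).presheaf.stalk z) := (toFibStalk f y z hz).toAlgebra
    exact ⟨Algebra.linearMap Γ(X, W) _, IsBaseChange.linearMap _ _⟩)
  exact ⟨h.1, (Module.supportDim_self_eq_ringKrullDim (R := (f.fiber y).presheaf.stalk z)).symm.trans h.2.1⟩

end GrothLib.FibPd
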