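import Groth.Agent.Lib.FibPd.DepthAlong

/-!
# The depth along a closed subset is a locally constructible function
-/

set_option autoImplicit false
set_option linter.style.haveILetI false
universe u

open TensorProduct Function IsLocalRing CategoryTheory AlgebraicGeometry Topology TopologicalSpace

namespace GrothLib.FibPd

theorem isConstructible_preimage_isClosedEmbedding {α β : Type*} [TopologicalSpace α] [TopologicalSpace β]
    [PrespectralSpace β] {j : α → β} (hj : IsClosedEmbedding j) {C : Set β} (hC : IsConstructible C) :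
    IsConstructible (j ⁻¹' C) := by
  refine hC.preimage hj.continuous fun s hso hs => ?_
  intro U hU hUo
  obtain ⟨O, hO, rfl⟩ := hj.isInducing.isOpen_iff.mp hUo
  obtain ⟨K, hKO, hKc, hKopen, hK⟩ : ∃ K : Set β, K ⊆ O ∧ IsCompact K ∧ IsOpen K ∧ j '' (j ⁻¹' O) ⊆ K := by
    have hb := (PrespectralSpace.isTopologicalBasis (X := β)).open_eq_sUnion' hO
    obtain ⟨T, hT, hTfin, hcov⟩ := (hU.image hj.continuous).elim_finite_subcover_image
      (b := {K : Set β | K ∈ {K | IsOpen K ∧ IsCompact K} ∧ K ⊆ O}) (c := fun K => K) (fun K hK => hK.1.1)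
      (by
        rintro _ ⟨a, ha, rfl⟩
        have : j a ∈ O := ha
        rw [hb] at this
        obtain ⟨K, hK, haK⟩ := this
        exact Set.mem_iUnion₂.2 ⟨K, hK, haK⟩)
    exact ⟨⋃ K ∈ T, K, Set.iUnion₂_subset fun K hK => (hT hK).2,
      hTfin.isCompact_biUnion fun K hK => (hT hK).1.2, isOpen_biUnion fun K hK => (hT hK).1.1, hcov⟩
  have heq : j ⁻¹' s ∩ j ⁻¹' O = j ⁻¹' (s ∩ K) :=
    Set.ext fun a => ⟨fun h => ⟨h.1, hK ⟨a, h.2, rfl⟩⟩, fun h => ⟨h.1, hKO h.2⟩⟩
  rw [heq]
  exact hj.isCompact_preimage (hs hKc hKopen)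

variable {X S : Scheme.{u}} (f : X ⟶ S) [LocallyOfFinitePresentation f] (F : X.Modules)

theorem fiberDepthAlong_locallyConstructible (hfp : CohB1.IsFP F) (hfl : FlatMod.IsFlatOver f F) (Y : Closeds X)
    (hY : IsLocallyConstructible (Y : Set X)) (y₀ : ↥(Y : Set X)) :
    ∃ V : Opens ↥(Y : Set X), y₀ ∈ V ∧
      ((fun y : ↥(Y : Set X) => CInt.fiberDepthAlong f F (Y : Set X) y.1) '' (V : Set ↥(Y : Set X))).Finite ∧
      ∀ t : ℕ∞, IsConstructible {v : ↥V | CInt.fiberDepthAlong f F (Y : Set X) v.1.1 = t} := by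
  obtain ⟨V, W, hW, n, π, M, _, _, _, _, Z, hxW, hMfp, hMfl, hZ, hZc, h⟩ :=
    exists_depthAlong_chart f F hfp hfl Y y₀.1
  haveI := hMfp
  haveI := hMfl
  let V' : Opens ↥(Y : Set X) := ⟨{y | y.1 ∈ W}, W.2.preimage continuous_subtype_val⟩
  have htop : ∀ x : W, ((n + 1 : ℕ) : ℕ∞) ≤ CInt.fiberDepthAlong f F (Y : Set X) x.1 →
      CInt.fiberDepthAlong f F (Y : Set X) x.1 = ⊤ := by
    intro x hx
    refine ENat.eq_top_iff_forall_ge.2 fun m => (h x m).2 fun y hy hyp hyZ => ?_
    rw [le_fibDepth_of_lt (Nat.lt_succ_self n) ((h x (n + 1)).1 hx y hy hyp hyZ)]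
    exact le_top
  refine ⟨V', hxW, ?_, fun t => ?_⟩
  · refine Set.Finite.subset (((Set.finite_Iic n).image (fun m : ℕ => (m : ℕ∞))).union (Set.finite_singleton ⊤)) ?_
    rintro _ ⟨y, hy, rfl⟩
    rcases le_or_gt ((n + 1 : ℕ) : ℕ∞) (CInt.fiberDepthAlong f F (Y : Set X) y.1) with hle | hlt
    · exact Or.inr (htop ⟨y.1, hy⟩ hle)
    · obtain ⟨m, hm⟩ := ENat.ne_top_iff_exists.1 hlt.ne_top
      refine Or.inl ⟨m, ?_, hm⟩
      rw [← hm] at hlt
      have : m < n + 1 := by exact_mod_cast hlt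
      exact Set.mem_Iic.2 (by omega)
  · let iso := Scheme.homeoOfIso hW.isoSpec
    let j : ↥V' → PrimeSpectrum Γ(X, W) := fun v => iso ⟨v.1.1, v.2⟩
    have hj : IsClosedEmbedding j := by
      refine iso.isClosedEmbedding.comp ⟨(IsEmbedding.subtypeVal.comp IsEmbedding.subtypeVal).codRestrict _ _, ?_⟩
      have : Set.range (fun v : ↥V' => (⟨v.1.1, v.2⟩ : (W : Set X))) = Subtype.val ⁻¹' (Y : Set X) := by
        ext x
        constructor
        · rintro ⟨v, rfl⟩; exact v.1.2
        · intro hx; exact ⟨⟨⟨x.1, hx⟩, x.2⟩, rfl⟩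
      exact this ▸ Y.isClosed.preimage continuous_subtype_val
    have hge : ∀ m : ℕ, IsConstructible {v : ↥V' | (m : ℕ∞) ≤ CInt.fiberDepthAlong f F (Y : Set X) v.1.1} := fun m => by
      have hC := isConstructible_depthGood (M := M) hZ (hZc (isConstructible_val_preimage hY hW)) m
      have : {v : ↥V' | (m : ℕ∞) ≤ CInt.fiberDepthAlong f F (Y : Set X) v.1.1} =
          j ⁻¹' (PrimeSpectrum.comap π ⁻¹' {Q | DepthGood M Z m Q}) := Set.ext fun v => h ⟨v.1.1, v.2⟩ m
      rw [this]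
      exact isConstructible_preimage_isClosedEmbedding hj (isConstructible_comap_preimage π hC)
    induction t with
    | top =>
      convert hge (n + 1) using 1
      ext v
      exact ⟨fun hv => hv.ge.trans' le_top, fun hv => htop ⟨v.1.1, v.2⟩ hv⟩
    | coe k =>
      convert (hge k).sdiff (hge (k + 1)) using 1
      ext v
      simp only [Set.mem_setOf_eq, Set.mem_sdiff]
      cases CInt.fiberDepthAlong f F (Y : Set X) v.1.1 with
      | top => simp
      | coe d => norm_cast; omega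

end GrothLib.FibPd
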