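import Groth.Agent.Lib.FibPd.FibInv
import Groth.Agent.Lib.Equidim6.CondTOpen

/-!
# Generisations of large dimension inside a fibre
-/

set_option autoImplicit false
set_option linter.style.haveILetI false
universe u

open TensorProduct Function IsLocalRing MvPolynomial CategoryTheory AlgebraicGeometry Topology TopologicalSpace

namespace GrothLib.FibPd

attribute [local instance] MvPolynomial.algebraMvPolynomial

variable {A : Type u} [CommRing A] {n : ℕ}

/-- `Q` has a generisation in its fibre lying in `S` with closure of dimension at least `τ` in the fibre. -/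
def GenIn (S : Set (PrimeSpectrum (Pol A n))) (τ : ℕ) (Q : PrimeSpectrum (Pol A n)) : Prop :=
  ∃ y : PrimeSpectrum (Pol A n), y.asIdeal ≤ Q.asIdeal ∧
    y.asIdeal.comap (algebraMap A (Pol A n)) = Q.asIdeal.comap (algebraMap A (Pol A n)) ∧
      y ∈ S ∧ (τ : WithBot ℕ∞) ≤ ptDimFib y

/-- For a closed set this is a condition on the dimension of the fibre of the set. -/
theorem genIn_zeroLocus_iff (I : Ideal (Pol A n)) (τ : ℕ) (Q : PrimeSpectrum (Pol A n)) :
    GenIn (PrimeSpectrum.zeroLocus (I : Set (Pol A n))) τ Q ↔ (τ : WithBot ℕ∞) ≤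
      fibDimIn (PrimeSpectrum.comap (algebraMap A (Pol A n))) (PrimeSpectrum.zeroLocus (I : Set (Pol A n))) Q := by
  let π : Spec (CommRingCat.of (Pol A n ⧸ I)) ⟶ Spec (CommRingCat.of A) :=
    Spec.map (CommRingCat.ofHom (algebraMap A (Pol A n ⧸ I)))
  haveI : LocallyOfFiniteType π :=
    (HasRingHomProperty.Spec_iff (P := @LocallyOfFiniteType)).mpr (RingHom.finiteType_algebraMap.mpr inferInstance)
  let g : Spec (CommRingCat.of (Pol A n ⧸ I)) → PrimeSpectrum (Pol A n) :=
    fun w => PrimeSpectrum.comap (Ideal.Quotient.mk I) w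
  have hg : IsEmbedding g := PrimeSpectrum.isEmbedding_comap_of_surjective _ _ Ideal.Quotient.mk_surjective
  have hrange : Set.range g = PrimeSpectrum.zeroLocus (I : Set (Pol A n)) :=
    (range_comap_of_surjective _ _ Ideal.Quotient.mk_surjective).trans (by rw [Ideal.mk_ker])
  by_cases hQ : Q ∈ PrimeSpectrum.zeroLocus (I : Set (Pol A n))
  swap
  · refine iff_of_false ?_ ?_
    · rintro ⟨y, hy, -, hyS, -⟩
      exact hQ (Set.Subset.trans hyS hy)
    · intro h
      let U : Opens (PrimeSpectrum (Pol A n)) :=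
        ⟨(PrimeSpectrum.zeroLocus (I : Set (Pol A n)))ᶜ, (PrimeSpectrum.isClosed_zeroLocus _).isOpen_compl⟩
      haveI : IsEmpty ↥((U : Set (PrimeSpectrum (Pol A n))) ∩ (PrimeSpectrum.zeroLocus (I : Set (Pol A n)) ∩
          PrimeSpectrum.comap (algebraMap A (Pol A n)) ⁻¹' {PrimeSpectrum.comap (algebraMap A (Pol A n)) Q})) :=
        ⟨fun x => x.2.1 x.2.2.1⟩
      have h' := h.trans (iInf_le_of_le ⟨U, hQ⟩
        (le_of_eq (Order.krullDim_eq_bot_iff.mpr ⟨fun Z => IsEmpty.false Z.isIrreducible.nonempty.some⟩)))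
      exact absurd (le_bot_iff.mp h') WithBot.coe_ne_bot
  obtain ⟨w, rfl⟩ := hrange.symm.subset hQ
  let s := π w
  let W := π.fiber s
  let q : W ⟶ Spec (CommRingCat.of ((Spec (CommRingCat.of A)).residueField s)) := π.fiberToSpecResidueField s
  haveI : LocallyOfFiniteType q := MorphismProperty.pullback_snd π _ inferInstance
  let G : W → PrimeSpectrum (Pol A n) := g ∘ π.fiberι s
  have hG : IsEmbedding G := hg.comp (π.fiberι s).isEmbedding
  have hrangeG : Set.range G = PrimeSpectrum.zeroLocus (I : Set (Pol A n)) ∩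
      PrimeSpectrum.comap (algebraMap A (Pol A n)) ⁻¹' {PrimeSpectrum.comap (algebraMap A (Pol A n)) (g w)} := by
    rw [Set.range_comp, π.range_fiberι, ← hrange]
    ext x
    constructor
    · rintro ⟨v, hv, rfl⟩
      exact ⟨⟨v, rfl⟩, hv⟩
    · rintro ⟨⟨v, rfl⟩, hv⟩
      exact ⟨v, hv, rfl⟩
  let w' : W := π.asFiber w
  have hw' : G w' = g w := congrArg g (π.fiberι_asFiber w)
  have hdim : fibDimIn (PrimeSpectrum.comap (algebraMap A (Pol A n))) (PrimeSpectrum.zeroLocus (I : Set (Pol A n))) (g w) =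
      FlatMor.localDim W w' := by
    rw [← hw']
    exact fibDimIn_eq_localDim _ _ hG w' (by rw [hw']; exact hrangeG)
  have hpt : ∀ v : W, ptDimFib (G v) = GrothLib.AffDom.ptDim v := fun v => by
    unfold ptDimFib GrothLib.AffDom.ptDim
    refine Eq.trans ?_ (topologicalKrullDim_closure_inter hG v).symm
    refine congrArg (fun S : Set (PrimeSpectrum (Pol A n)) => topologicalKrullDim ↥S) ?_
    rw [hrangeG]
    have hv : PrimeSpectrum.comap (algebraMap A (Pol A n)) (G v) = PrimeSpectrum.comap (algebraMap A (Pol A n)) (g w) :=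
      (hrangeG.subset ⟨v, rfl⟩).2
    rw [hv]
    have hcl : closure ({G v} : Set (PrimeSpectrum (Pol A n))) ⊆ PrimeSpectrum.zeroLocus (I : Set (Pol A n)) :=
      (PrimeSpectrum.isClosed_zeroLocus _).closure_subset_iff.mpr (Set.singleton_subset_iff.mpr (hrangeG.subset ⟨v, rfl⟩).1)
    rw [← Set.inter_assoc, Set.inter_eq_left.mpr hcl]
  rw [hdim]
  constructor
  · rintro ⟨y, hy, hyp, hyS, hyt⟩
    obtain ⟨v, rfl⟩ := hrangeG.symm.subset (show y ∈ _ from ⟨hyS, PrimeSpectrum.ext hyp⟩)
    rw [hpt] at hyt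
    have hsp : v ⤳ w' := by
      rw [← hG.isInducing.specializes_iff, hw']
      exact (PrimeSpectrum.le_iff_specializes _ _).mp hy
    refine hyt.trans (le_trans ?_ (show FlatMor.localDim W v ≤ FlatMor.localDim W w' from
      le_iInf fun U => iInf_le_of_le ⟨U.1, hsp.mem_open U.1.2 U.2⟩ le_rfl))
    rw [GrothLib.AffDom.localDim_eq q v]
    exact le_add_of_nonneg_right ringKrullDim_nonneg_of_nontrivial
  · intro hτ
    obtain ⟨η, hη, hmax, heq⟩ := GrothLib.Equidim6.exists_maximal_localDim q w'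
    refine ⟨G η, ?_, ?_, (hrangeG.subset ⟨η, rfl⟩).1, ?_⟩
    · refine (PrimeSpectrum.le_iff_specializes (G η) (g w)).mpr ?_
      rw [← hw']
      exact hη.map hG.continuous
    · exact congrArg PrimeSpectrum.asIdeal (hrangeG.subset ⟨η, rfl⟩).2
    · rw [hpt, ← GrothLib.Equidim6.localDim_of_maximal q η hmax, ← heq]
      exact hτ

/-- The condition over the residue field of the image. -/
theorem genIn_residue (S : Set (PrimeSpectrum (Pol A n))) (τ : ℕ) (Q : PrimeSpectrum (Pol A n))
    (Q' : PrimeSpectrum (Pol (Q.asIdeal.comap (algebraMap A (Pol A n))).ResidueField n))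
    (hQ : Q'.asIdeal.comap (algebraMap (Pol A n) (Pol (Q.asIdeal.comap (algebraMap A (Pol A n))).ResidueField n)) =
      Q.asIdeal) :
    GenIn (PrimeSpectrum.comap (algebraMap (Pol A n) (Pol (Q.asIdeal.comap (algebraMap A (Pol A n))).ResidueField n)) ⁻¹' S)
      τ Q' ↔ GenIn S τ Q := by
  let p := PrimeSpectrum.comap (algebraMap A (Pol A n)) Q
  let k := p.asIdeal.ResidueField
  obtain ⟨hemb, hrange⟩ := isEmbedding_comap_fibre (n := n) p
  let j := PrimeSpectrum.comap (algebraMap (Pol A n) (Pol k n))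
  have hQ' : j Q' = Q := PrimeSpectrum.ext hQ
  have huniv : ∀ y : PrimeSpectrum (Pol k n), PrimeSpectrum.comap (algebraMap k (Pol k n)) ⁻¹'
      {PrimeSpectrum.comap (algebraMap k (Pol k n)) y} = Set.univ := fun y =>
    Set.eq_univ_of_forall fun z => Subsingleton.elim _ _
  have hpt : ∀ y : PrimeSpectrum (Pol k n), ptDimFib (j y) = ptDimFib y := fun y => by
    unfold ptDimFib
    rw [huniv, Set.inter_univ, topologicalKrullDim_closure_inter hemb y, hrange,
      show PrimeSpectrum.comap (algebraMap A (Pol A n)) (j y) = p from hrange.subset ⟨y, rfl⟩]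
  have hle : ∀ y z : PrimeSpectrum (Pol k n), y.asIdeal ≤ z.asIdeal ↔ (j y).asIdeal ≤ (j z).asIdeal := fun y z => by
    rw [PrimeSpectrum.asIdeal_le_asIdeal, PrimeSpectrum.asIdeal_le_asIdeal, PrimeSpectrum.le_iff_specializes,
      PrimeSpectrum.le_iff_specializes, hemb.isInducing.specializes_iff]
  constructor
  · rintro ⟨y, hy, -, hyS, hyt⟩
    refine ⟨j y, ?_, ?_, hyS, by rwa [hpt]⟩
    · rw [← hQ']; exact (hle y Q').1 hy
    · exact congrArg PrimeSpectrum.asIdeal (hrange.subset ⟨y, rfl⟩)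
  · rintro ⟨y, hy, hyp, hyS, hyt⟩
    obtain ⟨y, rfl⟩ := hrange.symm.subset (show y ∈ _ from PrimeSpectrum.ext hyp)
    refine ⟨y, (hle y Q').2 (by rw [hQ']; exact hy), ?_, hyS, by rwa [hpt] at hyt⟩
    exact congrArg PrimeSpectrum.asIdeal (Subsingleton.elim (PrimeSpectrum.comap (algebraMap k (Pol k n)) y)
      (PrimeSpectrum.comap (algebraMap k (Pol k n)) Q'))

/-- Fibrewise closedness. -/
def FibClosed (S : Set (PrimeSpectrum (Pol A n))) : Prop :=
  ∀ (k : Type u) [Field k] [Algebra A k],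
    IsClosed (PrimeSpectrum.comap (algebraMap (Pol A n) (Pol k n)) ⁻¹' S)

theorem genIn_field {k K : Type u} [Field k] [Field K] [Algebra k K] {S : Set (PrimeSpectrum (Pol k n))}
    (hS : IsClosed S) (τ : ℕ) (Q : PrimeSpectrum (Pol K n)) :
    GenIn (PrimeSpectrum.comap (algebraMap (Pol k n) (Pol K n)) ⁻¹' S) τ Q ↔
      GenIn S τ (PrimeSpectrum.comap (algebraMap (Pol k n) (Pol K n)) Q) := by
  obtain ⟨I, rfl⟩ : ∃ I : Ideal (Pol k n), PrimeSpectrum.zeroLocus (I : Set (Pol k n)) = S :=
    ⟨_, (PrimeSpectrum.zeroLocus_vanishingIdeal_eq_closure S).trans hS.closure_eq⟩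
  have hsupp : Module.support (Pol k n) (Pol k n ⧸ I) = PrimeSpectrum.zeroLocus (I : Set (Pol k n)) := by
    rw [Module.support_eq_zeroLocus, Ideal.annihilator_quotient]
  have hsupp' : Module.support (Pol K n) (Pol K n ⊗[Pol k n] (Pol k n ⧸ I)) =
      PrimeSpectrum.comap (algebraMap (Pol k n) (Pol K n)) ⁻¹' PrimeSpectrum.zeroLocus (I : Set (Pol k n)) := by
    rw [← hsupp]
    exact Set.ext fun y => mem_support_baseChange_iff _ y
  have hzl : PrimeSpectrum.comap (algebraMap (Pol k n) (Pol K n)) ⁻¹' PrimeSpectrum.zeroLocus (I : Set (Pol k n)) =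
      PrimeSpectrum.zeroLocus ((I.map (algebraMap (Pol k n) (Pol K n)) : Ideal (Pol K n)) : Set (Pol K n)) := by
    rw [PrimeSpectrum.preimage_comap_zeroLocus, Ideal.map, PrimeSpectrum.zeroLocus_span]
  have h := fibDimIn_baseChange (PrimeSpectrum.comap (algebraMap (Pol k n) (Pol K n)) Q) (Pol k n ⧸ I) Q rfl
  rw [hsupp', hsupp, hzl] at h
  rw [hzl, genIn_zeroLocus_iff, genIn_zeroLocus_iff, h]

/-- For a fibrewise closed set the condition is stable under base change. -/
theorem genIn_baseChange {A' : Type u} [CommRing A'] [Algebra A A'] {S : Set (PrimeSpectrum (Pol A n))}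
    (hS : FibClosed S) (τ : ℕ) (Q' : PrimeSpectrum (Pol A' n)) :
    GenIn (PrimeSpectrum.comap (algebraMap (Pol A n) (Pol A' n)) ⁻¹' S) τ Q' ↔
      GenIn S τ (PrimeSpectrum.comap (algebraMap (Pol A n) (Pol A' n)) Q') := by
  let Q := PrimeSpectrum.comap (algebraMap (Pol A n) (Pol A' n)) Q'
  obtain ⟨Q'', hQ''⟩ := exists_point Q'
  let K := (Q'.asIdeal.comap (algebraMap A' (Pol A' n))).ResidueField
  haveI : IsScalarTower (Pol A n) (Pol A' n) (Pol K n) := IsScalarTower.of_algebraMap_eq' (by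
    rw [algebraMap_def, algebraMap_def, algebraMap_def]
    refine RingHom.ext fun x => ?_
    rw [RingHom.comp_apply, MvPolynomial.map_map, ← IsScalarTower.algebraMap_eq])
  let p := Q.asIdeal.comap (algebraMap A (Pol A n))
  have hQA : Q''.asIdeal.comap (algebraMap (Pol A n) (Pol K n)) = Q.asIdeal := by
    rw [IsScalarTower.algebraMap_eq (Pol A n) (Pol A' n) (Pol K n), ← Ideal.comap_comap, hQ'']
    rfl
  have hp : p = RingHom.ker (algebraMap A K) := by
    show Q.asIdeal.comap _ = _
    rw [← hQA, MvPolynomial.algebraMap_eq, comap_C_eq_ker]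
  let θ : p.ResidueField →+* K := Ideal.ResidueField.lift p (algebraMap A K) hp.le (fun a ha => by
    rw [Submonoid.mem_comap, IsUnit.mem_submonoid_iff]
    exact Ne.isUnit fun h => ha ((SetLike.ext_iff.mp hp a).mpr h))
  letI : Algebra p.ResidueField K := θ.toAlgebra
  haveI : IsScalarTower A p.ResidueField K := IsScalarTower.of_algebraMap_eq fun a =>
    (Ideal.ResidueField.lift_algebraMap ..).symm
  haveI : IsScalarTower (Pol A n) (Pol p.ResidueField n) (Pol K n) := IsScalarTower.of_algebraMap_eq' (by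
    rw [algebraMap_def, algebraMap_def, algebraMap_def]
    refine RingHom.ext fun x => ?_
    rw [RingHom.comp_apply, MvPolynomial.map_map, ← IsScalarTower.algebraMap_eq])
  let Qb : PrimeSpectrum (Pol p.ResidueField n) :=
    PrimeSpectrum.comap (algebraMap (Pol p.ResidueField n) (Pol K n)) Q''
  have hQb : Qb.asIdeal.comap (algebraMap (Pol A n) (Pol p.ResidueField n)) = Q.asIdeal := by
    show (Q''.asIdeal.comap _).comap _ = _
    rw [Ideal.comap_comap, ← IsScalarTower.algebraMap_eq, hQA]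
  have h1 := genIn_residue (PrimeSpectrum.comap (algebraMap (Pol A n) (Pol A' n)) ⁻¹' S) τ Q' Q'' hQ''
  have h2 := genIn_residue S τ Q Qb hQb
  have h3 := genIn_field (hS p.ResidueField) τ Q''
  have heq : PrimeSpectrum.comap (algebraMap (Pol p.ResidueField n) (Pol K n)) ⁻¹'
      (PrimeSpectrum.comap (algebraMap (Pol A n) (Pol p.ResidueField n)) ⁻¹' S) =
      PrimeSpectrum.comap (algebraMap (Pol A' n) (Pol K n)) ⁻¹'
        (PrimeSpectrum.comap (algebraMap (Pol A n) (Pol A' n)) ⁻¹' S) := by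
    ext y
    simp only [Set.mem_preimage, ← PrimeSpectrum.comap_comp_apply, ← IsScalarTower.algebraMap_eq]
  rw [heq] at h3
  exact h1.symm.trans (h3.trans h2)

end GrothLib.FibPd
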