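import Mathlib.RingTheory.LocalRing.Module
import Mathlib.RingTheory.Flat.Equalizer
import Mathlib.RingTheory.Spectrum.Prime.FreeLocus
import Mathlib.RingTheory.LocalRing.ResidueField.Ideal

/-!
# A local freeness criterion on fibres
-/

set_option autoImplicit false
universe u

open TensorProduct Function IsLocalRing

namespace GrothLib.FibPd

/-- A submodule with flat quotient is pure with respect to ideals. -/
theorem mem_smul_of_flat {A K F N : Type u} [CommRing A] [AddCommGroup K] [Module A K] [AddCommGroup F] [Module A F]
    [AddCommGroup N] [Module A N] [Module.Flat A N] (I : Ideal A) (i : K →ₗ[A] F) (f : F →ₗ[A] N)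
    (hi : Injective i) (hf : Surjective f) (hex : Exact i f) {x : K} (hx : i x ∈ I • (⊤ : Submodule A F)) :
    x ∈ I • (⊤ : Submodule A K) := by
  have hinj : Injective (i.lTensor (A ⧸ I)) :=
    LinearMap.lTensor_injective_of_exact_of_flat f hf i hi hex (A ⧸ I)
  have h : i.lTensor (A ⧸ I) ((1 : A ⧸ I) ⊗ₜ x) = 0 := by
    rw [LinearMap.lTensor_tmul]
    apply (TensorProduct.quotTensorEquivQuotSMul F I).injective
    rw [map_zero]
    rw [show (1 : A ⧸ I) = Ideal.Quotient.mk I 1 from rfl, TensorProduct.quotTensorEquivQuotSMul_mk_tmul,
      one_smul, Submodule.Quotient.mk_eq_zero]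
    exact hx
  have h0 : (1 : A ⧸ I) ⊗ₜ[A] x = 0 := hinj (h.trans (map_zero _).symm)
  have h1 := congrArg (TensorProduct.quotTensorEquivQuotSMul K I) h0
  rwa [show (1 : A ⧸ I) = Ideal.Quotient.mk I 1 from rfl, TensorProduct.quotTensorEquivQuotSMul_mk_tmul,
    one_smul, map_zero, Submodule.Quotient.mk_eq_zero] at h1

variable {P : Type u} [CommRing P] {K F : Type u} [AddCommGroup K] [Module P K] [AddCommGroup F] [Module P F]

theorem baseChange_lTensor_injective_iff (G L : Type u) [CommRing G] [Algebra P G] [CommRing L] [Algebra P L]
    [Algebra G L] [IsScalarTower P G L] (i : K →ₗ[P] F) :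
    Injective ((i.baseChange G).lTensor L) ↔ Injective (i.lTensor L) := by
  let eK := AlgebraTensorModule.cancelBaseChange P G L L K
  let eF := AlgebraTensorModule.cancelBaseChange P G L L F
  have h : ∀ z, eF ((i.baseChange G).lTensor L z) = i.lTensor L (eK z) := by
    intro z
    induction z using TensorProduct.induction_on with
    | zero => simp
    | add a b ha hb => simp only [map_add, ha, hb]
    | tmul l y =>
      induction y using TensorProduct.induction_on with
      | zero => simp
      | add a b ha hb => simp only [TensorProduct.tmul_add, map_add, ha, hb]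
      | tmul g k => simp [eK, eF]
  constructor
  · intro hinj x y hxy
    apply eK.symm.injective
    apply hinj
    apply eF.injective
    rw [h, h, eK.apply_symm_apply, eK.apply_symm_apply, hxy]
  · intro hinj x y hxy
    apply eK.injective
    apply hinj
    rw [← h, ← h, hxy]

/-- If the base change of a presentation to a ring `G` lying over the residue field at `Q` is
split exact with projective quotient, the quotient is free at `Q`. -/
theorem mem_freeLocus_of_fibre {N : Type u} [AddCommGroup N] [Module P N] [Module.Free P F] [Module.Finite P F]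
    [Module.Finite P K] (Q : PrimeSpectrum P) (G : Type u) [CommRing G] [Algebra P G]
    (ψ : G →ₐ[P] Q.asIdeal.ResidueField) (i : K →ₗ[P] F) (f : F →ₗ[P] N) (hf : Surjective f) (hex : Exact i f)
    (hinj : Injective (i.baseChange G)) [Module.Projective G (G ⊗[P] N)] :
    Q ∈ Module.freeLocus P N := by
  letI : Algebra G Q.asIdeal.ResidueField := ψ.toRingHom.toAlgebra
  haveI : IsScalarTower P G Q.asIdeal.ResidueField :=
    IsScalarTower.of_algebraMap_eq fun x => (ψ.commutes x).symm
  -- the fibre inclusion is split injective
  have hexG : Exact (i.baseChange G) (f.baseChange G) := lTensor_exact G hex hf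
  have hfG : Surjective (f.baseChange G) := LinearMap.lTensor_surjective G hf
  obtain ⟨r, hr⟩ : ∃ r, r ∘ₗ i.baseChange G = LinearMap.id := by
    obtain ⟨s, hs⟩ := Module.projective_lifting_property (f.baseChange G) LinearMap.id hfG
    exact ((hexG.split_tfae hinj hfG).out 0 1 rfl rfl).mp ⟨s, hs⟩
  have hk : Injective ((i.baseChange G).lTensor Q.asIdeal.ResidueField) := by
    intro x y hxy
    have h := congrArg (r.lTensor Q.asIdeal.ResidueField) hxy
    rwa [← LinearMap.lTensor_comp_apply, ← LinearMap.lTensor_comp_apply, hr, LinearMap.lTensor_id,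
      LinearMap.id_apply, LinearMap.id_apply] at h
  rw [baseChange_lTensor_injective_iff] at hk
  -- localise
  let R := Localization.AtPrime Q.asIdeal
  rw [Module.mem_freeLocus_iff_tensor Q R]
  have hexR : Exact (i.baseChange R) (f.baseChange R) := lTensor_exact R hex hf
  have hfR : Surjective (f.baseChange R) := LinearMap.lTensor_surjective R hf
  exact Module.free_of_lTensor_residueField_injective (i.baseChange R) (f.baseChange R) hfR hexR
    ((baseChange_lTensor_injective_iff R (IsLocalRing.ResidueField R) i).mpr hk)

end GrothLib.FibPd
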