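import Groth.Agent.Lib.FibPd.Fibre
import Groth.Agent.Lib.FibPd.LocalFree
import Groth.Agent.Lib.FlatFP.Resolution
import Groth.Agent.Lib.FlatOff.InfinitesimalMain

/-!
# For a flat module the loci of fibre projective dimension are free loci of syzygies
-/

set_option autoImplicit false
set_option linter.style.haveILetI false
universe u

open TensorProduct Function IsLocalRing MvPolynomial

namespace GrothLib.FibPd

theorem mem_map_smul_top_iff {A P X : Type u} [CommRing A] [CommRing P] [Algebra A P] [AddCommGroup X]
    [Module A X] [Module P X] [IsScalarTower A P X] (I : Ideal A) (x : X) :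
    x ∈ I.map (algebraMap A P) • (⊤ : Submodule P X) ↔ x ∈ I • (⊤ : Submodule A X) := by
  constructor
  · intro hx
    induction hx using Submodule.smul_induction_on' with
    | smul r hr y _ =>
      induction hr using Submodule.span_induction generalizing y with
      | mem r hr =>
        obtain ⟨a, ha, rfl⟩ := hr
        rw [algebraMap_smul]
        exact Submodule.smul_mem_smul ha Submodule.mem_top
      | zero => rw [zero_smul]; exact Submodule.zero_mem _
      | add r s _ _ h1 h2 => rw [add_smul]; exact Submodule.add_mem _ (h1 y trivial) (h2 y trivial)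
      | smul c r _ h1 => rw [smul_eq_mul, mul_comm, mul_smul]; exact h1 (c • y) trivial
    | add y _ z _ h1 h2 => exact Submodule.add_mem _ h1 h2
  · intro hx
    induction hx using Submodule.smul_induction_on' with
    | smul a ha y _ =>
      rw [← algebraMap_smul P a y]
      exact Submodule.smul_mem_smul (Ideal.mem_map_of_mem _ ha) Submodule.mem_top
    | add y _ z _ h1 h2 => exact Submodule.add_mem _ h1 h2

theorem syz_succ' {A B : Type u} [CommRing A] [CommRing B] [Algebra A B] [Algebra.FinitePresentation A B]
    [Module.Flat A B] (S : GrothLib.FlatFP.FlatFPMod A B) : ∀ e, S.syz (e + 1) = S.next.syz e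
  | 0 => rfl
  | e + 1 => congrArg GrothLib.FlatFP.FlatFPMod.next (syz_succ' S e)

theorem injective_lTensor_of_flat {P : Type u} [CommRing P] (G L : Type u) [CommRing G] [Algebra P G] [CommRing L]
    [Algebra P L] [Algebra G L] [IsScalarTower P G L] [Module.Flat G L] {K F : Type u} [AddCommGroup K] [Module P K]
    [AddCommGroup F] [Module P F] (i : K →ₗ[P] F) (h : Injective (i.baseChange G)) : Injective (i.lTensor L) :=
  (baseChange_lTensor_injective_iff G L i).mp (Module.Flat.lTensor_preserves_injective_linearMap _ h)

variable {A : Type u} [CommRing A] {n : ℕ}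

theorem injective_lTensor_fibLocRing (Q : PrimeSpectrum (Pol A n)) {K F N : Type u} [AddCommGroup K] [Module (Pol A n) K]
    [AddCommGroup F] [Module (Pol A n) F] [AddCommGroup N] [Module (Pol A n) N] [Module A K] [Module A F] [Module A N]
    [IsScalarTower A (Pol A n) K] [IsScalarTower A (Pol A n) F] [IsScalarTower A (Pol A n) N] [Module.Flat A N]
    (i : K →ₗ[Pol A n] F) (f : F →ₗ[Pol A n] N) (hi : Injective i) (hf : Surjective f) (hex : Exact i f) :
    Injective (i.lTensor (EGA4.FibLocRing A (Pol A n) Q.asIdeal)) := by
  let p := Q.asIdeal.comap (algebraMap A (Pol A n))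
  let J := p.map (algebraMap A (Pol A n))
  have h0 : Injective (i.baseChange (Pol A n ⧸ J)) := by
    intro x y hxy
    rw [← sub_eq_zero, ← map_sub] at hxy
    rw [← sub_eq_zero]
    obtain ⟨k, hk⟩ : ∃ k, (1 : Pol A n ⧸ J) ⊗ₜ[Pol A n] k = x - y := by
      obtain ⟨k, hk⟩ := Submodule.Quotient.mk_surjective _ (quotTensorEquivQuotSMul K J (x - y))
      exact ⟨k, (quotTensorEquivQuotSMul K J).injective (by rw [quotTensorEquivQuotSMul_mk_one_tmul, hk])⟩
    rw [← hk, LinearMap.baseChange_tmul] at hxy
    have h1 := congrArg (quotTensorEquivQuotSMul F J) hxy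
    rw [quotTensorEquivQuotSMul_mk_one_tmul, map_zero, Submodule.Quotient.mk_eq_zero, mem_map_smul_top_iff] at h1
    have h2 := mem_smul_of_flat p (i.restrictScalars A) (f.restrictScalars A) hi hf hex h1
    rw [← mem_map_smul_top_iff (P := Pol A n)] at h2
    apply (quotTensorEquivQuotSMul K J).injective
    rw [← hk, quotTensorEquivQuotSMul_mk_one_tmul, map_zero, Submodule.Quotient.mk_eq_zero]
    exact h2
  -- the fibre local ring is flat over the fibre ring
  have hmap : p.map (algebraMap A (Localization.AtPrime Q.asIdeal)) =
      J.map (algebraMap (Pol A n) (Localization.AtPrime Q.asIdeal)) := by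
    rw [Ideal.map_map, ← IsScalarTower.algebraMap_eq]
  let G' := Localization.AtPrime Q.asIdeal ⧸ J.map (algebraMap (Pol A n) (Localization.AtPrime Q.asIdeal))
  haveI : Module.Flat (Pol A n ⧸ J) G' := GrothLib.FlatOff.flat_quot_map (Pol A n) (Localization.AtPrime Q.asIdeal) J
  have h1 : Injective (i.lTensor G') := injective_lTensor_of_flat (Pol A n ⧸ J) G' i h0
  let e : EGA4.FibLocRing A (Pol A n) Q.asIdeal ≃ₗ[Pol A n] G' :=
    { (Ideal.quotEquivOfEq hmap).toAddEquiv with
      map_smul' := fun r x => by
        obtain ⟨x, rfl⟩ := Ideal.Quotient.mk_surjective x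
        rfl }
  intro x y hxy
  apply (e.rTensor K).injective
  apply h1
  have : ∀ z, i.lTensor G' (e.rTensor K z) = e.rTensor F (i.lTensor _ z) := fun z => by
    induction z using TensorProduct.induction_on with
    | zero => simp
    | add a b ha hb => simp only [map_add, ha, hb]
    | tmul a b => simp
  rw [this, this, hxy]

/-- For a finitely presented module flat over the base, the fibre projective dimension loci are free loci. -/
theorem exists_pdFib_iff_freeLocus : ∀ (e : ℕ) (S : GrothLib.FlatFP.FlatFPMod A (Pol A n)),
    ∀ Q : PrimeSpectrum (Pol A n),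
      PdFib S.carrier Q e ↔ Q ∈ Module.freeLocus (Pol A n) (S.syz e).carrier
  | 0, S, Q => by
    show GrothLib.Serre.PdLE _ _ 0 ↔ Q ∈ Module.freeLocus (Pol A n) S.carrier
    rw [GrothLib.Serre.pdLE_zero_iff]
    let R := Localization.AtPrime Q.asIdeal
    let G := EGA4.FibLocRing A (Pol A n) Q.asIdeal
    constructor
    · intro hproj
      have hle : (Q.asIdeal.comap (algebraMap A (Pol A n))).map (algebraMap A R) ≤ maximalIdeal R := by
        rw [Ideal.map_le_iff_le_comap]
        intro a ha
        rw [Ideal.mem_comap, IsScalarTower.algebraMap_apply A (Pol A n) R]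
        exact (IsLocalization.AtPrime.to_map_mem_maximal_iff R Q.asIdeal _).2 ha
      let ψ : G →ₐ[Pol A n] Q.asIdeal.ResidueField :=
        { Ideal.Quotient.factor hle with
          commutes' := fun x => rfl }
      haveI : Module.FinitePresentation (Pol A n) S.next.carrier := S.next.fp
      refine mem_freeLocus_of_fibre Q G ψ S.incl S.aug S.aug_surjective S.exact_incl_aug ?_
      intro x y hxy
      exact injective_lTensor_fibLocRing Q S.incl S.aug S.incl_injective S.aug_surjective S.exact_incl_aug hxy
    · intro hfree
      haveI : Module.Free R (R ⊗[Pol A n] S.carrier) := (Module.mem_freeLocus_iff_tensor Q R).mp hfree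
      haveI : Module.Projective G (G ⊗[R] (R ⊗[Pol A n] S.carrier)) := inferInstance
      exact Module.Projective.of_equiv (AlgebraTensorModule.cancelBaseChange (Pol A n) R G G S.carrier)
  | e + 1, S, Q => by
    rw [syz_succ' S e, ← exists_pdFib_iff_freeLocus e S.next Q]
    exact GrothLib.Serre.pdLE_baseChange_succ_iff _ S.aug S.aug_surjective
      (injective_lTensor_fibLocRing Q S.incl S.aug S.incl_injective S.aug_surjective S.exact_incl_aug) e

/-- The loci where the fibre projective dimension of a flat module is bounded are open. -/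
theorem isOpen_pdFib (M : Type u) [AddCommGroup M] [Module (Pol A n) M] [Module A M] [IsScalarTower A (Pol A n) M]
    [Module.FinitePresentation (Pol A n) M] [Module.Flat A M] (e : ℕ) :
    IsOpen {Q : PrimeSpectrum (Pol A n) | PdFib M Q e} := by
  let S : GrothLib.FlatFP.FlatFPMod A (Pol A n) := { carrier := M }
  have : {Q : PrimeSpectrum (Pol A n) | PdFib M Q e} = Module.freeLocus (Pol A n) (S.syz e).carrier :=
    Set.ext fun Q => exists_pdFib_iff_freeLocus e S Q
  rw [this]
  exact Module.isOpen_freeLocus

end GrothLib.FibPd
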