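import Groth.Agent.Lib.FibPd.Primes
import Groth.Agent.Lib.FibPd.GenLocus
import Groth.Agent.Lib.FibPd.Open

/-!
# Equidimensionality of fibre stalks
-/

set_option autoImplicit false
set_option linter.style.haveILetI false
universe u

open TensorProduct Function IsLocalRing Topology TopologicalSpace

namespace GrothLib.FibPd

variable {A : Type u} [CommRing A] {n : ℕ}

theorem ptDimFib_mono {y z : PrimeSpectrum (Pol A n)} (h : y.asIdeal ≤ z.asIdeal)
    (hb : y.asIdeal.comap (algebraMap A (Pol A n)) = z.asIdeal.comap (algebraMap A (Pol A n))) :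
    ptDimFib z ≤ ptDimFib y := by
  have hsub : closure ({z} : Set (PrimeSpectrum (Pol A n))) ∩
      PrimeSpectrum.comap (algebraMap A (Pol A n)) ⁻¹' {PrimeSpectrum.comap (algebraMap A (Pol A n)) z} ⊆
      closure ({y} : Set (PrimeSpectrum (Pol A n))) ∩
      PrimeSpectrum.comap (algebraMap A (Pol A n)) ⁻¹' {PrimeSpectrum.comap (algebraMap A (Pol A n)) y} := by
    rw [show PrimeSpectrum.comap (algebraMap A (Pol A n)) z = PrimeSpectrum.comap (algebraMap A (Pol A n)) y from
      PrimeSpectrum.ext hb.symm]
    exact Set.inter_subset_inter_left _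
      (closure_minimal (Set.singleton_subset_iff.2 ((PrimeSpectrum.le_iff_specializes y z).1 h).mem_closure) isClosed_closure)
  exact (Topology.IsEmbedding.inclusion hsub).isInducing.topologicalKrullDim_le

theorem natCast_withBot_inj {a b : ℕ} (h : (a : WithBot ℕ∞) = b) : a = b := by exact_mod_cast h

/-- A minimal prime of the support is a prime with zero dimensional localised module. -/
theorem mem_minimalPrimes_annihilator_iff {T : Type u} [CommRing T] (N : Type u) [AddCommGroup N] [Module T N]
    [Module.Finite T N] (P : Ideal T) [P.IsPrime] :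
    P ∈ (Module.annihilator T N).minimalPrimes ↔
      Module.supportDim (Localization.AtPrime P) (LocalizedModule P.primeCompl N) = 0 := by
  let TP := Localization.AtPrime P
  let mkN := LocalizedModule.mkLinearMap P.primeCompl N
  have hmk : IsBaseChange TP mkN := (isLocalizedModule_iff_isBaseChange P.primeCompl TP mkN).mp inferInstance
  rw [← Module.supportDim_eq_of_equiv hmk.equiv]
  unfold Module.supportDim
  have hmem : ∀ r : PrimeSpectrum TP, r ∈ Module.support TP (TP ⊗[T] N) ↔
      Module.annihilator T N ≤ r.asIdeal.comap (algebraMap T TP) := fun r => by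
    rw [mem_support_baseChange_iff, Module.support_eq_zeroLocus]
    rfl
  constructor
  · intro hP
    haveI : Nonempty (Module.support TP (TP ⊗[T] N)) := by
      refine ⟨⟨⟨IsLocalRing.maximalIdeal TP, inferInstance⟩, (hmem _).2 ?_⟩⟩
      show _ ≤ (IsLocalRing.maximalIdeal TP).comap _
      exact hP.1.2.trans (IsLocalization.AtPrime.under_maximalIdeal TP P).ge
    haveI : Subsingleton (Module.support TP (TP ⊗[T] N)) := ⟨fun a b => by
      have key : ∀ r : Module.support TP (TP ⊗[T] N), r.1.asIdeal.comap (algebraMap T TP) = P := fun r => by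
        have h1 : r.1.asIdeal.comap (algebraMap T TP) ≤ P :=
          (Ideal.comap_mono (le_maximalIdeal r.1.isPrime.ne_top)).trans
            (IsLocalization.AtPrime.under_maximalIdeal TP P).le
        exact le_antisymm h1 (hP.2 ⟨inferInstance, (hmem r.1).1 r.2⟩ h1)
      exact Subtype.ext (PrimeSpectrum.localization_comap_injective TP P.primeCompl
        (PrimeSpectrum.ext ((key a).trans (key b).symm)))⟩
    exact le_antisymm Order.krullDim_nonpos_of_subsingleton Order.krullDim_nonneg
  · intro h0
    have hne : Nonempty (Module.support TP (TP ⊗[T] N)) := by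
      by_contra hne
      rw [not_nonempty_iff] at hne
      rw [Order.krullDim_eq_bot] at h0
      exact absurd h0 (by simp)
    obtain ⟨⟨r, hr⟩⟩ := hne
    have hmaxmem : (⟨IsLocalRing.maximalIdeal TP, inferInstance⟩ : PrimeSpectrum TP) ∈ Module.support TP (TP ⊗[T] N) := by
      rw [Module.support_eq_zeroLocus] at hr ⊢
      exact Set.Subset.trans hr (le_maximalIdeal r.isPrime.ne_top)
    refine ⟨⟨‹_›, ((hmem _).1 hmaxmem).trans (IsLocalization.AtPrime.under_maximalIdeal TP P).le⟩, fun P' hP' hle => ?_⟩
    haveI := hP'.1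
    obtain ⟨r', hr'⟩ : (⟨P', hP'.1⟩ : PrimeSpectrum T) ∈ Set.range (PrimeSpectrum.comap (algebraMap T TP)) := by
      rw [PrimeSpectrum.localization_comap_range TP P.primeCompl]
      exact Set.disjoint_left.2 fun x hx hxP => hx (hle hxP)
    have hr'' : r'.asIdeal.comap (algebraMap T TP) = P' := congrArg PrimeSpectrum.asIdeal hr'
    have hr's : r' ∈ Module.support TP (TP ⊗[T] N) := (hmem r').2 (hr''.symm ▸ hP'.2)
    by_contra hlt
    have hlt' : r' < (⟨IsLocalRing.maximalIdeal TP, inferInstance⟩ : PrimeSpectrum TP) := by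
      refine lt_of_le_of_ne (le_maximalIdeal r'.isPrime.ne_top) fun heq => hlt ?_
      rw [← hr'', heq]
      exact (IsLocalization.AtPrime.under_maximalIdeal TP P).ge
    let l : LTSeries (Module.support TP (TP ⊗[T] N)) :=
      { length := 1
        toFun := ![⟨r', hr's⟩, ⟨⟨IsLocalRing.maximalIdeal TP, inferInstance⟩, hmaxmem⟩]
        step := fun i => by fin_cases i; exact hlt' }
    have h1 := Order.LTSeries.length_le_krullDim l
    rw [h0] at h1
    exact absurd (show ((1 : ℕ) : WithBot ℕ∞) ≤ ((0 : ℕ) : WithBot ℕ∞) from h1) (by norm_cast)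

variable {B T : Type u} [CommRing B] [CommRing T] [Algebra (Pol A n) B] [Algebra A B]
    [IsScalarTower A (Pol A n) B] (hπ : Surjective (algebraMap (Pol A n) B))
    (q : Ideal B) [q.IsPrime] [IsLocalRing T] [IsNoetherianRing T] [Algebra B T]
    (hunit : ∀ u, u ∉ q → IsUnit (algebraMap B T u))
    (hsurj : ∀ t : T, ∃ b u : B, u ∉ q ∧ t * algebraMap B T u = algebraMap B T b)
    (hker : ∀ b : B, algebraMap B T b = 0 ↔ ∃ u, u ∉ q ∧ u * b ∈ (q.comap (algebraMap A B)).map (algebraMap A B))

include hπ hunit hsurj hker in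
/-- The dimension of an irreducible closed subset of the fibre stalk. -/
theorem dim_quotient_add_ptDimFib (P : Ideal T) [P.IsPrime] :
    ringKrullDim (T ⧸ P) + ptDimFib (⟨q.comap (algebraMap (Pol A n) B), inferInstance⟩ : PrimeSpectrum (Pol A n)) =
      ptDimFib (⟨(P.comap (algebraMap B T)).comap (algebraMap (Pol A n) B), inferInstance⟩ : PrimeSpectrum (Pol A n)) := by
  let Q : PrimeSpectrum (Pol A n) := ⟨q.comap (algebraMap (Pol A n) B), inferInstance⟩
  let q' := P.comap (algebraMap B T)
  let y : PrimeSpectrum (Pol A n) := ⟨q'.comap (algebraMap (Pol A n) B), inferInstance⟩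
  have hle : q' ≤ q := fun b hb => by
    by_contra hbq
    exact Ideal.IsPrime.ne_top' (I := P) (Ideal.eq_top_of_isUnit_mem P hb (hunit b hbq))
  have hp : y.asIdeal.comap (algebraMap A (Pol A n)) = Q.asIdeal.comap (algebraMap A (Pol A n)) := by
    show (q'.comap _).comap _ = (q.comap _).comap _
    have hbase : ∀ (I : Ideal B), (I.comap (algebraMap (Pol A n) B)).comap (algebraMap A (Pol A n)) =
        I.comap (algebraMap A B) := fun I => by rw [Ideal.comap_comap, ← IsScalarTower.algebraMap_eq]
    rw [hbase q', hbase q]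
    refine le_antisymm (Ideal.comap_mono hle) fun a ha => ?_
    show algebraMap B T (algebraMap A B a) ∈ P
    rw [(hker _).2 ⟨1, Ideal.IsPrime.one_notMem ‹_›, by rw [one_mul]; exact Ideal.mem_map_of_mem _ ha⟩]
    exact P.zero_mem
  have hPmap : q'.map (algebraMap B T) = P := by
    refine le_antisymm Ideal.map_comap_le fun t ht => ?_
    obtain ⟨b, u, hu, he⟩ := hsurj t
    have hb : b ∈ q' := by
      show algebraMap B T b ∈ P
      rw [← he]
      exact P.mul_mem_right _ ht
    obtain ⟨v, hv⟩ := hunit u hu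
    have : t = algebraMap B T b * ((v⁻¹ : Tˣ) : T) := by rw [← he, ← hv, mul_assoc, Units.mul_inv, mul_one]
    rw [this]
    exact Ideal.mul_mem_right _ _ (Ideal.mem_map_of_mem _ hb)
  haveI : Module.Finite (Pol A n) B := Module.Finite.of_surjective (Algebra.linearMap (Pol A n) B) hπ
  haveI : Module.Finite (Pol A n) (B ⧸ q') := Module.Finite.trans B _
  let E : T ⊗[B] (B ⧸ q') ≃ₗ[T] T ⧸ P :=
    (Algebra.TensorProduct.quotIdealMapEquivTensorQuot T q').symm.toLinearEquiv.trans
      (Submodule.quotEquivOfEq _ _ hPmap)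
  haveI : IsLocalRing (EGA4.FibLocRing A (Pol A n) (q.comap (algebraMap (Pol A n) B))) :=
    GrothLib.FlatOff.isLocalRing_fibLocRing _
  haveI : IsNoetherianRing (EGA4.FibLocRing A (Pol A n) (q.comap (algebraMap (Pol A n) B))) := by
    haveI : IsRegularLocalRing (EGA4.FibLocRing A (Pol A n) (q.comap (algebraMap (Pol A n) B))) :=
      isRegularLocalRing_fibLocRing_pol Q
    infer_instance
  obtain ⟨-, h2, -⟩ := fibStalk_transfer hπ q hunit hsurj hker (B ⧸ q') (T ⧸ P)
    ((E.toLinearMap.restrictScalars B).comp (TensorProduct.mk B T (B ⧸ q') 1)) (IsBaseChange.of_equiv E fun _ => rfl)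
  have hdim : Module.supportDim T (T ⧸ P) = ringKrullDim (T ⧸ P) := by
    rw [Module.supportDim_eq_ringKrullDim_quotient_annihilator, Ideal.annihilator_quotient]
  obtain ⟨t, D, ht, -, -, hf⟩ := fibre_data Q (B ⧸ q')
  obtain ⟨ty, -, hty, -⟩ := fibre_data y (B ⧸ q')
  have hsupp : Module.support (Pol A n) (B ⧸ q') = PrimeSpectrum.zeroLocus (y.asIdeal : Set (Pol A n)) := by
    rw [Module.support_eq_zeroLocus]
    refine congrArg (fun I : Ideal (Pol A n) => PrimeSpectrum.zeroLocus (I : Set (Pol A n))) (Ideal.ext fun a => ?_)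
    rw [Module.mem_annihilator]
    constructor
    · intro h
      have h1 := h (Ideal.Quotient.mk q' 1)
      rw [← algebraMap_smul B a, Algebra.smul_def, Ideal.Quotient.algebraMap_eq, ← map_mul, mul_one,
        Ideal.Quotient.eq_zero_iff_mem] at h1
      exact h1
    · intro ha m
      obtain ⟨b, rfl⟩ := Ideal.Quotient.mk_surjective m
      rw [← algebraMap_smul B a, Algebra.smul_def, Ideal.Quotient.algebraMap_eq, ← map_mul,
        Ideal.Quotient.eq_zero_iff_mem]
      exact q'.mul_mem_right _ ha
  rw [hsupp] at hf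
  have hfd : fibDimIn (PrimeSpectrum.comap (algebraMap A (Pol A n))) (PrimeSpectrum.zeroLocus (y.asIdeal : Set (Pol A n))) Q =
      (ty : WithBot ℕ∞) := by
    refine le_antisymm ?_ ?_
    · by_contra hgt
      have h' : ((ty + 1 : ℕ) : WithBot ℕ∞) ≤
          fibDimIn (PrimeSpectrum.comap (algebraMap A (Pol A n))) (PrimeSpectrum.zeroLocus (y.asIdeal : Set (Pol A n))) Q := by
        revert hgt
        generalize fibDimIn (PrimeSpectrum.comap (algebraMap A (Pol A n))) (PrimeSpectrum.zeroLocus (y.asIdeal : Set (Pol A n))) Q = a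
        intro hgt
        cases a with
        | bot => exact absurd bot_le hgt
        | coe b =>
          cases b with
          | top => exact WithBot.coe_le_coe.2 le_top
          | coe b =>
            norm_cast at hgt ⊢
            omega
      obtain ⟨w, hw, hwp, hwS, hwt⟩ := (genIn_zeroLocus_iff _ _ _).2 h'
      have := hwt.trans ((ptDimFib_mono hwS (hp.trans hwp.symm)).trans_eq hty)
      norm_cast at this
      omega
    · exact (genIn_zeroLocus_iff _ _ _).1 ⟨y, Ideal.comap_mono hle, hp, fun x hx => hx, hty.ge⟩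
  have hQQ : Module.supportDim T (T ⧸ P) + (t : WithBot ℕ∞) = ty := by
    rw [h2, ← hfd]
    exact hf
  rw [← hdim, show ptDimFib (⟨q.comap (algebraMap (Pol A n) B), inferInstance⟩ : PrimeSpectrum (Pol A n)) = (t : WithBot ℕ∞) from ht, hQQ]
  exact hty.symm

variable (M : Type u) [AddCommGroup M] [Module B M] [Module (Pol A n) M] [IsScalarTower (Pol A n) B M]
    [Module.Finite (Pol A n) M]
    (N : Type u) [AddCommGroup N] [Module T N] [Module B N] [IsScalarTower B T N]
    (g : M →ₗ[B] N) (hg : IsBaseChange T g)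

include hπ hunit hsurj hker hg in
/-- Equidimensionality of the fibre stalk in affine space. -/
theorem isEquidimModule_iff :
    EGA4.IsEquidimModule T N ↔ ∀ y y' : PrimeSpectrum (Pol A n),
      y.asIdeal ≤ q.comap (algebraMap (Pol A n) B) →
      y.asIdeal.comap (algebraMap A (Pol A n)) = (q.comap (algebraMap (Pol A n) B)).comap (algebraMap A (Pol A n)) →
      fibSdim M y = 0 →
      y'.asIdeal ≤ q.comap (algebraMap (Pol A n) B) →
      y'.asIdeal.comap (algebraMap A (Pol A n)) = (q.comap (algebraMap (Pol A n) B)).comap (algebraMap A (Pol A n)) →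
      fibSdim M y' = 0 → ptDimFib y = ptDimFib y' := by
  let Q : PrimeSpectrum (Pol A n) := ⟨q.comap (algebraMap (Pol A n) B), inferInstance⟩
  haveI : Module.Finite B M := Module.Finite.of_restrictScalars_finite (Pol A n) B M
  haveI : Module.Finite T N := Module.Finite.equiv hg.equiv
  haveI : IsLocalRing (EGA4.FibLocRing A (Pol A n) (q.comap (algebraMap (Pol A n) B))) :=
    GrothLib.FlatOff.isLocalRing_fibLocRing _
  haveI : IsNoetherianRing (EGA4.FibLocRing A (Pol A n) (q.comap (algebraMap (Pol A n) B))) := by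
    haveI : IsRegularLocalRing (EGA4.FibLocRing A (Pol A n) (q.comap (algebraMap (Pol A n) B))) :=
      isRegularLocalRing_fibLocRing_pol Q
    infer_instance
  obtain ⟨tQ, -, htQ, -, -, hF⟩ := fibre_data Q M
  obtain ⟨-, hsd, -⟩ := fibStalk_transfer hπ q hunit hsurj hker M N g hg
  have hmemsupp : ∀ y : PrimeSpectrum (Pol A n), fibSdim M y = 0 → y ∈ Module.support (Pol A n) M := fun y h => by
    by_contra hy
    haveI : Subsingleton (EGA4.FibLocRing A (Pol A n) y.asIdeal ⊗[Pol A n] M) :=
      not_nontrivial_iff_subsingleton.mp fun h => hy ((nontrivial_fibStalk_iff y M).mp h)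
    rw [fibSdim, Module.supportDim_eq_bot_of_subsingleton] at h
    exact absurd h (by simp)
  have hann : ∀ y ∈ Module.support (Pol A n) M, RingHom.ker (algebraMap (Pol A n) B) ≤ y.asIdeal := by
    intro y hy a ha
    refine Module.annihilator_le_of_mem_support hy ?_
    rw [Module.mem_annihilator]
    intro m
    rw [← algebraMap_smul B a m, RingHom.mem_ker.mp ha, zero_smul]
  constructor
  · intro h
    have key : ∀ y : PrimeSpectrum (Pol A n), y.asIdeal ≤ q.comap (algebraMap (Pol A n) B) →
        y.asIdeal.comap (algebraMap A (Pol A n)) = (q.comap (algebraMap (Pol A n) B)).comap (algebraMap A (Pol A n)) →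
        fibSdim M y = 0 → ptDimFib y = Module.supportDim T N + (tQ : WithBot ℕ∞) := by
      intro y hy hyp hy0
      obtain ⟨P, hP⟩ := exists_prime hπ q hsurj hker y (hann y (hmemsupp y hy0)) hy hyp
      obtain ⟨-, -, -, hs⟩ := prime_data hπ q hunit hsurj hker M N g hg P.asIdeal
      have hyeq : (⟨(P.asIdeal.comap (algebraMap B T)).comap (algebraMap (Pol A n) B), inferInstance⟩ :
          PrimeSpectrum (Pol A n)) = y := PrimeSpectrum.ext hP
      rw [hyeq, hy0, ← mem_minimalPrimes_annihilator_iff N P.asIdeal] at hs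
      rw [← hyeq, ← dim_quotient_add_ptDimFib hπ q hunit hsurj hker P.asIdeal, h _ hs]
      exact congrArg _ htQ
    intro y y' hy hyp hy0 hy' hyp' hy0'
    rw [key y hy hyp hy0, key y' hy' hyp' hy0']
  · intro h P hP
    haveI := hP.1.1
    obtain ⟨hle, hp, -, hs⟩ := prime_data hπ q hunit hsurj hker M N g hg P
    rw [(mem_minimalPrimes_annihilator_iff N P).1 hP] at hs
    let y : PrimeSpectrum (Pol A n) := ⟨(P.comap (algebraMap B T)).comap (algebraMap (Pol A n) B), inferInstance⟩
    have hbase : ∀ (I : Ideal B), (I.comap (algebraMap (Pol A n) B)).comap (algebraMap A (Pol A n)) =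
        I.comap (algebraMap A B) := fun I => by rw [Ideal.comap_comap, ← IsScalarTower.algebraMap_eq]
    have hyp : y.asIdeal.comap (algebraMap A (Pol A n)) = Q.asIdeal.comap (algebraMap A (Pol A n)) := by
      show ((P.comap _).comap _).comap _ = (q.comap _).comap _
      rw [hbase, hbase, hp]
    obtain ⟨ty, -, hty, -⟩ := fibre_data y M
    have hdim := dim_quotient_add_ptDimFib hπ q hunit hsurj hker P
    refine add_natCast_cancel tQ ?_
    rw [show ((tQ : ℕ) : WithBot ℕ∞) = ptDimFib Q from htQ.symm, hdim, hsd, htQ]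
    show ptDimFib y = _
    rw [hty, hF]
    rw [Module.support_eq_zeroLocus]
    refine le_antisymm ((genIn_zeroLocus_iff _ _ _).1 ⟨y, Ideal.comap_mono hle, hyp, ?_, hty.ge⟩) ?_
    · rw [← Module.support_eq_zeroLocus]
      exact hmemsupp y hs.symm
    by_contra hgt
    have h' : ((ty + 1 : ℕ) : WithBot ℕ∞) ≤ fibDimIn (PrimeSpectrum.comap (algebraMap A (Pol A n)))
        (PrimeSpectrum.zeroLocus (Module.annihilator (Pol A n) M : Set (Pol A n))) Q := by
      revert hgt
      generalize fibDimIn (PrimeSpectrum.comap (algebraMap A (Pol A n)))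
        (PrimeSpectrum.zeroLocus (Module.annihilator (Pol A n) M : Set (Pol A n))) Q = a
      intro hgt
      cases a with
      | bot => exact absurd bot_le hgt
      | coe b =>
        cases b with
        | top => exact WithBot.coe_le_coe.2 le_top
        | coe b =>
          norm_cast at hgt ⊢
          omega
    obtain ⟨w, hw, hwp, hwS, hwt⟩ := (genIn_zeroLocus_iff _ _ _).2 h'
    rw [← Module.support_eq_zeroLocus] at hwS
    obtain ⟨Pw, hPw⟩ := exists_prime hπ q hsurj hker w (hann w hwS) hw hwp
    -- a minimal prime of the support below it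
    have hannPw : Module.annihilator T N ≤ Pw.asIdeal := by
      obtain ⟨-, -, -, hsw⟩ := prime_data hπ q hunit hsurj hker M N g hg Pw.asIdeal
      by_contra hnle
      obtain ⟨a, ha, haP⟩ := SetLike.not_le_iff_exists.1 hnle
      haveI : Subsingleton (LocalizedModule Pw.asIdeal.primeCompl N) :=
        LocalizedModule.subsingleton_iff.2 fun x => ⟨a, haP, Module.mem_annihilator.1 ha x⟩
      rw [Module.supportDim_eq_bot_of_subsingleton,
        show (⟨(Pw.asIdeal.comap (algebraMap B T)).comap (algebraMap (Pol A n) B), inferInstance⟩ :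
          PrimeSpectrum (Pol A n)) = w from PrimeSpectrum.ext hPw] at hsw
      haveI := (nontrivial_fibStalk_iff w M).2 hwS
      exact Module.supportDim_ne_bot_of_nontrivial (EGA4.FibLocRing A (Pol A n) w.asIdeal)
        (EGA4.FibLocRing A (Pol A n) w.asIdeal ⊗[Pol A n] M) hsw.symm
    obtain ⟨P₀, hP₀, hP₀le⟩ := Ideal.exists_minimalPrimes_le hannPw
    haveI := hP₀.1.1
    obtain ⟨hle₀, hp₀, -, hs₀⟩ := prime_data hπ q hunit hsurj hker M N g hg P₀
    rw [(mem_minimalPrimes_annihilator_iff N P₀).1 hP₀] at hs₀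
    let y₀ : PrimeSpectrum (Pol A n) := ⟨(P₀.comap (algebraMap B T)).comap (algebraMap (Pol A n) B), inferInstance⟩
    have hy₀p : y₀.asIdeal.comap (algebraMap A (Pol A n)) = Q.asIdeal.comap (algebraMap A (Pol A n)) := by
      show ((P₀.comap _).comap _).comap _ = (q.comap _).comap _
      rw [hbase, hbase, hp₀]
    have hy₀w : y₀.asIdeal ≤ w.asIdeal := by
      rw [← hPw]
      exact Ideal.comap_mono (Ideal.comap_mono hP₀le)
    have h1 := h y₀ y (Ideal.comap_mono hle₀) hy₀p hs₀.symm (Ideal.comap_mono hle) hyp hs.symm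
    have := hwt.trans ((ptDimFib_mono hy₀w (hy₀p.trans hwp.symm)).trans_eq (h1.trans hty))
    norm_cast at this
    omega

end GrothLib.FibPd
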