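import Groth.Agent.Lib.FibPd.GenConstr
import Groth.Agent.Lib.FibPd.AssScheme
import Groth.Agent.Lib.CMMor6.Open

/-!
# Equidimensionality of the fibres is constructible
-/

set_option autoImplicit false
set_option backward.isDefEq.respectTransparency false
set_option linter.style.haveILetI false
universe u

open TensorProduct Function IsLocalRing CategoryTheory AlgebraicGeometry Topology TopologicalSpace

namespace GrothLib.FibPd

section Ring

variable {A : Type u} [CommRing A] {n : ℕ} {M : Type u} [AddCommGroup M] [Module (Pol A n) M]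

theorem genIn_stratum_iff [Module.Finite (Pol A n) M] (τ : ℕ) (Q : PrimeSpectrum (Pol A n)) :
    GenIn (Module.support (Pol A n) M ∩ dimStratum M τ) τ Q ↔ ∃ y : PrimeSpectrum (Pol A n),
      y.asIdeal ≤ Q.asIdeal ∧ y.asIdeal.comap (algebraMap A (Pol A n)) = Q.asIdeal.comap (algebraMap A (Pol A n)) ∧
      fibSdim M y = 0 ∧ ptDimFib y = τ := by
  constructor
  · rintro ⟨y, hy, hyp, ⟨hys, hst⟩, hyt⟩
    obtain ⟨d, e, t, s, -, ht, -, -, hs, hfd, -⟩ := exists_numbers y M hys
    have h1 : τ = s + t := natCast_withBot_inj ((show _ = (τ : WithBot ℕ∞) from hst).symm.trans hfd)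
    rw [ht] at hyt
    have h2 : τ ≤ t := by exact_mod_cast hyt
    refine ⟨y, hy, hyp, ?_, ?_⟩
    · rw [fibSdim, hs, show s = 0 by omega, Nat.cast_zero]
    · rw [ht, show t = τ by omega]
  · rintro ⟨y, hy, hyp, hy0, hyt⟩
    have hys := mem_support_of_fibDepth_eq_zero (fibSdim_eq_zero_imp hy0)
    obtain ⟨d, e, t, s, -, ht, -, -, hs, hfd, -⟩ := exists_numbers y M hys
    rw [fibSdim, hs] at hy0
    have hs0 : s = 0 := by exact_mod_cast hy0
    have htτ : t = τ := natCast_withBot_inj (ht.symm.trans hyt)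
    refine ⟨y, hy, hyp, ⟨hys, ?_⟩, hyt.ge⟩
    show _ = (τ : WithBot ℕ∞)
    rw [hfd, hs0, htτ, zero_add]

theorem isConstructible_equidimGood [Module.FinitePresentation (Pol A n) M] :
    IsConstructible {Q : PrimeSpectrum (Pol A n) | EquidimGood M Q} := by
  have hset : {Q : PrimeSpectrum (Pol A n) | EquidimGood M Q}ᶜ =
      ⋃ τ ∈ Set.Iic n, ⋃ τ' ∈ Set.Iic n \ {τ},
        {Q : PrimeSpectrum (Pol A n) | GenIn (Module.support (Pol A n) M ∩ dimStratum M τ) τ Q} ∩
          {Q | GenIn (Module.support (Pol A n) M ∩ dimStratum M τ') τ' Q} := by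
    ext Q
    simp only [Set.mem_compl_iff, Set.mem_setOf_eq, Set.mem_iUnion, Set.mem_inter_iff, exists_prop]
    constructor
    · intro h
      simp only [EquidimGood, not_forall] at h
      obtain ⟨y, y', hy, hyp, hy0, hy', hyp', hy0', hne⟩ := h
      obtain ⟨t, htn, ht⟩ := exists_ptDimFib_eq (A := A) (n := n) y
      obtain ⟨t', htn', ht'⟩ := exists_ptDimFib_eq (A := A) (n := n) y'
      exact ⟨t, htn, t', ⟨htn', fun h => hne (by rw [ht, ht', Set.mem_singleton_iff.1 h])⟩,
        (genIn_stratum_iff t Q).2 ⟨y, hy, hyp, hy0, ht⟩, (genIn_stratum_iff t' Q).2 ⟨y', hy', hyp', hy0', ht'⟩⟩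
    · rintro ⟨τ, -, τ', ⟨-, hne⟩, h1, h2⟩ hE
      obtain ⟨y, hy, hyp, hy0, ht⟩ := (genIn_stratum_iff τ Q).1 h1
      obtain ⟨y', hy', hyp', hy0', ht'⟩ := (genIn_stratum_iff τ' Q).1 h2
      have := hE y y' hy hyp hy0 hy' hyp' hy0'
      rw [ht, ht'] at this
      exact hne (natCast_withBot_inj this).symm
  rw [← isConstructible_compl, hset]
  exact IsConstructible.biUnion (Set.finite_Iic n) fun τ _ =>
    IsConstructible.biUnion ((Set.finite_Iic n).subset Set.sdiff_subset) fun τ' _ =>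
      (isConstructible_genIn' (isConstructible_dimStratum_inter_support M τ) τ).inter
        (isConstructible_genIn' (isConstructible_dimStratum_inter_support M τ') τ')

end Ring

variable {X S : Scheme.{u}} (f : X ⟶ S) [LocallyOfFinitePresentation f]

theorem closure_mem_irreducibleComponents_iff {W : Scheme.{u}} (z : W) :
    closure ({z} : Set W) ∈ irreducibleComponents (W : Type u) ↔ ringKrullDim (W.presheaf.stalk z) = 0 := by
  constructor
  · intro h
    refine le_antisymm (GrothLib.CMMor6.ringKrullDim_stalk_le_zero z fun w hw => ?_) ringKrullDim_nonneg_of_nontrivial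
    have := h.2 isIrreducible_singleton.closure (specializes_iff_closure_subset.1 hw)
    exact (hw.antisymm (specializes_iff_closure_subset.2 this)).eq
  · intro h
    refine ⟨isIrreducible_singleton.closure, fun Z hZ hle => ?_⟩
    obtain ⟨η, hη⟩ := QuasiSober.sober hZ.closure isClosed_closure
    have hηz : η ⤳ z := specializes_iff_mem_closure.2 (by
      rw [hη]
      exact subset_closure (hle (subset_closure rfl)))
    rw [ringKrullDim_stalk_eq_coheight] at h
    have h' : Order.coheight z = 0 := by exact_mod_cast h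
    have hmax : η ≤ z := Order.coheight_eq_zero.1 h' (show z ≤ η from hηz)
    refine subset_closure.trans ?_
    rw [← hη]
    exact specializes_iff_closure_subset.1 hmax

theorem equidimAt_iff (W : Scheme.{u}) (w : W) (hfin : ∀ z : W, ∃ t : ℕ,
      topologicalKrullDim ↥(closure ({z} : Set W)) = (t : WithBot ℕ∞)) :
    (∃ e : ℕ, ∀ Z ∈ irreducibleComponents (W : Type u), w ∈ Z → topologicalKrullDim (↥Z : Type u) = e) ↔
      ∀ z z' : W, z ⤳ w → ringKrullDim (W.presheaf.stalk z) = 0 → z' ⤳ w → ringKrullDim (W.presheaf.stalk z') = 0 →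
        topologicalKrullDim ↥(closure ({z} : Set W)) = topologicalKrullDim ↥(closure ({z'} : Set W)) := by
  constructor
  · rintro ⟨e, he⟩ z z' hz hz0 hz' hz0'
    rw [he _ ((closure_mem_irreducibleComponents_iff z).2 hz0) (specializes_iff_mem_closure.1 hz),
      he _ ((closure_mem_irreducibleComponents_iff z').2 hz0') (specializes_iff_mem_closure.1 hz')]
  · intro h
    have hgen : ∀ Z ∈ irreducibleComponents (W : Type u), w ∈ Z → ∃ z : W, closure ({z} : Set W) = Z ∧ z ⤳ w ∧
        ringKrullDim (W.presheaf.stalk z) = 0 := fun Z hZ hw => by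
      obtain ⟨z, hz⟩ := QuasiSober.sober hZ.1 (isClosed_of_mem_irreducibleComponents Z hZ)
      have hz' : closure ({z} : Set W) = Z := hz
      refine ⟨z, hz', specializes_iff_mem_closure.2 (hz'.symm ▸ hw), (closure_mem_irreducibleComponents_iff z).1 ?_⟩
      rw [hz']
      exact hZ
    obtain ⟨z₀, -, hz₀, hz₀0⟩ := hgen _ (irreducibleComponent_mem_irreducibleComponents w) mem_irreducibleComponent
    obtain ⟨t, ht⟩ := hfin z₀
    refine ⟨t, fun Z hZ hw => ?_⟩
    obtain ⟨z, rfl, hz, hz0⟩ := hgen Z hZ hw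
    rw [← ht]
    exact h z z₀ hz hz0 hz₀ hz₀0

theorem isLocallyConstructible_equidimAt :
    IsLocallyConstructible {x : X | ∃ e : ℕ,
      ∀ Z ∈ irreducibleComponents (↥(f.fiber (f.base x)) : Type u), f.asFiber x ∈ Z →
        topologicalKrullDim (↥Z : Type u) = e} := by
  intro x₀
  obtain ⟨V, W, hV, hW, e, hxW⟩ := exists_chart f x₀
  obtain ⟨n, π, hπ, hπfg, hπA⟩ := exists_presentation f hV hW e
  letI := polModule π Γ(X, W)
  haveI : Module.FinitePresentation (Pol Γ(S, V) n) Γ(X, W) := by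
    letI : Algebra (Pol Γ(S, V) n) Γ(X, W) := π.toAlgebra
    exact Module.finitePresentation_of_surjective (Algebra.linearMap (Pol Γ(S, V) n) Γ(X, W)) hπ hπfg
  refine ⟨(W : Set X), W.2.mem_nhds hxW, W.2, ?_⟩
  refine isConstructible_chartPt_preimage hW π (isConstructible_equidimGood (M := Γ(X, W))) fun x => ?_
  have hfin : ∀ z : ↥(f.fiber (f x.1)), ∃ t : ℕ,
      topologicalKrullDim ↥(closure ({z} : Set ↥(f.fiber (f x.1)))) = (t : WithBot ℕ∞) := fun z => by
    obtain ⟨V', W', hV', hW', e', hzW⟩ := exists_chart f (f.fiberι (f x.1) z)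
    obtain ⟨n', π', hπ', -, hπA'⟩ := exists_presentation f hV' hW' e'
    obtain ⟨t, -, ht⟩ := exists_ptDimFib_eq (chartPt hW' π' ⟨_, hzW⟩)
    exact ⟨t, (dim_closure_eq_ptDimFib f hV' hW' e' π' hπ' hπA' _ z hzW).trans ht⟩
  have hdim : ∀ (z : ↥(f.fiber (f x.1))) (hz : f.fiberι (f x.1) z ∈ W),
      ringKrullDim ((f.fiber (f x.1)).presheaf.stalk z) = fibSdim Γ(X, W) (chartPt hW π ⟨_, hz⟩) :=
    fun z hz => (fibre_ring_data f hV hW e π hπ hπA _ z hz).2
  have hker : ∀ y, fibSdim Γ(X, W) y = 0 → RingHom.ker π ≤ y.asIdeal := fun y hy =>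
    ker_le_of_mem_support π Γ(X, W) (mem_support_of_fibDepth_eq_zero (fibSdim_eq_zero_imp hy))
  rw [Set.mem_setOf_eq, equidimAt_iff _ _ hfin, Set.mem_setOf_eq]
  constructor
  · intro h y y' hy hyp hy0 hy' hyp' hy0'
    obtain ⟨z, hzW, hz, rfl⟩ := gen_exists f hV hW e π hπ hπA x y hy hyp (hker y hy0)
    obtain ⟨z', hzW', hz', rfl⟩ := gen_exists f hV hW e π hπ hπA x y' hy' hyp' (hker y' hy0')
    have := h z z' hz ((hdim z hzW).trans hy0) hz' ((hdim z' hzW').trans hy0')
    rwa [dim_closure_eq_ptDimFib f hV hW e π hπ hπA _ z hzW,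
      dim_closure_eq_ptDimFib f hV hW e π hπ hπA _ z' hzW'] at this
  · intro h z z' hz hz0 hz' hz0'
    obtain ⟨hzW, hle, hfib⟩ := gen_mem f hV hW e π hπ hπA x z hz
    obtain ⟨hzW', hle', hfib'⟩ := gen_mem f hV hW e π hπ hπA x z' hz'
    rw [dim_closure_eq_ptDimFib f hV hW e π hπ hπA _ z hzW,
      dim_closure_eq_ptDimFib f hV hW e π hπ hπA _ z' hzW']
    exact h _ _ hle hfib ((hdim z hzW).symm.trans hz0) hle' hfib' ((hdim z' hzW').symm.trans hz0')

end GrothLib.FibPd
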