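import Groth.Agent.Lib.FibPd.Criteria
import Groth.Agent.Lib.CMMor6.Algebra

/-!
# The dimension of the fibre of the support is unchanged by base change
-/

set_option autoImplicit false
set_option linter.style.haveILetI false
universe u

open TensorProduct Function IsLocalRing MvPolynomial

namespace GrothLib.FibPd

attribute [local instance] MvPolynomial.algebraMvPolynomial

/-- The support dimension along a flat local homomorphism. -/
theorem supportDim_baseChange_add {P G L : Type u} [CommRing P] [CommRing G] [CommRing L] [Algebra P G] [Algebra P L]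
    [Algebra G L] [IsScalarTower P G L] [IsLocalRing G] [IsLocalRing L] [IsNoetherianRing G] [IsNoetherianRing L]
    [IsLocalHom (algebraMap G L)] [Module.Flat G L] (M : Type u) [AddCommGroup M] [Module P M] [Module.Finite P M] :
    Module.supportDim L (L ⊗[P] M) + ringKrullDim G = Module.supportDim G (G ⊗[P] M) + ringKrullDim L := by
  let N := G ⊗[P] M
  let I := Module.annihilator G N
  rw [← Module.supportDim_eq_of_equiv (AlgebraTensorModule.cancelBaseChange P G L L M)]
  have hL : Module.supportDim L (L ⊗[G] N) = ringKrullDim (L ⧸ I.map (algebraMap G L)) := by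
    rw [ringKrullDim_quotient]
    unfold Module.supportDim
    have hset : Module.support L (L ⊗[G] N) = PrimeSpectrum.zeroLocus (I.map (algebraMap G L) : Set L) := by
      ext q
      rw [mem_support_baseChange_iff, Module.support_eq_zeroLocus, PrimeSpectrum.mem_zeroLocus,
        PrimeSpectrum.mem_zeroLocus, SetLike.coe_subset_coe, SetLike.coe_subset_coe, Ideal.map_le_iff_le_comap]
      rfl
    rw [hset]
  rw [hL, Module.supportDim_eq_ringKrullDim_quotient_annihilator]
  rcases subsingleton_or_nontrivial (G ⧸ I) with h | h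
  · have hI : I = ⊤ := Ideal.Quotient.subsingleton_iff.mp h
    haveI : Subsingleton (L ⧸ I.map (algebraMap G L)) := by
      rw [Ideal.Quotient.subsingleton_iff, hI, Ideal.map_top]
    rw [@ringKrullDim_eq_bot_of_subsingleton (G ⧸ I) _ h, @ringKrullDim_eq_bot_of_subsingleton (L ⧸ I.map (algebraMap G L)) _ inferInstance,
      WithBot.bot_add, WithBot.bot_add]
  · have hI : I ≤ maximalIdeal G := le_maximalIdeal (Ideal.Quotient.nontrivial_iff.mp h)
    have hmap : (maximalIdeal G).map (algebraMap G L) ≤ maximalIdeal L := map_maximalIdeal_le (algebraMap G L)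
    haveI : Nontrivial (L ⧸ I.map (algebraMap G L)) := Ideal.Quotient.nontrivial_iff.mpr
      (ne_top_of_le_ne_top (maximalIdeal.isMaximal L).ne_top ((Ideal.map_mono hI).trans hmap))
    haveI : IsLocalRing (G ⧸ I) := IsLocalRing.of_surjective' _ Ideal.Quotient.mk_surjective
    haveI : IsLocalRing (L ⧸ I.map (algebraMap G L)) := IsLocalRing.of_surjective' _ Ideal.Quotient.mk_surjective
    letI : Algebra (G ⧸ I) (L ⧸ I.map (algebraMap G L)) := Ideal.Quotient.algebraQuotientOfLEComap Ideal.le_comap_map
    haveI : Module.Flat (G ⧸ I) (L ⧸ I.map (algebraMap G L)) := GrothLib.FlatOff.flat_quot_map G L I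
    haveI : IsLocalHom (algebraMap (G ⧸ I) (L ⧸ I.map (algebraMap G L))) := by
      refine ⟨fun a ha => ?_⟩
      obtain ⟨a, rfl⟩ := Ideal.Quotient.mk_surjective a
      haveI : IsLocalHom (Ideal.Quotient.mk (I.map (algebraMap G L))) :=
        IsLocalHom.of_surjective _ Ideal.Quotient.mk_surjective
      have ha' : IsUnit (Ideal.Quotient.mk (I.map (algebraMap G L)) (algebraMap G L a)) := ha
      exact (isUnit_of_map_unit (algebraMap G L) a (isUnit_of_map_unit _ _ ha')).map _
    rw [GrothLib.CMMor6.ringKrullDim_eq_add (A := G) (B := L),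
      GrothLib.CMMor6.ringKrullDim_eq_add (A := G ⧸ I) (B := L ⧸ I.map (algebraMap G L))]
    have hdim : ringKrullDim ((L ⧸ I.map (algebraMap G L)) ⧸
        (maximalIdeal (G ⧸ I)).map (algebraMap (G ⧸ I) (L ⧸ I.map (algebraMap G L)))) =
        ringKrullDim (L ⧸ (maximalIdeal G).map (algebraMap G L)) := by
      have h1 : (maximalIdeal (G ⧸ I)).map (algebraMap (G ⧸ I) (L ⧸ I.map (algebraMap G L))) =
          ((maximalIdeal G).map (algebraMap G L)).map (Ideal.Quotient.mk (I.map (algebraMap G L))) := by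
        rw [← IsLocalRing.map_maximalIdeal_of_surjective (Ideal.Quotient.mk I) Ideal.Quotient.mk_surjective,
          Ideal.map_map, Ideal.map_map]
        rfl
      rw [h1]
      exact ringKrullDim_eq_of_ringEquiv (DoubleQuot.quotQuotEquivQuotOfLE (Ideal.map_mono hI))
    rw [hdim]
    abel

theorem add_natCast_cancel {x y : WithBot ℕ∞} (d : ℕ) (h : x + (d : WithBot ℕ∞) = y + (d : WithBot ℕ∞)) : x = y := by
  cases x with
  | bot =>
    cases y with
    | bot => rfl
    | coe b => rw [WithBot.bot_add] at h; exact absurd h.symm (WithBot.coe_ne_bot)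
  | coe a =>
    cases y with
    | bot => rw [WithBot.bot_add] at h; exact absurd h (WithBot.coe_ne_bot)
    | coe b =>
      have h' : a + (d : ℕ∞) = b + (d : ℕ∞) := by exact_mod_cast h
      exact congrArg _ ((WithTop.add_right_inj (ENat.natCast_ne_top d)).mp h')

variable {A : Type u} [CommRing A] {n : ℕ}

/-- The fibre local ring maps flatly to the local rings over any larger field. -/
theorem supportDim_field (Q : PrimeSpectrum (Pol A n)) (M : Type u) [AddCommGroup M] [Module (Pol A n) M]
    [Module.Finite (Pol A n) M] (k : Type u) [Field k] [Algebra A k] (Q' : PrimeSpectrum (Pol k n))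
    (hQ : Q'.asIdeal.comap (algebraMap (Pol A n) (Pol k n)) = Q.asIdeal) :
    Module.supportDim (Localization.AtPrime Q'.asIdeal) (Localization.AtPrime Q'.asIdeal ⊗[Pol A n] M) +
        ringKrullDim (EGA4.FibLocRing A (Pol A n) Q.asIdeal) =
      Module.supportDim (EGA4.FibLocRing A (Pol A n) Q.asIdeal) (EGA4.FibLocRing A (Pol A n) Q.asIdeal ⊗[Pol A n] M) +
        ringKrullDim (Localization.AtPrime Q'.asIdeal) := by
  let p := Q.asIdeal.comap (algebraMap A (Pol A n))
  have hp : p = RingHom.ker (algebraMap A k) := by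
    show Q.asIdeal.comap _ = _
    rw [← hQ, MvPolynomial.algebraMap_eq, comap_C_eq_ker]
  let θ : p.ResidueField →+* k := Ideal.ResidueField.lift p (algebraMap A k) hp.le (fun a ha => by
    rw [Submonoid.mem_comap, IsUnit.mem_submonoid_iff]
    exact Ne.isUnit fun h => ha ((SetLike.ext_iff.mp hp a).mpr h))
  letI : Algebra p.ResidueField k := θ.toAlgebra
  haveI : IsScalarTower A p.ResidueField k := IsScalarTower.of_algebraMap_eq fun a =>
    (Ideal.ResidueField.lift_algebraMap ..).symm
  haveI : IsScalarTower (Pol A n) (Pol p.ResidueField n) (Pol k n) := IsScalarTower.of_algebraMap_eq' (by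
    rw [algebraMap_def, algebraMap_def, algebraMap_def]
    refine RingHom.ext fun x => ?_
    rw [RingHom.comp_apply, MvPolynomial.map_map, ← IsScalarTower.algebraMap_eq])
  let Qb : PrimeSpectrum (Pol p.ResidueField n) :=
    ⟨Q'.asIdeal.comap (algebraMap (Pol p.ResidueField n) (Pol k n)), inferInstance⟩
  have hQb : Qb.asIdeal.comap (algebraMap (Pol A n) (Pol p.ResidueField n)) = Q.asIdeal := by
    show (Q'.asIdeal.comap _).comap _ = _
    rw [Ideal.comap_comap, ← IsScalarTower.algebraMap_eq, hQ]
  obtain ⟨e₁⟩ := nonempty_fibEquiv Q Qb hQb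
  let G := EGA4.FibLocRing A (Pol A n) Q.asIdeal
  let L₁ := Localization.AtPrime Qb.asIdeal
  let L₂ := Localization.AtPrime Q'.asIdeal
  haveI : Q'.asIdeal.LiesOver Qb.asIdeal := ⟨rfl⟩
  letI := Localization.AtPrime.algebraOfLiesOver Qb.asIdeal Q'.asIdeal
  haveI : Module.FaithfullyFlat L₁ L₂ := faithfullyFlat_local _ k Q'.asIdeal Qb.asIdeal
  haveI : IsScalarTower (Pol A n) L₁ L₂ := IsScalarTower.of_algebraMap_eq fun x => by
    rw [IsScalarTower.algebraMap_apply (Pol A n) (Pol p.ResidueField n) L₁, ← IsScalarTower.algebraMap_apply (Pol p.ResidueField n) L₁ L₂,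
      IsScalarTower.algebraMap_apply (Pol p.ResidueField n) (Pol k n) L₂, ← IsScalarTower.algebraMap_apply (Pol A n) (Pol p.ResidueField n) (Pol k n),
      ← IsScalarTower.algebraMap_apply]
  let φ : G →+* L₂ := (algebraMap L₁ L₂).comp e₁.toAlgHom.toRingHom
  letI : Algebra G L₂ := φ.toAlgebra
  haveI : IsScalarTower (Pol A n) G L₂ := ⟨fun r g x => by
    show algebraMap L₁ L₂ (e₁ (r • g)) * x = r • (algebraMap L₁ L₂ (e₁ g) * x)
    rw [map_smul, ← Algebra.smul_def, ← Algebra.smul_def, smul_assoc]⟩
  have he : IsLocalHom e₁.toAlgHom.toRingHom := ⟨fun a ha => e₁.symm_apply_apply a ▸ ha.map e₁.symm⟩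
  haveI : IsLocalHom (algebraMap L₁ L₂) := Localization.isLocalHom_localRingHom _ _ _ _
  haveI : IsLocalHom (algebraMap G L₂) := RingHom.isLocalHom_comp _ _
  haveI : Module.Flat G L₂ := by
    rw [← RingHom.flat_algebraMap_iff]
    exact (RingHom.Flat.of_bijective e₁.bijective).comp (RingHom.flat_algebraMap_iff.mpr inferInstance)
  haveI : IsNoetherianRing L₂ := IsLocalization.isNoetherianRing Q'.asIdeal.primeCompl _ inferInstance
  exact supportDim_baseChange_add (P := Pol A n) (G := G) (L := L₂) M

/-- Base change leaves the fibre dimension of the support unchanged. -/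
theorem fibDimIn_baseChange (Q : PrimeSpectrum (Pol A n)) {A' : Type u} [CommRing A'] [Algebra A A'] (M : Type u)
    [AddCommGroup M] [Module (Pol A n) M] [Module.Finite (Pol A n) M] (Q' : PrimeSpectrum (Pol A' n))
    (hQ : Q'.asIdeal.comap (algebraMap (Pol A n) (Pol A' n)) = Q.asIdeal) :
    fibDimIn (PrimeSpectrum.comap (algebraMap A' (Pol A' n))) (Module.support (Pol A' n) (Pol A' n ⊗[Pol A n] M)) Q' =
      fibDimIn (PrimeSpectrum.comap (algebraMap A (Pol A n))) (Module.support (Pol A n) M) Q := by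
  obtain ⟨Q'', hQ''⟩ := exists_point Q'
  let k := (Q'.asIdeal.comap (algebraMap A' (Pol A' n))).ResidueField
  haveI : IsScalarTower (Pol A n) (Pol A' n) (Pol k n) := IsScalarTower.of_algebraMap_eq' (by
    rw [algebraMap_def, algebraMap_def, algebraMap_def]
    refine RingHom.ext fun x => ?_
    rw [RingHom.comp_apply, MvPolynomial.map_map, ← IsScalarTower.algebraMap_eq])
  let L := Localization.AtPrime Q''.asIdeal
  have h1 := supportDim_field Q' (Pol A' n ⊗[Pol A n] M) k Q'' hQ''
  have h2 := supportDim_field Q M k Q''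
    (by rw [IsScalarTower.algebraMap_eq (Pol A n) (Pol A' n) (Pol k n), ← Ideal.comap_comap, hQ'', hQ])
  have hcancel : Module.supportDim L (L ⊗[Pol A' n] (Pol A' n ⊗[Pol A n] M)) = Module.supportDim L (L ⊗[Pol A n] M) := by
    let ec : L ⊗[Pol A' n] (Pol A' n ⊗[Pol A n] M) ≃ₗ[L] L ⊗[Pol A n] M :=
      AlgebraTensorModule.cancelBaseChange (Pol A n) (Pol A' n) L L M
    exact Module.supportDim_eq_of_equiv ec
  rw [hcancel] at h1
  obtain ⟨t', D', -, hD', hn', hf'⟩ := fibre_data Q' (Pol A' n ⊗[Pol A n] M)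
  obtain ⟨t, D, -, hD, hn, hf⟩ := fibre_data Q M
  obtain ⟨dL, hdL⟩ : ∃ d : ℕ, ringKrullDim L = d := by
    obtain ⟨d, hd⟩ := ENat.ne_top_iff_exists.1 (Ideal.height_ne_top (I := Q''.asIdeal) Ideal.IsPrime.ne_top')
    exact ⟨d, by rw [IsLocalization.AtPrime.ringKrullDim_eq_height Q''.asIdeal, ← hd]; rfl⟩
  rw [hD', hdL] at h1
  rw [hD, hdL] at h2
  rw [← hf, ← hf']
  refine add_natCast_cancel dL ?_
  rw [add_right_comm, ← h1, add_assoc, ← Nat.cast_add, hn', add_right_comm _ (t : WithBot ℕ∞), ← h2,
    add_assoc, ← Nat.cast_add, hn]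

end GrothLib.FibPd
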