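import Groth.Agent.Lib.FibPd.GeomRkScheme
import Groth.Agent.Lib.FibPd.GeomSk
import Groth.Agent.Lib.FibPd.SkScheme
import Groth.Agent.Lib.NormalSerre.Serre
import Groth.Agent.Lib.SnFibres.Basic

/-!
# Geometric normality of fibres
-/

set_option autoImplicit false
set_option backward.isDefEq.respectTransparency false
set_option linter.style.haveILetI false
universe u

open CategoryTheory Limits AlgebraicGeometry

namespace GrothLib.FibPd

/-- A Noetherian local ring is a normal domain exactly when it satisfies `(R_1)` and `(S_2)`. -/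
theorem normal_local_iff (R : Type u) [CommRing R] [IsLocalRing R] [IsNoetherianRing R] :
    (IsDomain R ∧ IsIntegrallyClosed R) ↔ (LocCoh.HasRk 1 R ∧ LocCoh.HasSk 2 R R) := by
  rw [← GrothLib.NormalSerre.normal_iff]
  constructor
  · rintro ⟨h1, h2⟩ p _
    haveI := h1
    haveI := h2
    exact ⟨IsLocalization.isDomain_localization p.primeCompl_le_nonZeroDivisors,
      isIntegrallyClosed_of_isLocalization (Localization.AtPrime p) p.primeCompl p.primeCompl_le_nonZeroDivisors⟩
  · intro h
    obtain ⟨_, _⟩ := h (IsLocalRing.maximalIdeal R)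
    let e := (IsLocalization.atUnits R (IsLocalRing.maximalIdeal R).primeCompl
      (S := Localization.AtPrime (IsLocalRing.maximalIdeal R)) fun x hx => by
        rw [IsUnit.mem_submonoid_iff]; simpa using hx).toRingEquiv
    exact ⟨e.toMulEquiv.isDomain, IsIntegrallyClosed.of_equiv e.symm⟩

variable {k : Type u} [Field k] {W : Scheme.{u}} (q : W ⟶ Spec (CommRingCat.of k)) [LocallyOfFinitePresentation q]

/-- Geometric normality at a point of a scheme over a field. -/
theorem geom_normal_iff (z₀ : W) :
    (∀ (K : Type u) [Field K] [Algebra k K] (x' : ↥(FBase.bc q K)), (FBase.bcπ q K).base x' = z₀ →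
      (IsDomain ((FBase.bc q K).presheaf.stalk x') ∧ IsIntegrallyClosed ((FBase.bc q K).presheaf.stalk x'))) ↔
    (∀ z, z ⤳ z₀ → ringKrullDim (W.presheaf.stalk z) ≤ (1 : ℕ) → z ∈ q.smoothLocus) ∧
      LocCoh.HasSk 2 (W.presheaf.stalk z₀) (W.presheaf.stalk z₀) := by
  rw [← geom_hasRk_iff q z₀ 1]
  haveI : IsLocallyNoetherian W := LocallyOfFiniteType.isLocallyNoetherian q
  have hbc : ∀ (K : Type u) [Field K] [Algebra k K], IsLocallyNoetherian (FBase.bc q K) := fun K _ _ =>
    haveI : LocallyOfFiniteType (pullback.snd q (Spec.map (CommRingCat.ofHom (algebraMap k K)))) :=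
      MorphismProperty.pullback_snd q _ inferInstance
    LocallyOfFiniteType.isLocallyNoetherian (pullback.snd q (Spec.map (CommRingCat.ofHom (algebraMap k K))))
  constructor
  · intro h
    refine ⟨fun K _ _ x' hx' => ?_, ?_⟩
    · haveI := hbc K
      exact ((normal_local_iff _).1 (h K x' hx')).1
    · let g := Spec.map (CommRingCat.ofHom (algebraMap k k))
      have hg : g = 𝟙 _ := by
        show Spec.map (CommRingCat.ofHom (RingHom.id k)) = _
        rw [CommRingCat.ofHom_id, Spec.map_id]
      haveI : IsIso g := by rw [hg]; infer_instance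
      haveI : IsIso (FBase.bcπ q k) := inferInstanceAs (IsIso (pullback.fst q g))
      let x' := (inv (FBase.bcπ q k)) z₀
      have hx' : (FBase.bcπ q k) x' = z₀ := by
        rw [← Scheme.Hom.comp_apply, IsIso.inv_hom_id]
        rfl
      haveI := hbc k
      have hS := ((normal_local_iff _).1 (h k x' hx')).2
      clear_value x'
      subst hx'
      exact GrothLib.SnFibres.hasSk_congr (asIso ((FBase.bcπ q k).stalkMap x')).symm.commRingCatIsoToRingEquiv hS
  · rintro ⟨hR, hS⟩ K _ _ x' hx'
    haveI := hbc K
    refine (normal_local_iff _).2 ⟨hR K x' hx', ?_⟩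
    subst hx'
    exact hasSk_stalk_bc q K 2 x' hS

variable {X S : Scheme.{u}} (f : X ⟶ S)

theorem isLocallyConstructible_geom_normal [LocallyOfFinitePresentation f] :
    Topology.IsLocallyConstructible {x : X |
      ∀ (K : Type u) [Field K] [Algebra (IsLocalRing.ResidueField (S.presheaf.stalk (f.base x))) K]
        (x' : ↥(FBase.bc (f.fiberToSpecResidueField (f.base x)) K)),
        (FBase.bcπ (f.fiberToSpecResidueField (f.base x)) K).base x' = f.asFiber x →
          (IsDomain ((FBase.bc (f.fiberToSpecResidueField (f.base x)) K).presheaf.stalk x') ∧ IsIntegrallyClosed ((FBase.bc (f.fiberToSpecResidueField (f.base x)) K).presheaf.stalk x'))} := by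
  refine (congrArg Topology.IsLocallyConstructible (Set.ext fun x => ?_)).mpr
    ((isLocallyConstructible_smoothCodimLE f 1).inter (isLocallyConstructible_hasSk f 2))
  exact (geom_normal_iff (k := IsLocalRing.ResidueField (S.presheaf.stalk (f x)))
    (f.fiberToSpecResidueField (f x)) (f.asFiber x)).trans
    (and_congr (smoothCodimLE_iff f 1 x).symm Iff.rfl)

end GrothLib.FibPd
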