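import Groth.Agent.Lib.LocProp.Stalk
import Groth.Agent.Lib.LocProp.BaseChangeDescent
import Groth.Agent.Lib.AlgMisc.GeomRegAt
import Groth.Agent.Lib.AlgSp.PointProps
import Groth.Agent.Lib.AlgSp.FieldBase
import Groth.Agent.Lib.Birat.Basic
import Groth.Agent.Lib.Japanese.IntegralSpec
import Groth.Agent.S1561
import Groth.Prelude.Def_FDesc
import Groth.Prelude.Def_CAlg

/-!
# Geometric condition `(R_k)` at a point of a scheme over a field
-/

set_option autoImplicit false
set_option backward.isDefEq.respectTransparency false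
set_option linter.style.haveILetI false
universe u

open CategoryTheory Limits AlgebraicGeometry IsLocalRing

namespace GrothLib.FibPd

theorem isRegularLocalRing_fromSpecStalk_iff {X : Scheme.{u}} (x : X) (P : Spec (X.presheaf.stalk x)) :
    IsRegularLocalRing (X.presheaf.stalk (X.fromSpecStalk x P)) ↔
      IsRegularLocalRing (Localization.AtPrime P.asIdeal) := by
  haveI := GrothLib.FFDesc.flat_fromSpecStalk' X x
  let ι := X.fromSpecStalk x
  have hbij : Function.Bijective (ι.stalkMap P).hom := by
    refine ⟨?_, ι.stalkMap_surjective P⟩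
    algebraize [(ι.stalkMap P).hom]
    haveI : Module.Flat _ _ := Flat.stalkMap ι P
    haveI : IsLocalHom (algebraMap (X.presheaf.stalk (ι P)) ((Spec (X.presheaf.stalk x)).presheaf.stalk P)) :=
      inferInstanceAs (IsLocalHom (ι.stalkMap P).hom)
    haveI := Module.FaithfullyFlat.of_flat_of_isLocalHom
      (A := X.presheaf.stalk (ι P)) (B := (Spec (X.presheaf.stalk x)).presheaf.stalk P)
    exact FaithfulSMul.algebraMap_injective (X.presheaf.stalk (ι P)) ((Spec (X.presheaf.stalk x)).presheaf.stalk P)
  letI : Algebra (X.presheaf.stalk x) ((Spec (X.presheaf.stalk x)).presheaf.stalk P) :=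
    StructureSheaf.stalkAlgebra (R := X.presheaf.stalk x) P
  haveI : IsLocalization P.asIdeal.primeCompl ((Spec (X.presheaf.stalk x)).presheaf.stalk P) :=
    StructureSheaf.IsLocalization.to_stalk (R := X.presheaf.stalk x) P
  let e := (RingEquiv.ofBijective _ hbij).trans
    (IsLocalization.algEquiv P.asIdeal.primeCompl ((Spec (X.presheaf.stalk x)).presheaf.stalk P)
      (Localization.AtPrime P.asIdeal)).toRingEquiv
  exact ⟨fun _ => IsRegularLocalRing.of_ringEquiv (R := X.presheaf.stalk (ι P)) e,
    fun _ => IsRegularLocalRing.of_ringEquiv (R := Localization.AtPrime P.asIdeal) e.symm⟩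

/-- `(R_k)` for a local ring of a scheme, on the generisations of the point. -/
theorem hasRk_stalk_iff {X : Scheme.{u}} (x : X) (k : ℕ) :
    LocCoh.HasRk k (X.presheaf.stalk x) ↔
      ∀ y, y ⤳ x → ringKrullDim (X.presheaf.stalk y) ≤ k → IsRegularLocalRing (X.presheaf.stalk y) := by
  constructor
  · intro h y hy hk
    obtain ⟨P, rfl⟩ : y ∈ Set.range (X.fromSpecStalk x) := by
      rw [Scheme.range_fromSpecStalk]; exact hy
    rw [GrothLib.Birat.ringKrullDim_stalk_fromSpecStalk] at hk
    exact (isRegularLocalRing_fromSpecStalk_iff x P).2 (h _ (by exact_mod_cast hk))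
  · intro h p _ hp
    let P : Spec (X.presheaf.stalk x) := ⟨p, inferInstance⟩
    refine (isRegularLocalRing_fromSpecStalk_iff x P).1 (h _ ?_ ?_)
    · have : X.fromSpecStalk x P ∈ Set.range (X.fromSpecStalk x) := ⟨P, rfl⟩
      rwa [Scheme.range_fromSpecStalk] at this
    · rw [GrothLib.Birat.ringKrullDim_stalk_fromSpecStalk]
      exact_mod_cast hp

theorem ringKrullDim_stalk_le_of_isIntegralHom {X Y : Scheme.{u}} (f : X ⟶ Y) [IsIntegralHom f] (x : X) :
    ringKrullDim (X.presheaf.stalk x) ≤ ringKrullDim (Y.presheaf.stalk (f x)) := by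
  rw [ringKrullDim_stalk_eq_coheight, ringKrullDim_stalk_eq_coheight]
  refine WithBot.coe_le_coe.2 (Order.coheight_le_coheight_apply_of_strictMono f (fun a b hab => ?_) x)
  refine lt_of_le_not_ge (Specializes.map hab.le f.continuous) fun h => hab.not_ge ?_
  rw [GrothLib.Japanese.eq_of_specializes_of_isIntegralHom f hab.le
    ((Specializes.map hab.le f.continuous).antisymm h).eq]

variable {k : Type u} [Field k] {W : Scheme.{u}} (q : W ⟶ Spec (CommRingCat.of k)) [LocallyOfFinitePresentation q]

/-- Geometric `(R_m)` at a point is smoothness at its generisations of codimension at most `m`. -/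
theorem geom_hasRk_iff (z₀ : W) (m : ℕ) :
    (∀ (K : Type u) [Field K] [Algebra k K] (x' : ↥(FBase.bc q K)),
      (FBase.bcπ q K).base x' = z₀ → LocCoh.HasRk m ((FBase.bc q K).presheaf.stalk x')) ↔
    ∀ z, z ⤳ z₀ → ringKrullDim (W.presheaf.stalk z) ≤ m → z ∈ q.smoothLocus := by
  constructor
  · intro h z hz hk
    let K := AlgebraicClosure k
    let g := Spec.map (CommRingCat.ofHom (algebraMap k K))
    haveI : IsIntegralHom g := IsIntegralHom.SpecMap_iff.mpr (fun x => Algebra.IsIntegral.isIntegral (R := k) x)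
    haveI : Surjective g := ⟨fun y => ⟨(default : PrimeSpectrum K), Subsingleton.elim (α := PrimeSpectrum k) _ _⟩⟩
    let π := pullback.fst q g
    haveI : IsIntegralHom π := inferInstance
    obtain ⟨y', rfl⟩ := π.surjective z
    obtain ⟨x', hx', rfl⟩ := π.isClosedMap.specializingMap hz
    have hreg : IsRegularLocalRing ((pullback q g).presheaf.stalk y') :=
      (hasRk_stalk_iff x' m).1 (h K x' rfl) y' hx' ((ringKrullDim_stalk_le_of_isIntegralHom π y').trans hk)
    have hsm : y' ∈ (pullback.snd q g).smoothLocus := Groth.Agent.S1561.mem_of_regular _ y' hreg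
    haveI : Flat g := GrothLib.AlgSp.flat_to_field (k := k) _
    exact (GrothLib.LocProp.smooth_nhd_iff q _).mp
      (GrothLib.LocProp.smooth_nhd_of_baseChange q g y' (Flat.stalkMap g _)
        ((GrothLib.LocProp.smooth_nhd_iff _ y').mpr hsm))
  · intro h K _ _ x' hx'
    let g := Spec.map (CommRingCat.ofHom (algebraMap k K))
    haveI : Flat g := GrothLib.AlgSp.flat_to_field (k := k) _
    refine (hasRk_stalk_iff x' m).2 fun y' hy' hk => ?_
    have hz : pullback.fst q g y' ⤳ z₀ := hx' ▸ hy'.map (pullback.fst q g).continuous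
    have hsm := (GrothLib.LocProp.smooth_nhd_iff q _).mpr
      (h _ hz ((GrothLib.AlgSp.ringKrullDim_stalk_map_le_of_flat (pullback.fst q g) y').trans hk))
    exact Groth.Agent.Lib.AlgMisc.GeomRegAt.isRegularLocalRing_stalk_of_mem_smoothLocus (pullback.snd q g)
      ((GrothLib.LocProp.smooth_nhd_iff _ _).mp
        (GrothLib.LocProp.nhd_of_isPullback (IsPullback.of_hasPullback q g) y' hsm))

end GrothLib.FibPd
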