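import Groth.Agent.Lib.FibPd.SkTransfer

/-!
# Primes of a fibre stalk and generisations in affine space
-/

set_option autoImplicit false
set_option linter.style.haveILetI false
universe u

open TensorProduct Function IsLocalRing

namespace GrothLib.FibPd

variable {A : Type u} [CommRing A] {n : ℕ}

/-- The depth of the fibre stalk of `M` at `Q`. -/
noncomputable def fibDepth (M : Type u) [AddCommGroup M] [Module (Pol A n) M] (Q : PrimeSpectrum (Pol A n)) : ℕ∞ :=
  LocCoh.depth (EGA4.FibLocRing A (Pol A n) Q.asIdeal) (EGA4.FibLocRing A (Pol A n) Q.asIdeal ⊗[Pol A n] M)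

/-- The support dimension of the fibre stalk of `M` at `Q`. -/
noncomputable def fibSdim (M : Type u) [AddCommGroup M] [Module (Pol A n) M] (Q : PrimeSpectrum (Pol A n)) : WithBot ℕ∞ :=
  Module.supportDim (EGA4.FibLocRing A (Pol A n) Q.asIdeal) (EGA4.FibLocRing A (Pol A n) Q.asIdeal ⊗[Pol A n] M)

/-- The localisation of a fibre stalk at a prime is the fibre stalk at the generisation. -/
theorem prime_data  {B T : Type u} [CommRing B] [CommRing T] [Algebra (Pol A n) B] [Algebra A B]
    [IsScalarTower A (Pol A n) B] (hπ : Surjective (algebraMap (Pol A n) B))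
    (q : Ideal B) [q.IsPrime] [IsLocalRing T] [IsNoetherianRing T] [Algebra B T]
    (hunit : ∀ u, u ∉ q → IsUnit (algebraMap B T u))
    (hsurj : ∀ t : T, ∃ b u : B, u ∉ q ∧ t * algebraMap B T u = algebraMap B T b)
    (hker : ∀ b : B, algebraMap B T b = 0 ↔ ∃ u, u ∉ q ∧ u * b ∈ (q.comap (algebraMap A B)).map (algebraMap A B))
    (M : Type u) [AddCommGroup M] [Module B M] [Module (Pol A n) M] [IsScalarTower (Pol A n) B M]
    [Module.Finite (Pol A n) M]
    (N : Type u) [AddCommGroup N] [Module T N] [Module B N] [IsScalarTower B T N]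
    (g : M →ₗ[B] N) (hg : IsBaseChange T g) (P : Ideal T) [P.IsPrime] :
    P.comap (algebraMap B T) ≤ q ∧
      (P.comap (algebraMap B T)).comap (algebraMap A B) = q.comap (algebraMap A B) ∧
      LocCoh.depth (Localization.AtPrime P) (LocalizedModule P.primeCompl N) =
        fibDepth M ⟨(P.comap (algebraMap B T)).comap (algebraMap (Pol A n) B), inferInstance⟩ ∧
      Module.supportDim (Localization.AtPrime P) (LocalizedModule P.primeCompl N) =
        fibSdim M ⟨(P.comap (algebraMap B T)).comap (algebraMap (Pol A n) B), inferInstance⟩ := by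
  let q' := P.comap (algebraMap B T)
  have hle : q' ≤ q := fun b hb => by
    by_contra hbq
    exact Ideal.IsPrime.ne_top' (I := P) (Ideal.eq_top_of_isUnit_mem P hb (hunit b hbq))
  have hp : q'.comap (algebraMap A B) = q.comap (algebraMap A B) := by
    refine le_antisymm (Ideal.comap_mono hle) fun a ha => ?_
    show algebraMap B T (algebraMap A B a) ∈ P
    rw [(hker _).2 ⟨1, Ideal.IsPrime.one_notMem ‹_›, by rw [one_mul]; exact Ideal.mem_map_of_mem _ ha⟩]
    exact P.zero_mem
  refine ⟨hle, hp, ?_⟩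
  let TP := Localization.AtPrime P
  haveI : IsScalarTower B T TP := inferInstance
  have hu' : ∀ u, u ∉ q' → IsUnit (algebraMap B TP u) := fun u hu => by
    rw [IsScalarTower.algebraMap_apply B T TP]
    exact IsLocalization.map_units TP (⟨algebraMap B T u, hu⟩ : P.primeCompl)
  have hs' : ∀ t : TP, ∃ b u : B, u ∉ q' ∧ t * algebraMap B TP u = algebraMap B TP b := by
    intro t
    obtain ⟨t₁, s, rfl⟩ := IsLocalization.exists_mk'_eq P.primeCompl t
    obtain ⟨b₁, u₁, hu₁, h₁⟩ := hsurj t₁
    obtain ⟨b₂, u₂, hu₂, h₂⟩ := hsurj (s : T)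
    have hb₂ : b₂ ∉ q' := by
      intro hb
      have : (s : T) * algebraMap B T u₂ ∈ P := by rw [h₂]; exact hb
      rcases Ideal.IsPrime.mem_or_mem ‹_› this with h | h
      · exact s.2 h
      · exact hu₂ (hle h)
    refine ⟨b₁ * u₂, u₁ * b₂, fun h => ?_, ?_⟩
    · rcases Ideal.IsPrime.mem_or_mem (I := q') inferInstance h with h | h
      · exact hu₁ (hle h)
      · exact hb₂ h
    · rw [IsScalarTower.algebraMap_apply B T TP, IsScalarTower.algebraMap_apply B T TP]
      simp only [map_mul]
      rw [← h₁, ← h₂]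
      simp only [map_mul]
      rw [← IsLocalization.mk'_spec TP t₁ s]
      ring
  have hk' : ∀ b : B, algebraMap B TP b = 0 ↔
      ∃ u, u ∉ q' ∧ u * b ∈ (q'.comap (algebraMap A B)).map (algebraMap A B) := by
    intro b
    rw [hp, IsScalarTower.algebraMap_apply B T TP, IsLocalization.map_eq_zero_iff P.primeCompl]
    constructor
    · rintro ⟨s, hs⟩
      obtain ⟨b₂, u₂, hu₂, h₂⟩ := hsurj (s : T)
      have h0 : algebraMap B T (b₂ * b) = 0 := by rw [map_mul, ← h₂, mul_assoc, mul_left_comm, hs, mul_zero]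
      obtain ⟨u, hu, hmem⟩ := (hker _).1 h0
      have hb₂ : b₂ ∉ q' := by
        intro hb
        have : (s : T) * algebraMap B T u₂ ∈ P := by rw [h₂]; exact hb
        rcases Ideal.IsPrime.mem_or_mem ‹_› this with h | h
        · exact s.2 h
        · exact hu₂ (hle h)
      refine ⟨u * b₂, fun h => ?_, by rwa [mul_assoc]⟩
      rcases Ideal.IsPrime.mem_or_mem (I := q') inferInstance h with h | h
      · exact hu (hle h)
      · exact hb₂ h
    · rintro ⟨u, hu, hmem⟩
      refine ⟨⟨algebraMap B T u, hu⟩, ?_⟩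
      show algebraMap B T u * algebraMap B T b = 0
      rw [← map_mul]
      exact (hker _).2 ⟨1, Ideal.IsPrime.one_notMem ‹_›, by rwa [one_mul]⟩
  haveI : IsNoetherianRing TP := IsLocalization.isNoetherianRing P.primeCompl _ inferInstance
  let mkN : N →ₗ[T] LocalizedModule P.primeCompl N := LocalizedModule.mkLinearMap P.primeCompl N
  have hmk : IsBaseChange TP mkN := (isLocalizedModule_iff_isBaseChange P.primeCompl TP mkN).mp inferInstance
  haveI : IsScalarTower B TP (LocalizedModule P.primeCompl N) := IsScalarTower.of_algebraMap_smul fun b x => by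
    rw [IsScalarTower.algebraMap_apply B T TP, algebraMap_smul, algebraMap_smul]
  haveI : IsLocalRing (EGA4.FibLocRing A (Pol A n) (q'.comap (algebraMap (Pol A n) B))) :=
    GrothLib.FlatOff.isLocalRing_fibLocRing _
  haveI : IsNoetherianRing (EGA4.FibLocRing A (Pol A n) (q'.comap (algebraMap (Pol A n) B))) := by
    haveI : IsRegularLocalRing (EGA4.FibLocRing A (Pol A n) (q'.comap (algebraMap (Pol A n) B))) :=
      isRegularLocalRing_fibLocRing_pol (⟨q'.comap (algebraMap (Pol A n) B), inferInstance⟩ : PrimeSpectrum (Pol A n))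
    infer_instance
  obtain ⟨e1, e2, -⟩ := fibStalk_transfer hπ q' hu' hs' hk' M (LocalizedModule P.primeCompl N)
    (mkN.restrictScalars B ∘ₗ g) (hg.comp hmk)
  exact ⟨e1, e2⟩

/-- Every generisation in the fibre inside the closed subscheme is a prime of the stalk. -/
theorem exists_prime {B T : Type u} [CommRing B] [CommRing T] [Algebra (Pol A n) B] [Algebra A B]
    [IsScalarTower A (Pol A n) B] (hπ : Surjective (algebraMap (Pol A n) B))
    (q : Ideal B) [q.IsPrime] [Algebra B T]
    (hsurj : ∀ t : T, ∃ b u : B, u ∉ q ∧ t * algebraMap B T u = algebraMap B T b)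
    (hker : ∀ b : B, algebraMap B T b = 0 ↔ ∃ u, u ∉ q ∧ u * b ∈ (q.comap (algebraMap A B)).map (algebraMap A B))
    (y : PrimeSpectrum (Pol A n)) (hann : RingHom.ker (algebraMap (Pol A n) B) ≤ y.asIdeal)
    (hy : y.asIdeal ≤ q.comap (algebraMap (Pol A n) B))
    (hyp : y.asIdeal.comap (algebraMap A (Pol A n)) =
      (q.comap (algebraMap (Pol A n) B)).comap (algebraMap A (Pol A n))) :
    ∃ P : PrimeSpectrum T, (P.asIdeal.comap (algebraMap B T)).comap (algebraMap (Pol A n) B) = y.asIdeal := by
  have hbase : ∀ (I : Ideal B), (I.comap (algebraMap (Pol A n) B)).comap (algebraMap A (Pol A n)) =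
      I.comap (algebraMap A B) := fun I => by rw [Ideal.comap_comap, ← IsScalarTower.algebraMap_eq]
  let q' : Ideal B := y.asIdeal.map (algebraMap (Pol A n) B)
  have hq'prime : q'.IsPrime := Ideal.map_isPrime_of_surjective hπ hann
  have hq' : q'.comap (algebraMap (Pol A n) B) = y.asIdeal := by
    rw [Ideal.comap_map_of_surjective _ hπ, ← RingHom.ker_eq_comap_bot, sup_eq_left.2 hann]
  have hle : q' ≤ q := Ideal.map_le_iff_le_comap.2 hy
  have hp : q'.comap (algebraMap A B) = q.comap (algebraMap A B) := by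
    rw [← hbase q', ← hbase q, hq', hyp]
  obtain ⟨P, hP⟩ : (⟨q', hq'prime⟩ : PrimeSpectrum B) ∈ Set.range (PrimeSpectrum.comap (algebraMap B T)) := by
    rw [PrimeSpectrum.mem_range_comap_iff]
    refine le_antisymm (fun x hx => ?_) Ideal.le_comap_map
    have key : ∀ t ∈ q'.map (algebraMap B T), ∃ b ∈ q', ∃ u ∉ q, t * algebraMap B T u = algebraMap B T b := by
      intro t ht
      induction ht using Submodule.span_induction with
      | mem t ht =>
        obtain ⟨b, hb, rfl⟩ := ht
        exact ⟨b, hb, 1, Ideal.IsPrime.one_notMem ‹_›, by rw [map_one, mul_one]⟩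
      | zero => exact ⟨0, q'.zero_mem, 1, Ideal.IsPrime.one_notMem ‹_›, by rw [map_zero, zero_mul]⟩
      | add s t _ _ h₁ h₂ =>
        obtain ⟨b₁, hb₁, u₁, hu₁, e₁⟩ := h₁
        obtain ⟨b₂, hb₂, u₂, hu₂, e₂⟩ := h₂
        refine ⟨b₁ * u₂ + b₂ * u₁, q'.add_mem (q'.mul_mem_right _ hb₁) (q'.mul_mem_right _ hb₂), u₁ * u₂,
          fun h => (Ideal.IsPrime.mem_or_mem ‹_› h).elim hu₁ hu₂, ?_⟩
        rw [map_add, map_mul, map_mul, map_mul, ← e₁, ← e₂]
        ring
      | smul c t _ h₁ =>
        obtain ⟨b₁, hb₁, u₁, hu₁, e₁⟩ := h₁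
        obtain ⟨c', u', hu', e'⟩ := hsurj c
        refine ⟨c' * b₁, q'.mul_mem_left _ hb₁, u' * u₁,
          fun h => (Ideal.IsPrime.mem_or_mem ‹_› h).elim hu' hu₁, ?_⟩
        rw [map_mul, map_mul, ← e', ← e₁, smul_eq_mul]
        ring
    obtain ⟨b, hb, u, hu, e⟩ := key _ hx
    have h0 : algebraMap B T (x * u - b) = 0 := by rw [map_sub, map_mul, e, sub_self]
    obtain ⟨w, hw, hmem⟩ := (hker _).1 h0
    rw [← hp] at hmem
    have h1 : w * (x * u - b) ∈ q' := Ideal.map_comap_le hmem
    have h2 : x * u ∈ q' := by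
      have := hq'prime.mem_or_mem h1
      rcases this with h | h
      · exact absurd (hle h) hw
      · simpa using q'.add_mem h hb
    rcases hq'prime.mem_or_mem h2 with h | h
    · exact h
    · exact absurd (hle h) hu
  refine ⟨P, ?_⟩
  rw [show P.asIdeal.comap (algebraMap B T) = q' from congrArg PrimeSpectrum.asIdeal hP, hq']

end GrothLib.FibPd
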