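import Groth.Prelude.Def_CohB1
import Groth.Prelude.Def_Coh
import Groth.Agent.Lib.FibPd.Depth
import Groth.Agent.Lib.DCxRing.Regular
import Groth.Agent.Lib.QuasiFlat.Basic
import Groth.Agent.Lib.QCoh.SupportExact
import Groth.Agent.Lib.FlatFP.Sheaf
import Groth.Agent.Lib.CMFree.FiniteFlat
import Groth.Agent.Lib.Dim.Scheme

/-!
# Rectified depth on regular biequidimensional schemes
-/

set_option autoImplicit false
set_option linter.style.haveILetI false
universe u

open TensorProduct CategoryTheory AlgebraicGeometry Topology TopologicalSpace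

namespace GrothLib.FibPd

variable {X : Scheme.{u}} (F : X.Modules)

/-- Projective dimension of a stalk, read on an affine open. -/
theorem pdLE_stalk_iff [IsNoetherian X] [F.IsQuasicoherent] {W : X.Opens} (hW : IsAffineOpen W) {x : X}
    (hx : x ∈ W) [Module.Finite Γ(X, W) Γ(F, W)] (e : ℕ) :
    GrothLib.Serre.PdLE (X.presheaf.stalk x) (F.presheaf.stalk x) e ↔
      GrothLib.Serre.PdLE (Localization.AtPrime (WeakAss.primeAt x hx))
        (Localization.AtPrime (WeakAss.primeAt x hx) ⊗[Γ(X, W)] Γ(F, W)) e := by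
  haveI : IsNoetherianRing Γ(X, W) := IsLocallyNoetherian.component_noetherian ⟨W, hW⟩
  let S := (WeakAss.primeAt x hx).primeCompl
  letI := X.presheaf.algebra_section_stalk ⟨x, hx⟩
  letI : Module Γ(X, W) (F.presheaf.stalk x) := Module.compHom _ (X.presheaf.germ W x hx).hom
  haveI : IsScalarTower Γ(X, W) (X.presheaf.stalk x) (F.presheaf.stalk x) :=
    IsScalarTower.of_algebraMap_smul fun _ _ => rfl
  haveI := GrothLib.FlatFP.isLocalization_stalk_primeAt hW hx
  haveI : IsNoetherianRing (Localization.AtPrime (WeakAss.primeAt x hx)) := IsLocalization.isNoetherianRing S _ inferInstance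
  obtain ⟨g, hg, -⟩ := GrothLib.FlatFP.isLocalizedModule_germ F hW hx
  let σ : Localization.AtPrime (WeakAss.primeAt x hx) ≃ₐ[Γ(X, W)] X.presheaf.stalk x :=
    IsLocalization.algEquiv S _ _
  letI : Algebra (Localization.AtPrime (WeakAss.primeAt x hx)) (X.presheaf.stalk x) := σ.toAlgHom.toRingHom.toAlgebra
  haveI : IsScalarTower Γ(X, W) (Localization.AtPrime (WeakAss.primeAt x hx)) (X.presheaf.stalk x) :=
    IsScalarTower.of_algebraMap_eq fun a => (σ.commutes a).symm
  haveI : Module.FaithfullyFlat (Localization.AtPrime (WeakAss.primeAt x hx)) (X.presheaf.stalk x) :=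
    Module.FaithfullyFlat.of_linearEquiv _ _
      (LinearEquiv.ofBijective (Algebra.linearMap (Localization.AtPrime (WeakAss.primeAt x hx)) (X.presheaf.stalk x))
        σ.bijective).symm
  rw [← GrothLib.Serre.pdLE_congr (IsLocalizedModule.isBaseChange S (X.presheaf.stalk x) g).equiv]
  exact pdLE_tensor_iff Γ(X, W) (Localization.AtPrime (WeakAss.primeAt x hx)) (X.presheaf.stalk x) Γ(F, W) e

/-- Bounds on projective dimensions of stalks are open. -/
theorem isOpen_pdLE_stalk [IsNoetherian X] (hF : Coh.IsCoh F) (e : ℕ) :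
    IsOpen {x : X | GrothLib.Serre.PdLE (X.presheaf.stalk x) (F.presheaf.stalk x) e} := by
  haveI := hF.1
  refine isOpen_iff_forall_mem_open.mpr fun x₀ hx₀ => ?_
  obtain ⟨_, ⟨W, hW, rfl⟩, hxW, -⟩ :=
    X.isBasis_affineOpens.exists_subset_of_mem_open (Set.mem_univ x₀) isOpen_univ
  replace hW : IsAffineOpen W := hW
  haveI : IsNoetherianRing Γ(X, W) := IsLocallyNoetherian.component_noetherian ⟨W, hW⟩
  haveI := GrothLib.QCoh.moduleFinite_of_isFiniteType F hF.2 hW
  have key : ∀ x (hx : x ∈ W), hW.primeIdealOf ⟨x, hx⟩ ∈ {p : PrimeSpectrum Γ(X, W) | GrothLib.Serre.PdLE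
      (Localization.AtPrime p.asIdeal) (Localization.AtPrime p.asIdeal ⊗[Γ(X, W)] Γ(F, W)) e} ↔
      GrothLib.Serre.PdLE (X.presheaf.stalk x) (F.presheaf.stalk x) e := by
    intro x hx
    rw [← GrothLib.QCoh.primeAt_eq_primeIdealOf hW hx]
    exact (pdLE_stalk_iff F hW hx e).symm
  refine ⟨hW.fromSpec '' {p : PrimeSpectrum Γ(X, W) | GrothLib.Serre.PdLE
      (Localization.AtPrime p.asIdeal) (Localization.AtPrime p.asIdeal ⊗[Γ(X, W)] Γ(F, W)) e}, ?_,
    hW.fromSpec.isOpenEmbedding.isOpenMap _ (GrothLib.DR.isOpen_pdLE_locus e Γ(F, W)),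
    ⟨_, (key x₀ hxW).2 hx₀, hW.fromSpec_primeIdealOf ⟨x₀, hxW⟩⟩⟩
  rintro _ ⟨p, hp, rfl⟩
  have hpW : hW.fromSpec p ∈ W := by
    have h := Set.mem_range_self (f := hW.fromSpec) p
    rwa [hW.range_fromSpec] at h
  refine (key _ hpW).1 ?_
  rwa [hW.fromSpec.isOpenEmbedding.injective (hW.fromSpec_primeIdealOf ⟨_, hpW⟩)]

/-- The dimension of the set of generizations of a point in an irreducible component is that of the local ring. -/
theorem exists_component_dim (x : X) [IsDomain (X.presheaf.stalk x)] :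
    ∃ T ∈ irreducibleComponents (X : Type u), x ∈ T ∧
      topologicalKrullDim ↥{t : X | t ∈ T ∧ t ⤳ x} = ringKrullDim (X.presheaf.stalk x) := by
  let η : X := X.fromSpecStalk x (⟨⊥, Ideal.isPrime_bot⟩ : PrimeSpectrum (X.presheaf.stalk x))
  refine ⟨irreducibleComponent η, irreducibleComponent_mem_irreducibleComponents η, ?_, ?_⟩
  · have h : η ⤳ x := (Scheme.range_fromSpecStalk (X := X) (x := x)).subset (Set.mem_range_self _)
    exact h.mem_closed isClosed_irreducibleComponent mem_irreducibleComponent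
  · have hr : Set.range (X.fromSpecStalk x) = {t : X | t ∈ irreducibleComponent η ∧ t ⤳ x} := by
      refine Set.Subset.antisymm ?_ fun t ht => Scheme.range_fromSpecStalk.symm.subset ht.2
      rintro _ ⟨p, rfl⟩
      refine ⟨?_, Scheme.range_fromSpecStalk.subset (Set.mem_range_self p)⟩
      have h : η ⤳ X.fromSpecStalk x p :=
        ((PrimeSpectrum.le_iff_specializes _ p).1 bot_le).map (X.fromSpecStalk x).continuous
      exact h.mem_closed isClosed_irreducibleComponent mem_irreducibleComponent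
    rw [← GrothLib.Dim.IsEmbedding.topologicalKrullDim_eq (X.fromSpecStalk x).isEmbedding hr]
    exact PrimeSpectrum.topologicalKrullDim_eq_ringKrullDim _

/-- Depth, dimension of the closure and projective dimension at a point of the support. -/
theorem exists_depth_dim_pd [IsNoetherian X] (hreg : ∀ x : X, IsRegularLocalRing ↑(X.presheaf.stalk x))
    (hcomp : ∀ C ∈ irreducibleComponents (X : Type u), topologicalKrullDim ↥C = topologicalKrullDim X)
    (hchain : ∀ (y : X) (T : Set X), IsClosed T → IsIrreducible T → y ∈ T →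
      topologicalKrullDim ↥T = topologicalKrullDim ↥(closure ({y} : Set X)) + topologicalKrullDim ↥{t : X | t ∈ T ∧ t ⤳ y})
    (hF : Coh.IsCoh F) (x : X) (hx : x ∈ CohB1.support F) :
    ∃ d e : ℕ, LocCoh.depth ↑(X.presheaf.stalk x) ↑(F.presheaf.stalk x) = d ∧
      projectiveDimension (ModuleCat.of ↑(X.presheaf.stalk x) ↑(F.presheaf.stalk x)) = e ∧
      (∀ e', GrothLib.Serre.PdLE (X.presheaf.stalk x) (F.presheaf.stalk x) e' ↔ e ≤ e') ∧
      topologicalKrullDim X = topologicalKrullDim ↥(closure ({x} : Set X)) + ((d + e : ℕ) : WithBot ℕ∞) := by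
  haveI := hreg x
  haveI := GrothLib.CMFree.isDomain_of_isRegularLocalRing (X.presheaf.stalk x)
  haveI := GrothLib.QuasiFlat.finite_stalk F hF x
  haveI : Nontrivial (F.presheaf.stalk x) := not_subsingleton_iff_nontrivial.1 hx
  obtain ⟨d, e, hdim, hd, he⟩ := exists_depth_pd (R := X.presheaf.stalk x) (F.presheaf.stalk x)
  refine ⟨d, e, hd, ?_, he, ?_⟩
  · refine le_antisymm ((projectiveDimension_le_iff _ e).2 ((he e).2 le_rfl)) ((projectiveDimension_ge_iff _ e).2 ?_)
    rcases e with _ | k
    · intro h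
      rw [hasProjectiveDimensionLT_zero_iff_isZero] at h
      exact not_subsingleton (F.presheaf.stalk x) (ModuleCat.subsingleton_of_isZero h)
    · intro h
      exact Nat.not_succ_le_self k ((he k).1 h)
  · obtain ⟨T, hT, hxT, hdT⟩ := exists_component_dim x
    rw [← hcomp T hT, hchain x T (isClosed_of_mem_irreducibleComponents T hT) hT.1 hxT, hdT, hdim]

end GrothLib.FibPd
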