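import Groth.Agent.Lib.FibPd.Transfer

/-!
# Serre's condition on a fibre stalk through a presentation
-/

set_option autoImplicit false
set_option linter.style.haveILetI false
universe u

open TensorProduct Function IsLocalRing

namespace GrothLib.FibPd

variable {A : Type u} [CommRing A] {n : ℕ}

/-- The fibre stalk of `M` at `Q` violates Serre's condition at its closed point. -/
def SkBad (M : Type u) [AddCommGroup M] [Module (Pol A n) M] (k : ℕ) (Q : PrimeSpectrum (Pol A n)) : Prop :=
  ¬ (min (k : WithBot ℕ∞)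
      (Module.supportDim (EGA4.FibLocRing A (Pol A n) Q.asIdeal) (EGA4.FibLocRing A (Pol A n) Q.asIdeal ⊗[Pol A n] M)) ≤
    ((LocCoh.depth (EGA4.FibLocRing A (Pol A n) Q.asIdeal)
      (EGA4.FibLocRing A (Pol A n) Q.asIdeal ⊗[Pol A n] M) : ℕ∞) : WithBot ℕ∞))

theorem mem_support_of_skBad {M : Type u} [AddCommGroup M] [Module (Pol A n) M] [Module.Finite (Pol A n) M] {k : ℕ}
    {Q : PrimeSpectrum (Pol A n)} (h : SkBad M k Q) : Q ∈ Module.support (Pol A n) M := by
  by_contra hQ
  haveI : Subsingleton (EGA4.FibLocRing A (Pol A n) Q.asIdeal ⊗[Pol A n] M) :=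
    not_nontrivial_iff_subsingleton.mp fun h => hQ ((nontrivial_fibStalk_iff Q M).mp h)
  refine h ?_
  rw [Module.supportDim_eq_bot_of_subsingleton]
  exact (min_le_right _ _).trans bot_le

/-- Serre's condition for the fibre stalk, read on the generisations in affine space. -/
theorem hasSk_iff {B T : Type u} [CommRing B] [CommRing T] [Algebra (Pol A n) B] [Algebra A B]
    [IsScalarTower A (Pol A n) B] (hπ : Surjective (algebraMap (Pol A n) B))
    (q : Ideal B) [q.IsPrime] [IsLocalRing T] [IsNoetherianRing T] [Algebra B T]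
    (hunit : ∀ u, u ∉ q → IsUnit (algebraMap B T u))
    (hsurj : ∀ t : T, ∃ b u : B, u ∉ q ∧ t * algebraMap B T u = algebraMap B T b)
    (hker : ∀ b : B, algebraMap B T b = 0 ↔ ∃ u, u ∉ q ∧ u * b ∈ (q.comap (algebraMap A B)).map (algebraMap A B))
    (M : Type u) [AddCommGroup M] [Module B M] [Module (Pol A n) M] [IsScalarTower (Pol A n) B M]
    [Module.Finite (Pol A n) M]
    (N : Type u) [AddCommGroup N] [Module T N] [Module B N] [IsScalarTower B T N]
    (g : M →ₗ[B] N) (hg : IsBaseChange T g) (k : ℕ) :
    LocCoh.HasSk k T N ↔ ∀ y : PrimeSpectrum (Pol A n), y.asIdeal ≤ q.comap (algebraMap (Pol A n) B) →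
      y.asIdeal.comap (algebraMap A (Pol A n)) =
        (q.comap (algebraMap (Pol A n) B)).comap (algebraMap A (Pol A n)) → ¬ SkBad M k y := by
  have hbase : ∀ (I : Ideal B), (I.comap (algebraMap (Pol A n) B)).comap (algebraMap A (Pol A n)) =
      I.comap (algebraMap A B) := fun I => by rw [Ideal.comap_comap, ← IsScalarTower.algebraMap_eq]
  -- what happens at a prime of the stalk
  have main : ∀ (P : Ideal T) [P.IsPrime],
      (∀ q' : Ideal B, q' = P.comap (algebraMap B T) → q' ≤ q ∧ q'.comap (algebraMap A B) = q.comap (algebraMap A B)) ∧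
      ((min (k : WithBot ℕ∞) (Module.supportDim (Localization.AtPrime P) (LocalizedModule P.primeCompl N)) ≤
        ((LocCoh.depth (Localization.AtPrime P) (LocalizedModule P.primeCompl N) : ℕ∞) : WithBot ℕ∞)) ↔
        ¬ SkBad M k ⟨(P.comap (algebraMap B T)).comap (algebraMap (Pol A n) B), inferInstance⟩) := by
    intro P _
    let q' := P.comap (algebraMap B T)
    have hle : q' ≤ q := fun b hb => by
      by_contra hbq
      exact Ideal.IsPrime.ne_top' (I := P) (Ideal.eq_top_of_isUnit_mem P hb (hunit b hbq))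
    have hp : q'.comap (algebraMap A B) = q.comap (algebraMap A B) := by
      refine le_antisymm (Ideal.comap_mono hle) fun a ha => ?_
      show algebraMap B T (algebraMap A B a) ∈ P
      rw [(hker _).2 ⟨1, Ideal.IsPrime.one_notMem ‹_›, by rw [one_mul]; exact Ideal.mem_map_of_mem _ ha⟩]
      exact P.zero_mem
    refine ⟨fun q'' h => h ▸ ⟨hle, hp⟩, ?_⟩
    let TP := Localization.AtPrime P
    haveI : IsScalarTower B T TP := inferInstance
    have hu' : ∀ u, u ∉ q' → IsUnit (algebraMap B TP u) := fun u hu => by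
      rw [IsScalarTower.algebraMap_apply B T TP]
      exact IsLocalization.map_units TP (⟨algebraMap B T u, hu⟩ : P.primeCompl)
    have hs' : ∀ t : TP, ∃ b u : B, u ∉ q' ∧ t * algebraMap B TP u = algebraMap B TP b := by
      intro t
      obtain ⟨t₁, s, rfl⟩ := IsLocalization.exists_mk'_eq P.primeCompl t
      obtain ⟨b₁, u₁, hu₁, h₁⟩ := hsurj t₁
      obtain ⟨b₂, u₂, hu₂, h₂⟩ := hsurj (s : T)
      have hb₂ : b₂ ∉ q' := by
        intro hb
        have : (s : T) * algebraMap B T u₂ ∈ P := by rw [h₂]; exact hb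
        rcases Ideal.IsPrime.mem_or_mem ‹_› this with h | h
        · exact s.2 h
        · exact hu₂ (hle h)
      refine ⟨b₁ * u₂, u₁ * b₂, fun h => ?_, ?_⟩
      · rcases Ideal.IsPrime.mem_or_mem (I := q') inferInstance h with h | h
        · exact hu₁ (hle h)
        · exact hb₂ h
      · rw [IsScalarTower.algebraMap_apply B T TP, IsScalarTower.algebraMap_apply B T TP]
        simp only [map_mul]
        rw [← h₁, ← h₂]
        simp only [map_mul]
        rw [← IsLocalization.mk'_spec TP t₁ s]
        ring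
    have hk' : ∀ b : B, algebraMap B TP b = 0 ↔
        ∃ u, u ∉ q' ∧ u * b ∈ (q'.comap (algebraMap A B)).map (algebraMap A B) := by
      intro b
      rw [hp, IsScalarTower.algebraMap_apply B T TP, IsLocalization.map_eq_zero_iff P.primeCompl]
      constructor
      · rintro ⟨s, hs⟩
        obtain ⟨b₂, u₂, hu₂, h₂⟩ := hsurj (s : T)
        have h0 : algebraMap B T (b₂ * b) = 0 := by rw [map_mul, ← h₂, mul_assoc, mul_left_comm, hs, mul_zero]
        obtain ⟨u, hu, hmem⟩ := (hker _).1 h0
        have hb₂ : b₂ ∉ q' := by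
          intro hb
          have : (s : T) * algebraMap B T u₂ ∈ P := by rw [h₂]; exact hb
          rcases Ideal.IsPrime.mem_or_mem ‹_› this with h | h
          · exact s.2 h
          · exact hu₂ (hle h)
        refine ⟨u * b₂, fun h => ?_, by rwa [mul_assoc]⟩
        rcases Ideal.IsPrime.mem_or_mem (I := q') inferInstance h with h | h
        · exact hu (hle h)
        · exact hb₂ h
      · rintro ⟨u, hu, hmem⟩
        refine ⟨⟨algebraMap B T u, hu⟩, ?_⟩
        show algebraMap B T u * algebraMap B T b = 0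
        rw [← map_mul]
        exact (hker _).2 ⟨1, Ideal.IsPrime.one_notMem ‹_›, by rwa [one_mul]⟩
    haveI : IsNoetherianRing TP := IsLocalization.isNoetherianRing P.primeCompl _ inferInstance
    let mkN : N →ₗ[T] LocalizedModule P.primeCompl N := LocalizedModule.mkLinearMap P.primeCompl N
    have hmk : IsBaseChange TP mkN := (isLocalizedModule_iff_isBaseChange P.primeCompl TP mkN).mp inferInstance
    haveI : IsScalarTower B TP (LocalizedModule P.primeCompl N) := IsScalarTower.of_algebraMap_smul fun b x => by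
      rw [IsScalarTower.algebraMap_apply B T TP, algebraMap_smul, algebraMap_smul]
    haveI : IsLocalRing (EGA4.FibLocRing A (Pol A n) (q'.comap (algebraMap (Pol A n) B))) :=
      GrothLib.FlatOff.isLocalRing_fibLocRing _
    haveI : IsNoetherianRing (EGA4.FibLocRing A (Pol A n) (q'.comap (algebraMap (Pol A n) B))) := by
      haveI : IsRegularLocalRing (EGA4.FibLocRing A (Pol A n) (q'.comap (algebraMap (Pol A n) B))) :=
        isRegularLocalRing_fibLocRing_pol (⟨q'.comap (algebraMap (Pol A n) B), inferInstance⟩ : PrimeSpectrum (Pol A n))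
      infer_instance
    obtain ⟨e1, e2, -⟩ := fibStalk_transfer hπ q' hu' hs' hk' M (LocalizedModule P.primeCompl N)
      (mkN.restrictScalars B ∘ₗ g) (hg.comp hmk)
    rw [e1, e2, SkBad, not_not]
  constructor
  · intro h y hy hyp hbad
    have hann : RingHom.ker (algebraMap (Pol A n) B) ≤ y.asIdeal := by
      intro a ha
      refine Module.annihilator_le_of_mem_support (mem_support_of_skBad hbad) ?_
      rw [Module.mem_annihilator]
      intro m
      rw [← algebraMap_smul B a m, RingHom.mem_ker.mp ha, zero_smul]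
    let q' : Ideal B := y.asIdeal.map (algebraMap (Pol A n) B)
    have hq'prime : q'.IsPrime := Ideal.map_isPrime_of_surjective hπ hann
    have hq' : q'.comap (algebraMap (Pol A n) B) = y.asIdeal := by
      rw [Ideal.comap_map_of_surjective _ hπ, ← RingHom.ker_eq_comap_bot, sup_eq_left.2 hann]
    have hle : q' ≤ q := Ideal.map_le_iff_le_comap.2 hy
    have hp : q'.comap (algebraMap A B) = q.comap (algebraMap A B) := by
      rw [← hbase q', ← hbase q, hq', hyp]
    obtain ⟨P, hP⟩ : (⟨q', hq'prime⟩ : PrimeSpectrum B) ∈ Set.range (PrimeSpectrum.comap (algebraMap B T)) := by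
      rw [PrimeSpectrum.mem_range_comap_iff]
      refine le_antisymm (fun x hx => ?_) Ideal.le_comap_map
      have key : ∀ t ∈ q'.map (algebraMap B T), ∃ b ∈ q', ∃ u ∉ q, t * algebraMap B T u = algebraMap B T b := by
        intro t ht
        induction ht using Submodule.span_induction with
        | mem t ht =>
          obtain ⟨b, hb, rfl⟩ := ht
          exact ⟨b, hb, 1, Ideal.IsPrime.one_notMem ‹_›, by rw [map_one, mul_one]⟩
        | zero => exact ⟨0, q'.zero_mem, 1, Ideal.IsPrime.one_notMem ‹_›, by rw [map_zero, zero_mul]⟩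
        | add s t _ _ h₁ h₂ =>
          obtain ⟨b₁, hb₁, u₁, hu₁, e₁⟩ := h₁
          obtain ⟨b₂, hb₂, u₂, hu₂, e₂⟩ := h₂
          refine ⟨b₁ * u₂ + b₂ * u₁, q'.add_mem (q'.mul_mem_right _ hb₁) (q'.mul_mem_right _ hb₂), u₁ * u₂,
            fun h => (Ideal.IsPrime.mem_or_mem ‹_› h).elim hu₁ hu₂, ?_⟩
          rw [map_add, map_mul, map_mul, map_mul, ← e₁, ← e₂]
          ring
        | smul c t _ h₁ =>
          obtain ⟨b₁, hb₁, u₁, hu₁, e₁⟩ := h₁
          obtain ⟨c', u', hu', e'⟩ := hsurj c
          refine ⟨c' * b₁, q'.mul_mem_left _ hb₁, u' * u₁,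
            fun h => (Ideal.IsPrime.mem_or_mem ‹_› h).elim hu' hu₁, ?_⟩
          rw [map_mul, map_mul, ← e', ← e₁, smul_eq_mul]
          ring
      obtain ⟨b, hb, u, hu, e⟩ := key _ hx
      have h0 : algebraMap B T (x * u - b) = 0 := by rw [map_sub, map_mul, e, sub_self]
      obtain ⟨w, hw, hmem⟩ := (hker _).1 h0
      rw [← hp] at hmem
      have h1 : w * (x * u - b) ∈ q' := Ideal.map_comap_le hmem
      have h2 : x * u ∈ q' := by
        have := hq'prime.mem_or_mem h1
        rcases this with h | h
        · exact absurd (hle h) hw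
        · simpa using q'.add_mem h hb
      rcases hq'prime.mem_or_mem h2 with h | h
      · exact h
      · exact absurd (hle h) hu
    have h1 := (main P.asIdeal).2.1 (h P.asIdeal)
    refine h1 ?_
    have : (⟨(P.asIdeal.comap (algebraMap B T)).comap (algebraMap (Pol A n) B), inferInstance⟩ :
        PrimeSpectrum (Pol A n)) = y := PrimeSpectrum.ext (by
      show (P.asIdeal.comap _).comap _ = _
      rw [show P.asIdeal.comap (algebraMap B T) = q' from congrArg PrimeSpectrum.asIdeal hP, hq'])
    rw [this]
    exact hbad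
  · intro h P _
    obtain ⟨h1, h2⟩ := main P
    obtain ⟨hle, hp⟩ := h1 _ rfl
    exact h2.2 (h _ (Ideal.comap_mono hle) (by
      show ((P.comap _).comap _).comap _ = _
      rw [hbase, hbase, hp]))

end GrothLib.FibPd
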