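import Groth.Agent.Lib.FibPd.Stage
import Groth.Agent.Lib.FibPd.GenLocus
import Groth.Agent.Lib.FibPd.SkTransfer

/-!
# Openness and constructibility of Serre's conditions on fibres
-/

set_option autoImplicit false
set_option linter.style.haveILetI false
universe u

open TensorProduct Function IsLocalRing MvPolynomial Topology TopologicalSpace

namespace GrothLib.FibPd

attribute [local instance] MvPolynomial.algebraMvPolynomial

variable {A : Type u} [CommRing A] {n : ℕ}

/-- The points with positive codepth and projective dimension at least `e`. -/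
def ZSet (M : Type u) [AddCommGroup M] [Module (Pol A n) M] (e : ℕ) : Set (PrimeSpectrum (Pol A n)) :=
  Module.support (Pol A n) M ∩
    ({Q : PrimeSpectrum (Pol A n) |
      Module.supportDim (EGA4.FibLocRing A (Pol A n) Q.asIdeal) (EGA4.FibLocRing A (Pol A n) Q.asIdeal ⊗[Pol A n] M) ≤
        ((LocCoh.depth (EGA4.FibLocRing A (Pol A n) Q.asIdeal)
          (EGA4.FibLocRing A (Pol A n) Q.asIdeal ⊗[Pol A n] M) : ℕ∞) : WithBot ℕ∞) + (0 : ℕ)}ᶜ ∩
    ⋂ e' ∈ Set.Iio e, {Q : PrimeSpectrum (Pol A n) | PdFib M Q e'}ᶜ)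

variable (M : Type u) [AddCommGroup M] [Module (Pol A n) M]

theorem skBad_iff [Module.Finite (Pol A n) M] (k : ℕ) (Q : PrimeSpectrum (Pol A n)) :
    SkBad M k Q ↔ ∃ e, e ≤ n ∧ Q ∈ ZSet M e ∧ ((n + 1 - (e + k) : ℕ) : WithBot ℕ∞) ≤ ptDimFib Q := by
  by_cases hQ : Q ∈ Module.support (Pol A n) M
  swap
  · exact iff_of_false (fun h => hQ (mem_support_of_skBad h)) fun ⟨e, _, h, _⟩ => hQ h.1
  obtain ⟨d, e, t, s, hn, ht, hd, he, hs, -, hds⟩ := exists_numbers Q M hQ
  have hlhs : SkBad M k Q ↔ d < k ∧ d < s := by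
    have h0 : min (k : WithBot ℕ∞) (s : WithBot ℕ∞) = ((min k s : ℕ) : WithBot ℕ∞) := by
      rcases le_total k s with h | h
      · rw [min_eq_left h, min_eq_left]
        exact_mod_cast h
      · rw [min_eq_right h, min_eq_right]
        exact_mod_cast h
    rw [SkBad, hs, hd, h0]
    norm_cast
    omega
  rw [hlhs]
  simp only [ZSet, Set.mem_inter_iff, Set.mem_compl_iff, Set.mem_setOf_eq, Set.mem_iInter, Set.mem_Iio, hQ, true_and, hs, hd, ht]
  constructor
  · rintro ⟨h1, h2⟩
    refine ⟨e, by omega, ⟨?_, fun e' he' h => ?_⟩, ?_⟩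
    · norm_cast; omega
    · have := (he e').1 h; omega
    · exact_mod_cast (show n + 1 - (e + k) ≤ t by omega)
  · rintro ⟨e', -, ⟨hc, hpd⟩, hτ⟩
    have hle : e' ≤ e := by
      by_contra hlt
      exact hpd e (not_le.mp hlt) ((he e).2 le_rfl)
    have hτ' : n + 1 - (e' + k) ≤ t := by exact_mod_cast hτ
    norm_cast at hc
    omega

theorem codepth_le_baseChange [Module.Finite (Pol A n) M] {A' : Type u} [CommRing A'] [Algebra A A'] (k : ℕ)
    (Q' : PrimeSpectrum (Pol A' n)) :
    (Module.supportDim (EGA4.FibLocRing A' (Pol A' n) Q'.asIdeal)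
        (EGA4.FibLocRing A' (Pol A' n) Q'.asIdeal ⊗[Pol A' n] (Pol A' n ⊗[Pol A n] M)) ≤
      ((LocCoh.depth (EGA4.FibLocRing A' (Pol A' n) Q'.asIdeal)
        (EGA4.FibLocRing A' (Pol A' n) Q'.asIdeal ⊗[Pol A' n] (Pol A' n ⊗[Pol A n] M)) : ℕ∞) : WithBot ℕ∞) + k) ↔
    (Module.supportDim (EGA4.FibLocRing A (Pol A n) (PrimeSpectrum.comap (algebraMap (Pol A n) (Pol A' n)) Q').asIdeal)
        (EGA4.FibLocRing A (Pol A n) (PrimeSpectrum.comap (algebraMap (Pol A n) (Pol A' n)) Q').asIdeal ⊗[Pol A n] M) ≤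
      ((LocCoh.depth (EGA4.FibLocRing A (Pol A n) (PrimeSpectrum.comap (algebraMap (Pol A n) (Pol A' n)) Q').asIdeal)
        (EGA4.FibLocRing A (Pol A n) (PrimeSpectrum.comap (algebraMap (Pol A n) (Pol A' n)) Q').asIdeal ⊗[Pol A n] M) : ℕ∞)
          : WithBot ℕ∞) + k) := by
  rw [codepth_le_iff, codepth_le_iff]
  refine exists_congr fun e => ?_
  rw [fibDimIn_baseChange (PrimeSpectrum.comap (algebraMap (Pol A n) (Pol A' n)) Q') M Q' rfl,
    pdFib_baseChange_iff (PrimeSpectrum.comap (algebraMap (Pol A n) (Pol A' n)) Q') M Q' rfl e]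

theorem zSet_baseChange [Module.Finite (Pol A n) M] (A' : Type u) [CommRing A'] [Algebra A A'] (e : ℕ) :
    PrimeSpectrum.comap (algebraMap (Pol A n) (Pol A' n)) ⁻¹' ZSet M e = ZSet (Pol A' n ⊗[Pol A n] M) e := by
  ext Q'
  simp only [ZSet, Set.mem_preimage, Set.mem_inter_iff, Set.mem_compl_iff, Set.mem_setOf_eq, Set.mem_iInter]
  rw [mem_support_baseChange_iff, codepth_le_baseChange]
  refine and_congr_right fun _ => and_congr_right fun _ => forall₂_congr fun e' _ => not_congr ?_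
  exact (pdFib_baseChange_iff (PrimeSpectrum.comap (algebraMap (Pol A n) (Pol A' n)) Q') M Q' rfl e').symm

variable {M}

theorem isClosed_zSet [Module A M] [IsScalarTower A (Pol A n) M] [Module.FinitePresentation (Pol A n) M]
    [Module.Flat A M] (e : ℕ) : IsClosed (ZSet (A := A) (n := n) M e) := by
  refine IsClosed.inter ?_ ((isOpen_codepth_le M 0).isClosed_compl.inter
    (isClosed_biInter fun e' _ => (isOpen_pdFib M e').isClosed_compl))
  rw [Module.support_eq_zeroLocus]
  exact PrimeSpectrum.isClosed_zeroLocus _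

theorem fibClosed_zSet [Module.FinitePresentation (Pol A n) M] (e : ℕ) : FibClosed (ZSet (A := A) (n := n) M e) := by
  intro k _ _
  rw [zSet_baseChange M k e]
  exact isClosed_zSet e

theorem isOpen_not_genIn_zSet [Module A M] [IsScalarTower A (Pol A n) M] [Module.FinitePresentation (Pol A n) M]
    [Module.Flat A M] (e τ : ℕ) : IsOpen {Q : PrimeSpectrum (Pol A n) | ¬ GenIn (ZSet M e) τ Q} := by
  obtain ⟨I, hI⟩ : ∃ I : Ideal (Pol A n), PrimeSpectrum.zeroLocus (I : Set (Pol A n)) = ZSet M e :=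
    ⟨_, (PrimeSpectrum.zeroLocus_vanishingIdeal_eq_closure _).trans (isClosed_zSet e).closure_eq⟩
  cases τ with
  | zero =>
    convert (PrimeSpectrum.isClosed_zeroLocus (I : Set (Pol A n))).isOpen_compl using 1
    ext Q
    simp only [Set.mem_setOf_eq, Set.mem_compl_iff, hI]
    refine not_congr ⟨fun ⟨y, hy, _, hyS, _⟩ => ?_, fun h => ?_⟩
    · rw [← hI] at hyS ⊢
      exact Set.Subset.trans hyS hy
    · obtain ⟨t, -, ht, -⟩ := fibre_data Q (Pol A n)
      exact ⟨Q, le_rfl, rfl, h, by rw [ht]; exact_mod_cast Nat.zero_le t⟩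
  | succ τ =>
    convert isOpen_fibDimIn_le I τ using 1
    ext Q
    simp only [Set.mem_setOf_eq]
    rw [← hI, genIn_zeroLocus_iff]
    generalize fibDimIn (PrimeSpectrum.comap (algebraMap A (Pol A n))) (PrimeSpectrum.zeroLocus (I : Set (Pol A n))) Q = a
    cases a with
    | bot => simp [← WithBot.coe_natCast, -WithBot.coe_natCast]
    | coe b =>
      cases b with
      | top =>
        refine iff_of_false (fun h => h (WithBot.coe_le_coe.2 le_top)) fun h => ?_
        exact ENat.natCast_ne_top τ (top_le_iff.mp (WithBot.coe_le_coe.1 h))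
      | coe b => norm_cast; omega

/-- Serre's condition at all generisations in the fibre. -/
def SkGood (M : Type u) [AddCommGroup M] [Module (Pol A n) M] (k : ℕ) (Q : PrimeSpectrum (Pol A n)) : Prop :=
  ∀ y : PrimeSpectrum (Pol A n), y.asIdeal ≤ Q.asIdeal →
    y.asIdeal.comap (algebraMap A (Pol A n)) = Q.asIdeal.comap (algebraMap A (Pol A n)) → ¬ SkBad M k y

theorem setOf_skGood [Module.Finite (Pol A n) M] (k : ℕ) : {Q : PrimeSpectrum (Pol A n) | SkGood M k Q} =
    ⋂ e ∈ Set.Iic n, {Q : PrimeSpectrum (Pol A n) | ¬ GenIn (ZSet M e) (n + 1 - (e + k)) Q} := by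
  ext Q
  simp only [Set.mem_setOf_eq, Set.mem_iInter, Set.mem_Iic, SkGood, GenIn]
  constructor
  · rintro h e he ⟨y, h1, h2, h3, h4⟩
    exact h y h1 h2 ((skBad_iff M k y).2 ⟨e, he, h3, h4⟩)
  · intro h y h1 h2 hbad
    obtain ⟨e, he, h3, h4⟩ := (skBad_iff M k y).1 hbad
    exact h e he ⟨y, h1, h2, h3, h4⟩

theorem isOpen_skGood [Module A M] [IsScalarTower A (Pol A n) M] [Module.FinitePresentation (Pol A n) M]
    [Module.Flat A M] (k : ℕ) : IsOpen {Q : PrimeSpectrum (Pol A n) | SkGood M k Q} := by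
  rw [setOf_skGood]
  exact (Set.finite_Iic n).isOpen_biInter fun e _ => isOpen_not_genIn_zSet e _

theorem zSet_congr {N : Type u} [AddCommGroup N] [Module (Pol A n) N] [Module.FinitePresentation (Pol A n) M]
    (E : N ≃ₗ[Pol A n] M) (e : ℕ) : ZSet (A := A) (n := n) M e = ZSet N e := by
  haveI : Module.Finite (Pol A n) N := Module.Finite.equiv E.symm
  ext Q
  simp only [ZSet, Set.mem_inter_iff, Set.mem_compl_iff, Set.mem_setOf_eq, Set.mem_iInter]
  rw [E.support_eq, codepth_le_iff, codepth_le_iff, E.support_eq]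
  simp only [pdFib_congr M E]

theorem isConstructible_skGood [Module.FinitePresentation (Pol A n) M] (k : ℕ) :
    IsConstructible {Q : PrimeSpectrum (Pol A n) | SkGood M k Q} := by
  rw [setOf_skGood]
  obtain ⟨A₀, _, _, M₀, _, _, _, _, ⟨E⟩⟩ := exists_noetherian_model (A := A) (n := n) M
  haveI : Module.FinitePresentation (Pol A₀ n) M₀ := Module.finitePresentation_of_finite _ _
  refine Set.Finite.induction_on (motive := fun S _ => IsConstructible
    (⋂ e ∈ S, {Q : PrimeSpectrum (Pol A n) | ¬ GenIn (ZSet M e) (n + 1 - (e + k)) Q})) _ (Set.finite_Iic n) ?_ ?_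
  · simp [IsConstructible.univ]
  · intro e S _ _ ih
    rw [Set.biInter_insert]
    refine IsConstructible.inter ?_ ih
    rw [show {Q : PrimeSpectrum (Pol A n) | ¬ GenIn (ZSet M e) (n + 1 - (e + k)) Q} =
      {Q : PrimeSpectrum (Pol A n) | GenIn (ZSet M e) (n + 1 - (e + k)) Q}ᶜ from rfl]
    refine IsConstructible.compl ?_
    have : {Q : PrimeSpectrum (Pol A n) | GenIn (ZSet M e) (n + 1 - (e + k)) Q} =
        PrimeSpectrum.comap (algebraMap (Pol A₀ n) (Pol A n)) ⁻¹'
          {Q₀ | GenIn (ZSet M₀ e) (n + 1 - (e + k)) Q₀} := by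
      ext Q
      rw [Set.mem_setOf_eq, zSet_congr E e, ← zSet_baseChange M₀ A e]
      exact genIn_baseChange (fibClosed_zSet e) _ Q
    rw [this]
    refine isConstructible_comap_preimage _ (isConstructible_of_flat_stage M₀ _ fun A' _ _ _ hflat => ?_)
    haveI := hflat
    haveI : Module.FinitePresentation (Pol A' n) (Pol A' n ⊗[Pol A₀ n] M₀) := inferInstance
    have heq : PrimeSpectrum.comap (algebraMap (Pol A₀ n) (Pol A' n)) ⁻¹' {Q₀ | GenIn (ZSet M₀ e) (n + 1 - (e + k)) Q₀} =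
        {Q' : PrimeSpectrum (Pol A' n) | ¬ GenIn (ZSet (Pol A' n ⊗[Pol A₀ n] M₀) e) (n + 1 - (e + k)) Q'}ᶜ := by
      ext Q'
      rw [Set.mem_compl_iff, Set.mem_setOf_eq, not_not, ← zSet_baseChange M₀ A' e]
      exact (genIn_baseChange (fibClosed_zSet e) _ Q').symm
    rw [heq]
    exact (isConstructible_of_noetherian (isOpen_not_genIn_zSet e _)).compl

end GrothLib.FibPd
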