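import Groth.Agent.Lib.FibPd.Constructible

/-!
# Reduction of constructibility to the flat stage
-/

set_option autoImplicit false
set_option linter.style.haveILetI false
universe u

open TensorProduct Function IsLocalRing MvPolynomial Topology TopologicalSpace

namespace GrothLib.FibPd

attribute [local instance] MvPolynomial.algebraMvPolynomial

/-- Over a Noetherian base a set is constructible as soon as it is so after every base change making
a given finite module flat. -/
theorem isConstructible_of_flat_stage {A : Type u} [CommRing A] [IsNoetherianRing A] {n : ℕ} (M : Type u)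
    [AddCommGroup M] [Module (Pol A n) M] [Module.Finite (Pol A n) M] (S : Set (PrimeSpectrum (Pol A n)))
    (h : ∀ (A' : Type u) [CommRing A'] [Algebra A A'] [IsNoetherianRing A'],
      Module.Flat A' (Pol A' n ⊗[Pol A n] M) →
      IsConstructible (PrimeSpectrum.comap (algebraMap (Pol A n) (Pol A' n)) ⁻¹' S)) :
    IsConstructible S := by
  let π := PrimeSpectrum.comap (algebraMap A (Pol A n))
  suffices H : ∀ T : Set (PrimeSpectrum A), IsClosed T → IsConstructible (S ∩ π ⁻¹' T) by
    simpa using H Set.univ isClosed_univ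
  intro T hT
  refine GrothLib.NoethTop.closed_induction ?_ (fun Z₁ Z₂ _ _ h₁ h₂ => ?_) (fun Z hZ hi ih => ?_) hT
  · simp [IsConstructible.empty]
  · rw [Set.preimage_union, Set.inter_union_distrib_left]
    exact h₁.union h₂
  obtain ⟨p, hp, rfl⟩ : ∃ p : Ideal A, p.IsPrime ∧ PrimeSpectrum.zeroLocus (p : Set A) = Z :=
    ⟨PrimeSpectrum.vanishingIdeal Z, PrimeSpectrum.isIrreducible_iff_vanishingIdeal_isPrime.mp hi,
      (PrimeSpectrum.zeroLocus_vanishingIdeal_eq_closure Z).trans hZ.closure_eq⟩
  let A₁ := A ⧸ p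
  let M₁ := Pol A₁ n ⊗[Pol A n] M
  obtain ⟨g, -, hg0, hfree⟩ := GrothLib.GenFree.gf_of_finiteType (R := A₁) (Pol A₁ n) M₁ 1 one_ne_zero
  obtain ⟨a, rfl⟩ := Ideal.Quotient.mk_surjective g
  let A₂ := Localization.Away (Ideal.Quotient.mk p a : A₁)
  haveI : Module.Free A₂ (A₂ ⊗[A₁] M₁) := hfree.free_tensor A₂
  haveI : Module.Flat A₂ (A₂ ⊗[A₁] M₁) := inferInstance
  haveI : IsScalarTower (Pol A n) (Pol A₁ n) (Pol A₂ n) := IsScalarTower.of_algebraMap_eq' (by
    rw [algebraMap_def, algebraMap_def, algebraMap_def]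
    refine RingHom.ext fun x => ?_
    rw [RingHom.comp_apply, MvPolynomial.map_map, ← IsScalarTower.algebraMap_eq])
  have hflat : Module.Flat A₂ (Pol A₂ n ⊗[Pol A n] M) := by
    let E := (Algebra.IsPushout.cancelBaseChange A₁ A₂ (Pol A₁ n) (Pol A₂ n) M₁)
    let E' : Pol A₂ n ⊗[Pol A₁ n] M₁ ≃ₗ[Pol A₂ n] Pol A₂ n ⊗[Pol A n] M :=
      AlgebraTensorModule.cancelBaseChange (Pol A n) (Pol A₁ n) (Pol A₂ n) (Pol A₂ n) M
    refine Module.Flat.of_linearEquiv (M := A₂ ⊗[A₁] M₁) ?_
    exact
      { E'.symm.toAddEquiv.trans E.toAddEquiv with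
        map_smul' := fun c x => by
          refine ((congrArg (fun z => E (E'.symm z)) (algebraMap_smul (Pol A₂ n) c x).symm).trans
            ((congrArg E (E'.symm.map_smul (algebraMap A₂ (Pol A₂ n) c) x)).trans ?_))
          rw [algebraMap_smul, E.map_smul]
          rfl }
  haveI : IsNoetherianRing A₂ := IsLocalization.isNoetherianRing (Submonoid.powers (Ideal.Quotient.mk p a : A₁)) _ inferInstance
  haveI : IsScalarTower A A₁ A₂ := inferInstance
  let j := PrimeSpectrum.comap (algebraMap (Pol A n) (Pol A₂ n))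
  have hrange : Set.range j = π ⁻¹' (PrimeSpectrum.zeroLocus (p : Set A) ∩ PrimeSpectrum.basicOpen a) := by
    have hbase : ∀ Q₂, π (j Q₂) = PrimeSpectrum.comap (algebraMap A A₂) (PrimeSpectrum.comap (algebraMap A₂ (Pol A₂ n)) Q₂) := by
      intro Q₂
      refine PrimeSpectrum.ext ?_
      show (Q₂.asIdeal.comap _).comap _ = (Q₂.asIdeal.comap _).comap _
      rw [Ideal.comap_comap, Ideal.comap_comap]
      congr 1
      refine RingHom.ext fun x => ?_
      rw [RingHom.comp_apply, RingHom.comp_apply, MvPolynomial.algebraMap_eq, MvPolynomial.algebraMap_eq, algebraMap_def,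
        MvPolynomial.map_C]
    ext Q
    constructor
    · rintro ⟨Q₂, rfl⟩
      refine ⟨?_, ?_⟩
      · show π (j Q₂) ∈ PrimeSpectrum.zeroLocus _
        rw [PrimeSpectrum.mem_zeroLocus]
        intro x hx
        rw [hbase, SetLike.mem_coe, PrimeSpectrum.comap_asIdeal, Ideal.mem_comap,
          IsScalarTower.algebraMap_apply A A₁ A₂, Ideal.Quotient.algebraMap_eq, Ideal.Quotient.eq_zero_iff_mem.mpr hx,
          map_zero]
        exact Submodule.zero_mem _
      · show a ∉ _
        rw [hbase, PrimeSpectrum.comap_asIdeal, Ideal.mem_comap, IsScalarTower.algebraMap_apply A A₁ A₂,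
          Ideal.Quotient.algebraMap_eq]
        exact fun h => (PrimeSpectrum.comap (algebraMap A₂ (Pol A₂ n)) Q₂).isPrime.ne_top
          (Ideal.eq_top_of_isUnit_mem _ h (IsLocalization.Away.algebraMap_isUnit _))
    · rintro ⟨hQp, hQa⟩
      let p' := Q.asIdeal.comap (algebraMap A (Pol A n))
      let κ := p'.ResidueField
      have hker : ∀ x ∈ p, algebraMap A κ x = 0 := fun x hx => by
        rw [← RingHom.mem_ker, Ideal.ker_algebraMap_residueField]
        exact hQp hx
      let θ₁ : A₁ →+* κ := Ideal.Quotient.lift p (algebraMap A κ) hker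
      have hu : IsUnit (θ₁ (Ideal.Quotient.mk p a)) := by
        refine Ne.isUnit fun h => hQa ?_
        rw [Ideal.Quotient.lift_mk, ← RingHom.mem_ker, Ideal.ker_algebraMap_residueField] at h
        exact h
      obtain ⟨Q₂, hQ₂⟩ := exists_lift (A' := A₂) Q (IsLocalization.Away.lift _ hu) (RingHom.ext fun x => by
        rw [RingHom.comp_apply, IsScalarTower.algebraMap_apply A A₁ A₂, IsLocalization.Away.lift_eq]
        rfl)
      exact ⟨Q₂, PrimeSpectrum.ext hQ₂⟩
  have hfp : (algebraMap (Pol A n) (Pol A₂ n)).FinitePresentation := by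
    haveI : Algebra.FiniteType A A₂ := Algebra.FiniteType.trans (S := A₁) inferInstance inferInstance
    haveI : Algebra.FiniteType (Pol A n) (Pol A₂ n) := by
      haveI : Algebra.IsPushout A A₂ (Pol A n) (Pol A₂ n) := inferInstance
      haveI := ‹Algebra.IsPushout A A₂ (Pol A n) (Pol A₂ n)›.symm
      exact Algebra.FiniteType.equiv (inferInstance : Algebra.FiniteType (Pol A n) (Pol A n ⊗[A] A₂))
        (Algebra.IsPushout.equiv A (Pol A n) A₂ (Pol A₂ n))
    exact RingHom.finitePresentation_algebraMap.mpr (Algebra.FinitePresentation.of_finiteType.mp inferInstance)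
  have hc : IsConstructible (S ∩ π ⁻¹' (PrimeSpectrum.zeroLocus (p : Set A) ∩ PrimeSpectrum.basicOpen a)) := by
    rw [← hrange, ← Set.image_preimage_eq_inter_range]
    exact PrimeSpectrum.isConstructible_comap_image hfp (h A₂ hflat)
  have hne : ((PrimeSpectrum.basicOpen a : Set (PrimeSpectrum A)) ∩ PrimeSpectrum.zeroLocus (p : Set A)).Nonempty :=
    ⟨⟨p, hp⟩, fun h => hg0 (Ideal.Quotient.eq_zero_iff_mem.mpr h), (PrimeSpectrum.mem_zeroLocus _ _).mpr Set.Subset.rfl⟩
  have hdec : S ∩ π ⁻¹' PrimeSpectrum.zeroLocus (p : Set A) =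
      (S ∩ π ⁻¹' (PrimeSpectrum.zeroLocus (p : Set A) ∩ PrimeSpectrum.basicOpen a)) ∪
      (S ∩ π ⁻¹' (PrimeSpectrum.zeroLocus (p : Set A) \ PrimeSpectrum.basicOpen a)) := by
    rw [← Set.inter_union_distrib_left, ← Set.preimage_union, Set.inter_union_sdiff]
  rw [hdec]
  exact hc.union (ih _ (hZ.sdiff (PrimeSpectrum.basicOpen a).2) (GrothLib.NoethTop.sdiff_ssubset hne))

end GrothLib.FibPd
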