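import Groth.Agent.Lib.FibPd.Criteria
import Groth.Agent.Lib.Faltings.Transfer
import Groth.Agent.Lib.CMBasics.DimIneq

/-!
# The fibre stalk through a presentation of the algebra
-/

set_option autoImplicit false
set_option linter.style.haveILetI false
universe u

open TensorProduct Function IsLocalRing

namespace GrothLib.FibPd

theorem depth_congr {R M N : Type u} [CommRing R] [IsLocalRing R] [IsNoetherianRing R] [AddCommGroup M] [Module R M]
    [AddCommGroup N] [Module R N] [Module.Finite R M] [Module.Finite R N] (e : M ≃ₗ[R] N) : LocCoh.depth R M = LocCoh.depth R N :=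
  GrothLib.Depth.idealDepth_eq_of_equiv _ e

/-- Depth and dimension of a fibre stalk computed over a polynomial ring mapping onto the algebra. -/
theorem fibStalk_transfer {A P B T : Type u} [CommRing A] [CommRing P] [CommRing B] [CommRing T] [Algebra A P]
    [Algebra P B] [Algebra A B] [IsScalarTower A P B] (hπ : Surjective (algebraMap P B))
    (q : Ideal B) [q.IsPrime] [IsLocalRing T] [IsNoetherianRing T] [Algebra B T]
    (hunit : ∀ u, u ∉ q → IsUnit (algebraMap B T u))
    (hsurj : ∀ t : T, ∃ b u : B, u ∉ q ∧ t * algebraMap B T u = algebraMap B T b)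
    (hker : ∀ b : B, algebraMap B T b = 0 ↔ ∃ u, u ∉ q ∧ u * b ∈ (q.comap (algebraMap A B)).map (algebraMap A B))
    (M : Type u) [AddCommGroup M] [Module B M] [Module P M] [IsScalarTower P B M] [Module.Finite P M]
    (N : Type u) [AddCommGroup N] [Module T N] [Module B N] [IsScalarTower B T N]
    (g : M →ₗ[B] N) (hg : IsBaseChange T g)
    [IsLocalRing (EGA4.FibLocRing A P (q.comap (algebraMap P B)))]
    [IsNoetherianRing (EGA4.FibLocRing A P (q.comap (algebraMap P B)))] :
    LocCoh.depth T N = LocCoh.depth (EGA4.FibLocRing A P (q.comap (algebraMap P B)))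
        (EGA4.FibLocRing A P (q.comap (algebraMap P B)) ⊗[P] M) ∧
      Module.supportDim T N = Module.supportDim (EGA4.FibLocRing A P (q.comap (algebraMap P B)))
        (EGA4.FibLocRing A P (q.comap (algebraMap P B)) ⊗[P] M) ∧
      (Subsingleton N ↔ Subsingleton (EGA4.FibLocRing A P (q.comap (algebraMap P B)) ⊗[P] M)) := by
  let Q := q.comap (algebraMap P B)
  let R := Localization.AtPrime Q
  let G := EGA4.FibLocRing A P Q
  letI : Algebra P T := ((algebraMap B T).comp (algebraMap P B)).toAlgebra
  haveI : IsScalarTower P B T := IsScalarTower.of_algebraMap_eq fun _ => rfl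
  have hu : ∀ s : Q.primeCompl, IsUnit (algebraMap P T s) := fun s => hunit _ s.2
  let φ₀ : R →+* T := IsLocalization.lift hu
  have hφ₀ : ∀ a, φ₀ (algebraMap P R a) = algebraMap P T a := fun a => IsLocalization.lift_eq hu a
  have hle : (Q.comap (algebraMap A P)).map (algebraMap A R) ≤ RingHom.ker φ₀ := by
    rw [Ideal.map_le_iff_le_comap]
    intro a ha
    have ha' : a ∈ q.comap (algebraMap A B) := by
      rw [Ideal.mem_comap, IsScalarTower.algebraMap_apply A P B]
      exact ha
    rw [Ideal.mem_comap, RingHom.mem_ker, IsScalarTower.algebraMap_apply A P R, hφ₀,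
      IsScalarTower.algebraMap_apply P B T, ← IsScalarTower.algebraMap_apply A P B]
    exact (hker _).2 ⟨1, Ideal.IsPrime.one_notMem ‹_›, by rw [one_mul]; exact Ideal.mem_map_of_mem _ ha'⟩
  let φ : G →+* T := Ideal.Quotient.lift _ φ₀ hle
  have hφ : ∀ a, φ (algebraMap P G a) = algebraMap P T a := fun a => hφ₀ a
  have hφs : Surjective φ := by
    intro t
    obtain ⟨b, u, hu', ht⟩ := hsurj t
    obtain ⟨a, rfl⟩ := hπ b
    obtain ⟨s, rfl⟩ := hπ u
    refine ⟨Ideal.Quotient.mk _ (IsLocalization.mk' R a (⟨s, hu'⟩ : Q.primeCompl)), ?_⟩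
    show φ₀ (IsLocalization.mk' R a (⟨s, hu'⟩ : Q.primeCompl)) = t
    rw [IsLocalization.lift_mk'_spec, mul_comm]
    exact ht.symm
  let N₀ := G ⊗[P] M
  -- the kernel acts by zero
  have hann : ∀ c : G, φ c = 0 → ∀ x : N₀, c • x = 0 := by
    intro c hc x
    obtain ⟨r, rfl⟩ := Ideal.Quotient.mk_surjective c
    obtain ⟨a, s, rfl⟩ := IsLocalization.exists_mk'_eq Q.primeCompl r
    have h0 : algebraMap B T (algebraMap P B a) = 0 := by
      have h1 : φ₀ (IsLocalization.mk' R a s) = 0 := hc
      rw [IsLocalization.lift_mk'_spec, mul_zero] at h1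
      exact h1
    obtain ⟨u, hu', hmem⟩ := (hker _).1 h0
    obtain ⟨u₀, rfl⟩ := hπ u
    -- lift to the polynomial ring
    obtain ⟨z, hz, hzeq⟩ : ∃ z ∈ (Q.comap (algebraMap A P)).map (algebraMap A P),
        algebraMap P B z = algebraMap P B (u₀ * a) := by
      rw [← map_mul, IsScalarTower.algebraMap_eq A P B, ← Ideal.map_map,
        Ideal.mem_map_iff_of_surjective _ hπ] at hmem
      obtain ⟨z, hz, hze⟩ := hmem
      refine ⟨z, ?_, hze⟩
      rwa [← Ideal.comap_comap] at hz
    have hzG : algebraMap P G z = 0 := by
      refine Ideal.Quotient.eq_zero_iff_mem.mpr ?_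
      rw [IsScalarTower.algebraMap_eq A P R, ← Ideal.map_map]
      exact Ideal.mem_map_of_mem _ hz
    have hkill : ∀ k : P, algebraMap P B k = 0 → ∀ y : N₀, algebraMap P G k • y = 0 := by
      intro k hk y
      rw [algebraMap_smul]
      induction y using TensorProduct.induction_on with
      | zero => rw [smul_zero]
      | add y₁ y₂ h₁ h₂ => rw [smul_add, h₁, h₂, add_zero]
      | tmul c m => rw [← TensorProduct.tmul_smul, ← algebraMap_smul B k m, hk, zero_smul, TensorProduct.tmul_zero]
    have h2 : algebraMap P G (u₀ * a) • x = 0 := by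
      have := hkill (u₀ * a - z) (by rw [map_sub, hzeq, sub_self]) x
      rwa [map_sub, hzG, sub_zero] at this
    have hunitG : ∀ v : Q.primeCompl, IsUnit (algebraMap P G v) := fun v =>
      ((IsLocalization.map_units R v).map (Ideal.Quotient.mk _))
    have hprod : (Ideal.Quotient.mk _ (IsLocalization.mk' R a s) : G) * (algebraMap P G u₀ * algebraMap P G s) =
        algebraMap P G (u₀ * a) := by
      have h3 := congrArg (Ideal.Quotient.mk ((Q.comap (algebraMap A P)).map (algebraMap A R)))
        (IsLocalization.mk'_spec R a s)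
      rw [map_mul] at h3
      rw [map_mul, ← show _ = algebraMap P G a from h3]
      show _ * (algebraMap P G u₀ * algebraMap P G (s : P)) = algebraMap P G u₀ * (_ * algebraMap P G (s : P))
      ring
    rw [← hprod, mul_comm] at h2
    exact ((hunitG ⟨u₀, hu'⟩).mul (hunitG s)).smul_eq_zero.mp ((smul_smul _ _ x).trans h2)
  letI : Algebra G T := φ.toAlgebra
  haveI : IsScalarTower P G T := IsScalarTower.of_algebraMap_eq fun a => (hφ a).symm
  let σ : T → G := Function.surjInv hφs
  have hσ : ∀ (t : T) (c : G), φ c = t → ∀ x : N₀, σ t • x = c • x := fun t c hc x => by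
    exact sub_eq_zero.mp ((sub_smul (σ t) c x).symm.trans
      (hann _ (by rw [map_sub, Function.surjInv_eq hφs, hc, sub_self]) x))
  letI : Module T N₀ :=
    { smul := fun t x => σ t • x
      one_smul := fun x => (hσ 1 1 (map_one φ) x).trans (one_smul G x)
      mul_smul := fun t t' x => (hσ (t * t') (σ t * σ t')
        (by rw [map_mul, Function.surjInv_eq hφs, Function.surjInv_eq hφs]) x).trans
          (show (σ t * σ t') • x = σ t • (σ t' • x) from (smul_smul (σ t) (σ t') x).symm)
      smul_zero := fun t => show σ t • (0 : N₀) = 0 from smul_zero _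
      smul_add := fun t x y => show σ t • (x + y) = σ t • x + σ t • y from smul_add _ x y
      add_smul := fun t t' x => (hσ (t + t') (σ t + σ t')
        (by rw [map_add, Function.surjInv_eq hφs, Function.surjInv_eq hφs]) x).trans (add_smul _ _ _)
      zero_smul := fun x => (hσ 0 0 (map_zero φ) x).trans (zero_smul G x) }
  have hact : ∀ (c : G) (x : N₀), φ c • x = c • x := fun c x => hσ _ c rfl x
  haveI : IsScalarTower G T N₀ := IsScalarTower.of_algebraMap_smul hact
  haveI : Module.Finite T N₀ := Module.Finite.of_restrictScalars_finite G T N₀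
  letI : Module B N₀ := Module.compHom N₀ (algebraMap B T)
  haveI : IsScalarTower B T N₀ := IsScalarTower.of_algebraMap_smul fun _ _ => rfl
  let j : M →ₗ[B] N₀ :=
    { toFun := fun m => 1 ⊗ₜ m
      map_add' := fun m m' => TensorProduct.tmul_add _ _ _
      map_smul' := fun b m => by
        obtain ⟨a, rfl⟩ := hπ b
        show _ = algebraMap B T (algebraMap P B a) • (1 : G) ⊗ₜ[P] m
        rw [← IsScalarTower.algebraMap_apply, ← hφ, hact, algebraMap_smul B a m,
          algebraMap_smul G a ((1 : G) ⊗ₜ[P] m), TensorProduct.tmul_smul] }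
  have hjb : IsBaseChange T j := by
    refine IsBaseChange.of_lift_unique _ fun Q' _ _ _ _ h => ?_
    letI : Module G Q' := Module.compHom Q' φ
    haveI : IsScalarTower G T Q' := IsScalarTower.of_algebraMap_smul fun _ _ => rfl
    letI : Module P Q' := Module.compHom Q' (algebraMap P T)
    haveI : IsScalarTower P G Q' := ⟨fun a c x => by
      show φ (a • c) • x = algebraMap P T a • (φ c • x)
      have h1 : φ (a • c) = algebraMap P T a * φ c := by
        rw [← hφ, ← map_mul]
        obtain ⟨c, rfl⟩ := Ideal.Quotient.mk_surjective c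
        refine congrArg φ ?_
        refine congrArg (Ideal.Quotient.mk _) ?_
        exact Algebra.smul_def a c
      rw [h1, smul_smul]⟩
    haveI : IsScalarTower B T Q' := inferInstance
    haveI : IsScalarTower P B Q' := ⟨fun a b x => by
      rw [Algebra.smul_def, mul_smul]
      show algebraMap P B a • (b • x) = algebraMap P T a • (b • x)
      rw [IsScalarTower.algebraMap_apply P B T a]
      exact (algebraMap_smul T (algebraMap P B a) (b • x)).symm⟩
    let h' : M →ₗ[P] Q' :=
      { toFun := h
        map_add' := map_add h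
        map_smul' := fun a m => by
          show h (a • m) = algebraMap P T a • h m
          rw [← algebraMap_smul B a m, map_smul, IsScalarTower.algebraMap_apply P B T a]
          exact (algebraMap_smul T (algebraMap P B a) (h m)).symm }
    let L₀ : N₀ →ₗ[G] Q' := LinearMap.liftBaseChange G h'
    let L : N₀ →ₗ[T] Q' :=
      { L₀ with
        map_smul' := fun t x => by
          obtain ⟨c, rfl⟩ := hφs t
          show L₀ (φ c • x) = φ c • L₀ x
          rw [hact, map_smul]
          rfl }
    refine ⟨L, LinearMap.ext fun m => ?_, fun L' hL' => ?_⟩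
    · show LinearMap.liftBaseChange G h' (1 ⊗ₜ m) = h m
      rw [LinearMap.liftBaseChange_tmul, one_smul]
      rfl
    · refine LinearMap.ext fun x => ?_
      show L' x = L₀ x
      induction x using TensorProduct.induction_on with
      | zero => rw [map_zero, map_zero]
      | add x y hx hy => rw [map_add, map_add, hx, hy]
      | tmul c m =>
        have hcm : c ⊗ₜ[P] m = φ c • j m := by
          rw [hact]
          show c ⊗ₜ[P] m = c • ((1 : G) ⊗ₜ[P] m)
          rw [TensorProduct.smul_tmul', smul_eq_mul, mul_one]
        rw [LinearMap.liftBaseChange_tmul, hcm, map_smul]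
        show φ c • L' (j m) = φ c • h m
        rw [show L' (j m) = h m from LinearMap.congr_fun hL' m]
  let e : N₀ ≃ₗ[T] N := hjb.equiv.symm.trans hg.equiv
  haveI : Module.Finite T N := Module.Finite.equiv e
  exact ⟨(depth_congr e).symm.trans
      (GrothLib.Faltings.depth_eq_of_surjective (A := G) (A' := T) hφs N₀).symm,
    (Module.supportDim_eq_of_equiv e).symm.trans (GrothLib.CMBasics.supportDim_restrictScalars G T N₀).symm,
    e.toEquiv.subsingleton_congr.symm⟩

end GrothLib.FibPd
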